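import Cfsg.Agent.H96.U2ISpec

/-! # S3275, chapter U2F: the central case of the amalgam `(T F, P)`

Definitions and job statements; proofs in `blueprints/U2Cen.md`. -/

set_option autoImplicit false

namespace H96.Cen

open Subgroup Cfsg H98 H48.DP H96.U2I
open scoped commutatorElement

universe u

/-! ### Modules over the field with two elements -/

/-- `a` is a transvection with centre `c`. -/
def Tm {W : Type u} [AddCommGroup W] (a : Au W) (c : W) : Prop :=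
  c ≠ 0 ∧ (∃ p : W, a • p = p + c) ∧ ∀ p : W, a • p = p ∨ a • p = p + c

/-- An elementary abelian 2-group `A` that acts faithfully on the 3-group `F`. -/
structure Md {W : Type u} [AddCommGroup W] (F A : Subgroup (Au W)) : Prop where
  two : ∀ w : W, w + w = 0
  F3 : IsPGroup 3 F
  el : ∀ a ∈ A, a * a = 1
  nF : A ≤ No F
  fa : ∀ a ∈ A, (∀ f ∈ F, Commute a f) → a = 1

/-- The centre of a transvection on `W₀` has at most three images. -/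
def OL : Prop := ∀ (W : Type u) [AddCommGroup W] [Finite W] (F : Subgroup (Au W)) (a : Au W)
  (W₀ : AddSubgroup W) (c : W), (∀ w : W, w + w = 0) → IsPGroup 3 F → a * a = 1 → a ∈ No F →
  (∀ f ∈ F, ∀ p ∈ W₀, f • p ∈ W₀) → c ∈ W₀ → c ≠ 0 → (∃ p ∈ W₀, a • p = p + c) →
  (∀ p ∈ W₀, a • p = p ∨ a • p = p + c) →
  (∀ f ∈ F, f • c ≠ c → a • f • c = f • c + c) ∧ (MulAction.stabilizer (Au W) c).relIndex F ≤ 3

def TR0 : Prop := ∀ (W : Type u) [AddCommGroup W] [Finite W] (F A : Subgroup (Au W))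
  (H : AddSubgroup W), Md F A → A ≠ ⊥ → (∀ a ∈ A, ∀ p ∈ H, a • p = p) → H.index ≤ Nat.card A →
  ∃ a ∈ A, ∃ c : W, Tm a c

def TR : Prop := ∀ (W : Type u) [AddCommGroup W] [Finite W] (F A : Subgroup (Au W))
  (H : AddSubgroup W), Md F A → (∀ a ∈ A, ∀ p ∈ H, a • p = p) → H.index ≤ Nat.card A →
  Nat.card A ≤ H.index ∧ ∀ K : Subgroup (Au W), ¬ A ≤ K → ∃ a ∈ A, a ∉ K ∧ ∃ c : W, Tm a c

def JobTR : Prop := OL.{u} → TR0.{u} → TR.{u}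

def HY : Prop := ∀ (W : Type u) [AddCommGroup W] [Finite W] (F A K : Subgroup (Au W)) (v : W),
  Md F A → (∀ a ∈ A, ∀ a' ∈ A, ∀ p : W, a' • (a • p + p) = a • p + p) →
  (∀ f ∈ F, f • v = v → f = 1) → (∀ a ∈ A, a ∉ K → ∃ p : W, a • p = p + v) → ¬ A ≤ K →
  Nat.card A ≤ 2

/-- `[W, a]` has at most four elements and contains `v`, whose stabiliser in `F` is trivial. -/
structure Qd {W : Type u} [AddCommGroup W] (F : Subgroup (Au W)) (a : Au W) (v c : W) : Prop where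
  two : ∀ w : W, w + w = 0
  F3 : IsPGroup 3 F
  aa : a * a = 1
  nF : a ∈ No F
  v0 : v ≠ 0
  vp : ∃ p : W, a • p = p + v
  im : ∀ p : W, a • p = p ∨ a • p = p + v ∨ a • p = p + c ∨ a • p = p + (v + c)
  reg : ∀ f ∈ F, f • v = v → f = 1

def Q4a : Prop := ∀ (W : Type u) [AddCommGroup W] [Finite W] (F : Subgroup (Au W)) (a x : Au W)
  (v c : W), Qd F a v c → 27 ≤ Nat.card F → x ∈ F → x ≠ 1 → (∀ f ∈ F, Commute x f) →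
  a * x * a = x⁻¹ → False

def JobQ4a : Prop := OL.{u} → Q4a.{u}

def Q4 : Prop := ∀ (W : Type u) [AddCommGroup W] [Finite W] (F : Subgroup (Au W)) (a : Au W)
  (v c : W), Qd F a v c → E27 F → False

def JobQ4 : Prop := Q4a.{u} → Q4.{u}

/-! ### One vertex -/

variable {G : Type u} [Group G]

/-- `E` is an elementary abelian 3-subgroup of `F` of order at least 9 that centralises `c`. -/
def G9 (F : Subgroup G) (c : G) : Prop :=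
  ∃ E : Subgroup G, E ≤ F ∧ IsElementaryAbelian 3 E ∧ 9 ≤ Nat.card E ∧ E ≤ C1 c

structure Vx (M M0 Q Q0 F U : Subgroup G) (z : G) : Prop where
  MM : M0 ≤ M
  FM : F ≤ M0
  QM : Q0 ≤ M0
  MQ : M ≤ No Q
  QQ : Q ≤ Q0
  UQ : U ≤ Q
  nU : M0 ≤ No U
  nQ : M0 ≤ No Q0
  zU : z ∈ U
  z1 : z ≠ 1
  zM : ∀ m ∈ M0, Commute m z
  el : ∀ a ∈ U, a * a = 1
  ab : ∀ a ∈ U, ∀ b ∈ U, Commute a b
  cQ : ∀ q ∈ Q0, ∀ a ∈ U, ⁅q, a⁆ = 1 ∨ ⁅q, a⁆ = z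
  nF : ∀ m ∈ M0, ∀ f ∈ F, ∃ f' ∈ F, m * f * m⁻¹ * f'⁻¹ ∈ Q0
  F3 : IsPGroup 3 F
  e27 : E27 F
  ff : ∀ f ∈ F, (∀ a ∈ U, ⁅f, a⁆ ∈ zpowers z) → f = 1
  fa : ∀ g ∈ M0, g * g = 1 → (∀ f ∈ F, ⁅g, f⁆ ∈ Q0) → g ∈ Q0
  cz : C1 z ≤ M
  good : ∀ w : G, w ≠ 1 → w * w = 1 → G9 F w → C1 w ≤ M
  ti : TI M
  fix : ∀ g : G, Q ≤ cj g M → g ∈ M

/-- Coordinates on `U / ⟨z⟩`. -/
def TRL : Prop := ∀ (G : Type u) [Group G] [Finite G] (M M0 Q Q0 F U : Subgroup G) (z : G),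
  Vx M M0 Q Q0 F U z → ∃ (W : Type u) (_ : AddCommGroup W) (_ : Finite W)
    (s : Sec W U (zpowers z)), M0 ≤ nn U (zpowers z) ∧ (∀ w : W, w + w = 0) ∧
    (∀ f ∈ F, s.α f = 1 → f = 1) ∧ (∀ g ∈ M0, g * g = 1 → (s.α g = 1 ↔ g ∈ Q0)) ∧
    (∀ m ∈ M0, s.α m ∈ No (s.bar F)) ∧ E27 (s.bar F) ∧
    ∀ A : Subgroup G, A ≤ M0 → (∀ a ∈ A, a * a = 1) →
      Md (s.bar F) (s.bar A) ∧ Nat.card (s.bar A) = (A ⊓ Q0).relIndex A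

/-- `a` is a transvection on `U / ⟨z⟩` with centre the image of `c`. -/
def Tv (U : Subgroup G) (z a c : G) : Prop :=
  c ∉ zpowers z ∧ (∃ b ∈ U, ⁅a, b⁆ = c) ∧ ∀ b ∈ U, ⁅a, b⁆ ∈ zpowers z ∨ ⁅a, b⁆ * c ∈ zpowers z

def TVg : Prop := ∀ (G : Type u) [Group G] [Finite G] (M M0 Q Q0 F U : Subgroup G) (z a c : G),
  Vx M M0 Q Q0 F U z → a ∈ M0 → a * a = 1 → Tv U z a c → G9 F c

def JobTVg : Prop := OL.{u} → TRL.{u} → TVg.{u}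

def TRg : Prop := ∀ (G : Type u) [Group G] [Finite G] (M M0 Q Q0 F U A B : Subgroup G) (z : G),
  Vx M M0 Q Q0 F U z → A ≤ M0 → (∀ a ∈ A, a * a = 1) → B ≤ U →
  (∀ a ∈ A, ∀ b ∈ B, Commute a b) → B.relIndex U ≤ (A ⊓ Q0).relIndex A →
  (A ⊓ Q0).relIndex A ≤ B.relIndex U ∧
    ∀ K : Subgroup G, A ⊓ Q0 ≤ K → ¬ A ≤ K → ∃ a ∈ A, a ∉ K ∧ ∃ c : G, Tv U z a c

def JobTRg : Prop := TR.{u} → TRL.{u} → TRg.{u}

def HQg : Prop := ∀ (G : Type u) [Group G] [Finite G] (M M0 Q Q0 F U A B : Subgroup G) (z w : G),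
  Vx M M0 Q Q0 F U z → A ≤ M0 → (∀ a ∈ A, a * a = 1) →
  (∀ a ∈ A, ∀ a' ∈ A, ∀ b ∈ U, Commute a' ⁅a, b⁆) → B ≤ U → w ∈ U → w ∉ zpowers z →
  (∀ f ∈ F, ⁅f, w⁆ ∈ zpowers z → f = 1) → (∀ a ∈ A, ∀ b ∈ B, ⁅a, b⁆ = 1 ∨ ⁅a, b⁆ = w) →
  (∃ a ∈ A, ∃ b ∈ B, ⁅a, b⁆ = w) → B.relIndex U ≤ (A ⊓ Q0).relIndex A → False

def JobHQg : Prop := HY.{u} → Q4.{u} → TRL.{u} → HQg.{u}

/-! ### Two vertices -/

def KB : Prop := ∀ (G : Type u) [Group G] [Finite G] (M M0 Q Q0 F U : Subgroup G) (z g w : G),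
  Vx M M0 Q Q0 F U z → g ∉ M → w ∈ U → w ∈ cj g U → z ∈ cj g U → w ∉ zpowers z → G9 F w → False

def FX : Prop := ∀ (G : Type u) [Group G] [Finite G] (M M0 Q Q0 F U : Subgroup G) (z g : G),
  Vx M M0 Q Q0 F U z → g ∉ M →
  g * z * g⁻¹ ∉ zpowers z ∧ ∀ f ∈ F, ⁅f, g * z * g⁻¹⁆ ∈ zpowers z → f = 1

def P1 : Prop := ∀ (G : Type u) [Group G] [Finite G] (M M0 Q Q0 F U : Subgroup G) (z g : G),
  Vx M M0 Q Q0 F U z → g ∉ M → cj g U ≤ M0 → cj g⁻¹ U ≤ M0 → ¬ cj g U ≤ Q0 → ¬ cj g⁻¹ U ≤ Q0 →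
  (U ⊓ cj g Q0).relIndex U ≤ (cj g U ⊓ Q0).relIndex (cj g U) →
  (∀ a ∈ cj g U, ∀ b ∈ U ⊓ cj g Q0, Commute a b) → False

def JobP1 : Prop := KB.{u} → TVg.{u} → TRg.{u} → P1.{u}

def Pair : Prop := ∀ (G : Type u) [Group G] [Finite G] (M M0 Q Q0 F U : Subgroup G) (z g : G),
  Vx M M0 Q Q0 F U z → g ∉ M → cj g U ≤ M0 → cj g⁻¹ U ≤ M0 → cj g U ≤ Q0

def JobPair : Prop := FX.{u} → TRg.{u} → HQg.{u} → P1.{u} → Pair.{u}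

/-! ### The amalgam -/

/-- The central case. -/
structure Cn (M Q T R Q0 F : Subgroup G) (y : G) : Prop where
  syl : IsSyl 2 T ⊤
  TM : T ≤ M
  RT : R ≤ T
  MQ : M ≤ No Q
  TR : T ≤ No R
  yR : y ∈ No R
  y3 : orderOf y = 3
  yM : y ∉ M
  mul : ∀ a ∈ T, ∀ b ∈ T, a ∉ R → b ∉ R → a * b ∈ R
  nQ : ∃ q ∈ Q, q ∉ R
  inv : ∀ q ∈ T, q ∉ R → q * y * q⁻¹ * y ∈ R
  o2 : ∀ K : Subgroup G, K ≤ M → M ≤ No K → IsPGroup 2 K → K ≤ Q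
  cq : Ce Q ≤ Q
  ti : TI M
  fix : ∀ g : G, Q ≤ cj g M → g ∈ M
  eq9 : ∀ D E : Subgroup G, IsPGroup 2 D → D ≠ ⊥ → E ≤ M → IsElementaryAbelian 3 E →
    9 ≤ Nat.card E → E ≤ No D → No D ≤ M
  QQ : Q ≤ Q0
  QT : Q0 ≤ T
  TQ : T ≤ No Q0
  FQ : F ≤ No Q0
  FM : F ≤ M
  F3 : IsPGroup 3 F
  TF : ∀ t ∈ T, ∀ f ∈ F, ∃ f' ∈ F, t * f * t⁻¹ * f'⁻¹ ∈ Q0
  fd : ∀ t ∈ T, (∀ f ∈ F, ⁅t, f⁆ ∈ Q0) → t ∈ Q0
  e27 : E27 F
  cen : ∀ w ∈ T, w ∈ Ce T → w * w = 1 → w ∈ Ce F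
  nsq : ∃ a ∈ Q ⊓ R, y * (a * a) * y⁻¹ ∉ Q0

def CEN : Prop := ∀ (G : Type u) [Group G] [Finite G] (M Q T R Q0 F : Subgroup G) (y : G),
  Cn M Q T R Q0 F y → False

/-- The point `z` and the line `⟨z, z^y⟩`. -/
structure Zv (M T R : Subgroup G) (y z : G) : Prop where
  z1 : z ≠ 1
  zz : z * z = 1
  zR : z ∈ R
  zc : z ∈ Ce T
  cz : C1 z ≤ M
  vR : y * z * y⁻¹ ∈ R
  vc : y * z * y⁻¹ ∈ Ce R
  cm : ∀ t ∈ T, t ∉ R → ⁅t, y * z * y⁻¹⁆ = z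

def JobZ : Prop := HH.{u} → ∀ (G : Type u) [Group G] [Finite G] (M Q T R Q0 F : Subgroup G) (y : G),
  Cn M Q T R Q0 F y → ∃ z : G, Zv M T R y z

def SQ : Prop := ∀ (G : Type u) [Group G] [Finite G] (M Q T R Q0 F K : Subgroup G) (y u : G),
  Cn M Q T R Q0 F y → T ≤ No K → K ≤ Q0 → u ∈ K → u ∉ R →
  (∀ c ∈ K ⊓ R, y * (c * c) * y⁻¹ ∈ Q0) → False

/-- `v ∈ Q`, and the conjugates of `v` under `C(z)` lie in `R`. -/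
def AB (Q R : Subgroup G) (z v : G) : Prop := v ∈ Q ∧ ∀ h ∈ C1 z, h * v * h⁻¹ ∈ R

def JobAB : Prop := SQ.{u} → ∀ (G : Type u) [Group G] [Finite G] (M Q T R Q0 F : Subgroup G)
  (y z : G), Cn M Q T R Q0 F y → Zv M T R y z → AB Q R z (y * z * y⁻¹)

/-- The normal closure of `v` in `M₀`. -/
def Uv (M0 : Subgroup G) (v : G) : Subgroup G := closure {w | ∃ m ∈ M0, w = m * v * m⁻¹}

def JobVx : Prop := ∀ (G : Type u) [Group G] [Finite G] (M Q T R Q0 F : Subgroup G) (y z : G),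
  Cn M Q T R Q0 F y → Zv M T R y z → AB Q R z (y * z * y⁻¹) →
  Vx M (T ⊔ F) Q Q0 F (Uv (T ⊔ F) (y * z * y⁻¹)) z

def JobWalk : Prop := Pair.{u} → ∀ (G : Type u) [Group G] [Finite G] (M Q T R Q0 F : Subgroup G)
  (y z : G), Cn M Q T R Q0 F y → Zv M T R y z → AB Q R z (y * z * y⁻¹) →
  Vx M (T ⊔ F) Q Q0 F (Uv (T ⊔ F) (y * z * y⁻¹)) z → False

theorem cen_of (hh : HH.{u}) (ol : OL.{u}) (tr0 : TR0.{u}) (tr : JobTR.{u}) (hy : HY.{u})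
    (q4a : JobQ4a.{u}) (q4 : JobQ4.{u}) (trl : TRL.{u}) (tvg : JobTVg.{u}) (trg : JobTRg.{u})
    (hqg : JobHQg.{u}) (kb : KB.{u}) (fx : FX.{u}) (p1 : JobP1.{u}) (pair : JobPair.{u})
    (jz : JobZ.{u}) (sq : SQ.{u}) (ab : JobAB.{u}) (vx : JobVx.{u}) (walk : JobWalk.{u}) :
    CEN.{u} := by
  intro G _ _ M Q T R Q0 F y c
  obtain ⟨z, hz⟩ := jz hh G M Q T R Q0 F y c
  have a := ab sq G M Q T R Q0 F y z c hz
  have t := trg (tr ol tr0) trl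
  exact walk (pair fx t (hqg hy (q4 (q4a ol)) trl) (p1 kb (tvg ol trl) t)) G M Q T R Q0 F y z c hz a
    (vx G M Q T R Q0 F y z c hz a)

end H96.Cen
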