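import Cfsg.Agent.H48.DP2Spec
import Cfsg.Agent.H98.Exc

/-! # S3275, chapter U2I: the element of order 3 is fixed point free on `O₂(P)`

Definitions and job statements; proofs in `blueprints/U2I.md`. -/

set_option autoImplicit false

namespace H96.U2I

open Subgroup Cfsg H98 H48.DP H57.DPC H48.DP2
open scoped commutatorElement

universe u

variable {G : Type u} [Group G]

/-- `Ω₁ Z(Q)`. -/
def Yq (Q : Subgroup G) : Subgroup G where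
  carrier := {z | z ∈ Q ∧ z ∈ Ce Q ∧ z * z = 1}
  one_mem' := ⟨one_mem _, one_mem _, one_mul 1⟩
  mul_mem' := fun {a b} ha hb => ⟨mul_mem ha.1 hb.1, mul_mem ha.2.1 hb.2.1, by
    have e : b * a = a * b := mem_centralizer_iff.1 ha.2.1 b hb.1
    calc a * b * (a * b) = a * (b * a) * b := by group
      _ = (a * a) * (b * b) := by rw [e]; group
      _ = 1 := by rw [ha.2.2, hb.2.2, one_mul]⟩
  inv_mem' := fun {a} ha => ⟨inv_mem ha.1, inv_mem ha.2.1, by rw [← mul_inv_rev, ha.2.2, inv_one]⟩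

theorem mem_Yq {Q : Subgroup G} {z : G} : z ∈ Yq Q ↔ z ∈ Q ∧ z ∈ Ce Q ∧ z * z = 1 := Iff.rfl

theorem Yq_conj {Q : Subgroup G} {m z : G} (hm : m ∈ No Q) (hz : z ∈ Yq Q) :
    m * z * m⁻¹ ∈ Yq Q :=
  ⟨conj_mem_of_mem_normalizer hm hz.1,
    conj_mem_of_mem_normalizer (normalizer_le_normalizer_centralizer Q hm) hz.2.1, by
    calc m * z * m⁻¹ * (m * z * m⁻¹) = m * (z * z) * m⁻¹ := by group
      _ = 1 := by rw [hz.2.2]; group⟩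

/-- `D₀ = R_Q ∩ R_Q^y` for `R_Q = Q ∩ R`. -/
abbrev D0 (Q R : Subgroup G) (y : G) : Subgroup G := Q ⊓ R ⊓ cj y (Q ⊓ R)

/-- A fixed point free element of order 3. -/
structure Fp (R : Subgroup G) (y : G) : Prop where
  f1 : ∀ r ∈ R, r * (y * r * y⁻¹) * (y⁻¹ * r * y) = 1
  f2 : ∀ a ∈ R, ∀ b ∈ R, ⁅a, y * b * y⁻¹⁆ = y⁻¹ * ⁅a, b⁆ * y
  fpf : ∀ r ∈ R, ∀ w ∈ R, Commute (r * y) w → w = 1
  surj : ∀ r ∈ R, ∀ a ∈ R, ∃ w ∈ R, a = ⁅r * y, w⁆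

def F0 : Prop := ∀ (G : Type u) [Group G] [Finite G] (R : Subgroup G) (y : G), IsPGroup 2 R →
  orderOf y = 3 → y ∈ No R → R ⊓ C1 y = ⊥ → Fp R y

/-- Elements of order 3 of `M` are not fused outside `M`. -/
def TI (M : Subgroup G) : Prop :=
  ∀ x g : G, orderOf x = 3 → x ∈ M → g * x * g⁻¹ ∈ M → g ∈ M

def E27 (M : Subgroup G) : Prop :=
  ∃ B : Subgroup G, B ≤ M ∧ IsElementaryAbelian 3 B ∧ 27 ≤ Nat.card B

/-- The standing situation. -/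
structure Cx (M Q T R : Subgroup G) (y : G) : Prop where
  syl : IsSyl 2 T ⊤
  TM : T ≤ M
  QT : Q ≤ T
  RT : R ≤ T
  MQ : M ≤ No Q
  TR : T ≤ No R
  yR : y ∈ No R
  y3 : orderOf y = 3
  idx : R.relIndex T = 2
  mul : ∀ a ∈ T, ∀ b ∈ T, a ∉ R → b ∉ R → a * b ∈ R
  nQ : ∃ q ∈ Q, q ∉ R
  inv : ∀ q ∈ T, q ∉ R → q * y * q⁻¹ * y ∈ R
  o2 : ∀ K : Subgroup G, K ≤ M → M ≤ No K → IsPGroup 2 K → K ≤ Q
  cq : Ce Q ≤ Q
  e27 : E27 M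
  ti : TI M
  fp : Fp R y

def CX : Prop := ∀ (G : Type u) [Group G] [Finite G] (M Q T R : Subgroup G) (y t : G),
  Uq M Q → Am M T R y t → R ⊓ C1 y = ⊥ → Cx M Q T R y

def JobCX : Prop := F0.{u} → CX.{u}

structure B0 (Q T R : Subgroup G) (y : G) : Prop where
  gen : ∀ r ∈ R, ∃ a ∈ Q ⊓ R, ∃ b ∈ Q ⊓ R, r = a * (y * b * y⁻¹)
  dy : ∀ d ∈ D0 Q R y, y * d * y⁻¹ ∈ D0 Q R y
  com : ∀ a ∈ R, ∀ b ∈ R, ⁅a, b⁆ ∈ D0 Q R y
  sur : ∀ a ∈ Q ⊓ R, ∀ q ∈ Q, q ∉ R → ⁅q, y * a * y⁻¹⁆ * a⁻¹ ∈ D0 Q R y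
  cent : ∀ w ∈ R, ∀ q ∈ T, ∀ q' ∈ T, q ∉ R → q' ∉ R → Commute q w → Commute (y * q' * y⁻¹) w →
    w = 1

def JobB0 : Prop := ∀ (G : Type u) [Group G] [Finite G] (M Q T R : Subgroup G) (y : G),
  Cx M Q T R y → B0 Q T R y

structure YY (Q R : Subgroup G) (y : G) : Prop where
  le : Yq Q ≤ R
  cR : Yq Q ≤ Ce R
  vQ : ∀ z ∈ Yq Q, y * z * y⁻¹ ∈ Q
  cm : ∀ z ∈ Yq Q, ∀ q ∈ Q, q ∉ R → ⁅q, y * z * y⁻¹⁆ = z
  i1 : ∀ z ∈ Yq Q, y * z * y⁻¹ ∈ Yq Q → z = 1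
  nt : ∃ z ∈ Yq Q, z ≠ 1
  cd : ∀ v ∈ Q ⊓ R, (∀ g ∈ Q, ⁅v, g⁆ ∈ Yq Q) → ∀ d ∈ D0 Q R y, Commute v d

def JobYY : Prop := ∀ (G : Type u) [Group G] [Finite G] (M Q T R : Subgroup G) (y : G),
  Cx M Q T R y → B0 Q T R y → Yq Q ≤ R → YY Q R y

/-- `V = Y × Y^y`. -/
structure VV (M Q T R V : Subgroup G) (y : G) : Prop where
  yV : y ∈ No V
  TV : T ≤ No V
  RV : R ≤ Ce V
  QV : ∀ q ∈ Q, q ∈ Ce V → q ∈ R
  yy : y * y ∉ Ce V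
  MV : ∀ m ∈ M, m ∈ No (Q ⊓ R) → m ∈ No V

def JobVV : Prop := ∀ (G : Type u) [Group G] [Finite G] (M Q T R : Subgroup G) (y : G),
  Cx M Q T R y → YY Q R y → ∃ V : Subgroup G, VV M Q T R V y

/-- Elements of order 3 of `H` are conjugate in `H` into `M`. -/
def HH : Prop := ∀ (G : Type u) [Group G] [Finite G] (M H : Subgroup G) (e y : G), TI M →
  e ∈ M → e ∈ H → orderOf e = 3 → y ∈ H → orderOf y = 3 → ∃ h ∈ H, h * y * h⁻¹ ∈ M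

/-- No element of order 3 of `M` normalises `Q ∩ R`. -/
def No3 (M Q R : Subgroup G) : Prop := ∀ e ∈ M, orderOf e = 3 → e ∉ No (Q ⊓ R)

def JobNV : Prop := HH.{u} → ∀ (G : Type u) [Group G] [Finite G] (M Q T R V : Subgroup G) (y : G),
  Cx M Q T R y → VV M Q T R V y → No3 M Q R

/-- A Sylow 2-subgroup that consists of all transvections with axis `H`. -/
def TLa : Prop := ∀ (W : Type u) [AddCommGroup W] [Finite W] (X T : Subgroup (Au W))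
  (H : AddSubgroup W) (q : W), (∀ w : W, w + w = 0) → IsSyl 2 T X → q ∉ H →
  (∀ p : W, p ∈ H ∨ p + q ∈ H) → (∀ t ∈ T, ∀ p ∈ H, t • p = p) →
  (∀ c ∈ H, ∃ t ∈ T, t • q = q + c) →
  ∀ g ∈ X, (∀ p ∈ H, g • p ∈ H) ∨ ∀ p ∈ H, g • p ∈ H → p = 0

def TL : Prop := ∀ (G : Type u) [Group G] [Finite G] (M Q T R N : Subgroup G) (y : G),
  Cx M Q T R y → B0 Q T R y → M ≤ No N → D0 Q R y ≤ N → N ≤ Q ⊓ R → (∀ g ∈ Q, g * g ∈ N) →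
  (∀ a ∈ Q, ∀ b ∈ Q, ⁅a, b⁆ ∈ N) →
  (∀ m ∈ M, m ∈ No (Q ⊓ R) ∨ Q ⊓ R ⊓ cj m (Q ⊓ R) ≤ N) ∧ ¬ No3 M Q R

def JobTL : Prop := TLa.{u} → TL.{u}

def JobB1 : Prop := TL.{u} → ∀ (G : Type u) [Group G] [Finite G] (M Q T R : Subgroup G) (y : G),
  Cx M Q T R y → B0 Q T R y → Yq Q ≤ R

/-- `Y = ⟨z⟩`, and an `M`-conjugate of `z^y` is outside `R`. -/
structure Z2 (M Q R : Subgroup G) (y z m : G) : Prop where
  z1 : z ≠ 1
  zY : z ∈ Yq Q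
  two : ∀ a ∈ Yq Q, a = 1 ∨ a = z
  mM : m ∈ M
  uR : m * (y * z * y⁻¹) * m⁻¹ ∉ R

def JobB4 : Prop := TL.{u} → ∀ (G : Type u) [Group G] [Finite G] (M Q T R : Subgroup G) (y : G),
  Cx M Q T R y → B0 Q T R y → YY Q R y → No3 M Q R → ∃ z m : G, Z2 M Q R y z m

/-- The symplectic section `U / Z(U)`. -/
structure Sy (M T U : Subgroup G) (z v u : G) : Prop where
  syl : IsSyl 2 T M
  MU : M ≤ No U
  UT : U ≤ T
  z1 : z ≠ 1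
  zz : z * z = 1
  zM : ∀ m ∈ M, Commute m z
  com : ∀ a ∈ U, ∀ b ∈ U, ⁅a, b⁆ = 1 ∨ ⁅a, b⁆ = z
  vU : v ∈ U
  uU : u ∈ U
  uv : ¬ Commute u v
  tr : ∀ t ∈ T, ∀ p ∈ U, Commute p v → ⁅t, p⁆ ∈ Ce U ∨ ⁅t, p⁆ * v ∈ Ce U
  sur : ∀ r ∈ U, Commute r v → ∃ t ∈ T, ⁅t, u⁆ * r ∈ Ce U ∨ ⁅t, u⁆ * r * v ∈ Ce U
  fix : ∀ x ∈ M, orderOf x = 3 → ⁅x, v⁆ ∉ Ce U
  e27 : E27 M

def JobB5a : Prop := ∀ (G : Type u) [Group G] [Finite G] (M Q T R : Subgroup G) (y z m : G),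
  Cx M Q T R y → B0 Q T R y → YY Q R y → No3 M Q R → Z2 M Q R y z m →
  ∃ U : Subgroup G, Sy M T U z (y * z * y⁻¹) (m * (y * z * y⁻¹) * m⁻¹)

/-- A Sylow 2-subgroup inside the unipotent radical of the stabiliser of `v`. -/
structure Geo {W : Type u} [AddCommGroup W] (f : W → W → ZMod 2) (X T : Subgroup (Au W))
    (v u : W) : Prop where
  two : ∀ w : W, w + w = 0
  add : ∀ a b c : W, f (a + b) c = f a c + f b c
  sym : ∀ a b : W, f a b = f b a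
  alt : ∀ a : W, f a a = 0
  nd : ∀ a : W, (∀ b : W, f a b = 0) → a = 0
  inv : ∀ g ∈ X, ∀ a b : W, f (g • a) (g • b) = f a b
  syl : IsSyl 2 T X
  uv : f u v = 1
  tr : ∀ t ∈ T, ∀ p : W, f p v = 0 → t • p = p ∨ t • p = p + v
  sur : ∀ r : W, f r v = 0 → ∃ t ∈ T, t • u = u + r ∨ t • u = u + r + v

def GA : Prop := ∀ (W : Type u) [AddCommGroup W] [Finite W] (f : W → W → ZMod 2)
  (X T : Subgroup (Au W)) (v u : W), Geo f X T v u →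
  ∀ g ∈ X, g • v ≠ v → f (g • v) v = 0 → Nat.card W ≤ 16

def GB : Prop := ∀ (W : Type u) [AddCommGroup W] [Finite W] (f : W → W → ZMod 2)
  (X T : Subgroup (Au W)) (v u : W), Geo f X T v u →
  (∀ g ∈ X, g • v ≠ v → f (g • v) v = 1) → ∀ g ∈ X, g • v ≠ v → Nat.card W ≤ 16

def JobB5b : Prop := GA.{u} → GB.{u} → ∀ (G : Type u) [Group G] [Finite G] (M T U : Subgroup G)
  (z v u : G), Sy M T U z v u → False

theorem u2i_of (f0 : F0.{u}) (cx : JobCX.{u}) (b0 : JobB0.{u}) (yy : JobYY.{u}) (vv : JobVV.{u})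
    (hh : HH.{u}) (nv : JobNV.{u}) (tla : TLa.{u}) (tl : JobTL.{u}) (b1 : JobB1.{u})
    (b4 : JobB4.{u}) (b5a : JobB5a.{u}) (ga : GA.{u}) (gb : GB.{u}) (b5b : JobB5b.{u}) :
    U2I.{u} := by
  intro G _ _ M Q T R y t hu ha hf
  have c := cx f0 G M Q T R y t hu ha hf
  have b := b0 G M Q T R y c
  have hy := yy G M Q T R y c b (b1 (tl tla) G M Q T R y c b)
  obtain ⟨V, hv⟩ := vv G M Q T R y c hy
  have n := nv hh G M Q T R V y c hv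
  obtain ⟨z, m, hz⟩ := b4 (tl tla) G M Q T R y c b hy n
  obtain ⟨U, hs⟩ := b5a G M Q T R y z m c b hy n hz
  exact b5b ga gb G M T U z _ _ hs

end H96.U2I
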