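import Cfsg.Agent.H78.S2Kit

/-! STD-SP chapter II: jobs NK (normaliser kit) and P2a (torus trick). -/

set_option autoImplicit false
set_option linter.unusedSectionVars false

namespace H96.SP2N

open H64.SG (Cz Cs Ns)
open H67.UA hiding Par
open H67.SP H78.S2 Subgroup
open H86.SPI (ok pp hf_self hf_comm EE_mul' EE_comm EE_sq hf_smul_right' qq_add_smul qq_sq qq_conj
  qq_zero_left)

universe u

variable {n : ℕ} {F : Type} [Field F] [StarRing F] [TrivialStar F] [CharP F 2] [Finite F] [Par n F]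

theorem h01 : hf (ev 0 : Vn n F) (ev 1) = 0 := by
  have h5 := Par.five (n := n) (F := F)
  rw [H54.SPF.hf_evv, H54.SPF.v1 h5, if_neg (by simp; omega)]

theorem hc (c : F) : hf (c • ev 1 : Vn n F) (ev 0) = 0 := by
  rw [hf_smul_left, hf_symm h01, mul_zero]

theorem li01 : Li (ev 0 : Vn n F) (ev 1) := fun a b k => by
  have h5 := Par.five (n := n) (F := F)
  have h : (0 : Fin (n + 1)) ≠ 1 := fun k => by
    have := congrArg Fin.val k
    rw [H54.SPF.v1 h5] at this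
    simp at this
  have k0 := congrFun k 0
  have k1 := congrFun k 1
  simp only [Pi.add_apply, Pi.smul_apply, ev_apply, if_true, if_neg h, if_neg h.symm, smul_eq_mul,
    mul_one, mul_zero, add_zero, zero_add, Pi.zero_apply] at k0 k1
  exact ⟨k0, k1⟩

theorem zs0 : (zs 0 : XU n F) = 1 := by rw [zs, zero_smul, qq_zero_left]

theorem zs_inj {c d : F} (h : (zs c : XU n F) = zs d) : c = d := by
  obtain ⟨⟨a, ha⟩, -⟩ := EE_inj' (ev_ne 0) (hc c) (hc d) h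
  have := (li01 (n := n) a (c + d) (by rw [add_smul, ha, add_comm (a • _), ← add_assoc, v_add_self,
    zero_add, v_add_self])).2
  exact CharTwo.add_eq_zero.1 this

variable {G : Type u} [Group G] {e : XU n F →* G} {t g : G}

theorem nor_map {H : Subgroup (XU n F)} (h : g ∈ Ns (H.map e)) {p : XU n F} (hp : p ∈ H) :
    ∃ p' ∈ H, g * e p * g⁻¹ = e p' := by
  obtain ⟨p', h1, h2⟩ := (mem_normalizer_iff.1 h (e p)).1 ⟨p, hp, rfl⟩
  exact ⟨p', h1, h2.symm⟩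

theorem nor_zs (b : Base n F) (c : FC n F) (h : g ∈ Ns ((Qk n F 2).map e)) (a : F) :
    ∃ a', g * e (zs a) * g⁻¹ = e (zs a') := by
  have h1 : ZS n F ≤ ((ZS n F).map e).comap ((MulAut.conj g).toMonoidHom.comp e) := by
    rw [← c.zq, commutator_le]
    intro p hp q hq
    obtain ⟨p', p1, p2⟩ := nor_map h hp
    obtain ⟨q', q1, q2⟩ := nor_map h hq
    refine ⟨_, commutator_mem_commutator p1 q1, ?_⟩
    rw [map_commutatorElement, map_commutatorElement, ← p2, ← q2]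
    rfl
  obtain ⟨p, h2, h3⟩ := h1 ((b.mem_Zs _ _ h01 _).2 ⟨a, rfl⟩)
  obtain ⟨a', rfl⟩ := (b.mem_Zs _ _ h01 _).1 h2
  exact ⟨a', h3.symm⟩

theorem comm_tr {p q p' q' : G} (h1 : g * p * g⁻¹ = p') (h2 : g⁻¹ * q * g⁻¹⁻¹ = q')
    (h : q' * p = p * q') : q * p' = p' * q := by
  rw [← h2] at h
  rw [← h1]
  calc _ = g * (g⁻¹ * q * g⁻¹⁻¹ * p) * g⁻¹ := by group
    _ = _ := by rw [h]; group

theorem nor_mm (c : FC n F) (x : FX n F) (v : BV e t) (h : g ∈ Ns ((Qk n F 2).map e))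
    {p : XU n F} (hp : p ∈ Mk n F 2) : ∃ p' ∈ Mk n F 2, g * e p * g⁻¹ = e p' := by
  obtain ⟨p', h1, h2⟩ := nor_map h ((x.nf p).2 ⟨0, 0, ⟨hf_zero_left _, hf_zero_left _⟩,
    ⟨hf_zero_left _, hf_zero_left _⟩, p, hp, by simp only [qq_zero_left, one_mul]⟩)
  refine ⟨p', ?_, h2⟩
  rw [← c.cq] at hp ⊢
  intro q hq
  obtain ⟨q', k1, k2⟩ := nor_map (inv_mem h) hq
  apply v.inj
  rw [map_mul, map_mul]
  exact comm_tr h2 k2 (by rw [← map_mul, ← map_mul, hp q' k1])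

theorem te_of_mem (v : BV e t) {H : Subgroup (XU n F)} (h : g ∈ zpowers t ⊔ H.map e) :
    ∃ p ∈ H, Te e t g p := by
  let A : Subgroup G :=
    { carrier := {g | ∃ p ∈ H, Te e t g p}
      one_mem' := ⟨1, H.one_mem, Or.inl (map_one e).symm⟩
      mul_mem' := by
        rintro _ _ ⟨p, hp, rfl | rfl⟩ ⟨q, hq, rfl | rfl⟩ <;> refine ⟨p * q, H.mul_mem hp hq, ?_⟩
        · exact Or.inl (map_mul e p q).symm
        · exact Or.inr (by rw [← mul_assoc, ← v.cen, mul_assoc, map_mul])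
        · exact Or.inr (by rw [mul_assoc, map_mul])
        · exact Or.inl (by rw [v.cen p, mul_assoc, ← mul_assoc t, v.tt, one_mul, map_mul])
      inv_mem' := by
        rintro _ ⟨p, hp, rfl | rfl⟩ <;> refine ⟨p⁻¹, H.inv_mem hp, ?_⟩
        · exact Or.inl (map_inv e p).symm
        · exact Or.inr (by rw [mul_inv_rev, inv_eq_of_mul_eq_one_left v.tt, ← map_inv, v.cen]) }
  refine (show zpowers t ⊔ H.map e ≤ A from sup_le (zpowers_le.2 ⟨1, H.one_mem, Or.inr ?_⟩) ?_) h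
  · rw [map_one, mul_one]
  · rintro _ ⟨p, hp, rfl⟩
    exact ⟨p, hp, Or.inl rfl⟩

theorem nk (b : Base n F) (c : FC n F) (x : FX n F) (v : BV e t) : NK e t := by
  have cc : ∀ g, Nz e t g → ∀ p ∈ CC n F, ∃ p' ∈ CC n F, Te e t (g * e p * g⁻¹) p' :=
    fun g h p hp => te_of_mem v ((mem_normalizer_iff.1 h.c1 (e p)).1 (mem_sup_right ⟨p, hp, rfl⟩))
  refine ⟨fun g g' h h' => ⟨?_, mul_mem h.c1 h'.c1, mul_mem h.q2 h'.q2⟩,
    fun g h => ⟨?_, inv_mem h.c1, inv_mem h.q2⟩, fun p h0 h1 => ⟨⟨0, ?_⟩, ?_, ?_⟩, cc,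
    fun g h p hp => ?_, fun g h p hp => nor_map h.q2 hp, fun g h p hp => nor_mm c x v h.q2 hp,
    fun g h a => nor_zs b c h.q2 a⟩
  · obtain ⟨a, ha⟩ := h.tz
    obtain ⟨a', ha'⟩ := h'.tz
    obtain ⟨d, hd⟩ := nor_zs b c h.q2 a'
    refine ⟨a + d, ?_⟩
    rw [show g * g' * t * (g * g')⁻¹ = g * (g' * t * g'⁻¹) * g⁻¹ by group, ha', ← conj_mul, ha, hd,
      mul_assoc, ← map_mul, qq_add_smul h01]
  · obtain ⟨a, ha⟩ := h.tz
    obtain ⟨d, hd⟩ := nor_zs b c (inv_mem h.q2) a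
    refine ⟨d, ?_⟩
    have : g⁻¹ * t * g⁻¹⁻¹ * e (zs d) = t := by rw [← hd, conj_mul, ← ha]; group
    rw [eq_mul_inv_of_mul_eq this, ← map_inv, inv_eq_of_mul_eq_one_left (qq_sq (hc d))]
  · rw [zs0, map_one, mul_one, ← v.cen, mul_inv_cancel_right]
  · refine normalizer_inf_normalizer_le_normalizer_sup _ _ ⟨centralizer_le_normalizer _ ?_,
      le_normalizer_map e ⟨p, (x.nrm p h0 h1).2.2.1, rfl⟩⟩
    rintro _ ⟨k, rfl⟩
    exact ((show Commute t (e p) from v.cen p).zpow_left k).eq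
  · exact le_normalizer_map e ⟨p, (x.nrm p h0 h1).1, rfl⟩
  · obtain ⟨p', h1, h2⟩ := cc g h p ((x.memC p).2 ⟨1, 0, 0, 1, by
      rw [mem_Stab.1 hp.1, one_smul, zero_smul, add_zero], by
      rw [mem_Stab.1 hp.2, one_smul, zero_smul, zero_add], by simp⟩)
    refine ⟨p', ?_, h2⟩
    rw [← x.cM] at hp ⊢
    intro q hq
    obtain ⟨q', k1, k2⟩ := nor_mm c x v (inv_mem h.q2) hq
    have k3 := fun {p'} (h2 : g * e p * g⁻¹ = p') =>
      comm_tr h2 k2 (by rw [← map_mul, ← map_mul, hp q' k1])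
    apply v.inj
    rw [map_mul, map_mul]
    rcases h2 with h2 | h2
    · exact k3 h2
    · have := k3 h2
      rwa [← mul_assoc, ← v.cen, mul_assoc, mul_assoc, mul_right_inj] at this

theorem jobNK : H78.S2.JobNK.{u} := by
  intro n F _ _ _ _ _ _ G _ _ e t b c x _ v
  exact nk b c x v

theorem wk_add (x : FX n F) {y y' : Vn n F} (h : Wk 2 y) (h' : Wk 2 y') : Wk 2 (y + y') :=
  fun i hi => by rw [Pi.add_apply, h i hi, h' i hi, add_zero]

theorem wk_smul (a : F) {y : Vn n F} (h : Wk 2 y) : Wk 2 (a • y) :=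
  fun i hi => by rw [Pi.smul_apply, h i hi, smul_zero]

theorem torus (b : Base n F) (x : FX n F) {l : F} (hl : l ≠ 0) : ∃ h : XU n F,
    ac h (ev 0) = l • ev 0 ∧ ac h (ev 1) = l • ev 1 ∧
      ∀ p ∈ P2 n F, p⁻¹ * h * p * h⁻¹ ∈ Qk n F 2 := by
  have h5 := Par.five (n := n) (F := F)
  obtain ⟨h, h0, h1, h2⟩ := x.lev l 0 0 l (by simpa using hl)
  rw [zero_smul, add_zero] at h0
  rw [zero_smul, zero_add] at h1
  have sc : ∀ m, Wk 2 m → ac h m = l • m := fun m hm => by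
    obtain ⟨a, c, rfl⟩ := (x.wk m).1 hm
    rw [ac_add, ac_smul, ac_smul, h0, h1, smul_add, smul_comm a, smul_comm c]
  have fx : ∀ p ∈ P2 n F, ∀ m, Wk 2 m → ac p m = m := fun p hp m hm => by
    obtain ⟨a, c, rfl⟩ := (x.wk m).1 hm
    rw [ac_add, ac_smul, ac_smul, mem_Stab.1 hp.1, mem_Stab.1 hp.2]
  have mv : ∀ y, Pl y → ∃ m, Wk 2 m ∧ ac h y = y + m := fun y hy => by
    by_cases hw : Wk 2 y
    · exact ⟨y + l • y, wk_add x hw (wk_smul l hw), by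
        rw [sc y hw, ← add_assoc, v_add_self, zero_add]⟩
    · obtain ⟨y₀, m, k1, -, k2, rfl⟩ := x.dec y ⟨hy, hw⟩
      exact ⟨m + l • m, wk_add x k2 (wk_smul l k2), by
        rw [ac_add, h2 y₀ k1, sc m k2, add_assoc, ← add_assoc m, v_add_self, zero_add]⟩
  refine ⟨h, h0, h1, fun p hp => (b.mem_Qk 2 (by omega) _).2 ⟨fun m hm => ?_, fun y hy => ?_⟩⟩
  · have k : ac h⁻¹ m = l⁻¹ • m := ac_inj h (by
      rw [ac_ac_inv, ac_smul, sc m hm, inv_smul_smul₀ hl])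
    rw [ac_mul, ac_mul, ac_mul, k, fx p hp _ (wk_smul _ hm), ac_smul, sc m hm, inv_smul_smul₀ hl,
      fx _ (inv_mem hp) m hm]
  · have py : Pl y := ⟨(b.wk_perp 2 (by omega) y).1 hy _ ((x.wk _).2 ⟨1, 0, by simp⟩),
      (b.wk_perp 2 (by omega) y).1 hy _ ((x.wk _).2 ⟨0, 1, by simp⟩)⟩
    have pz : Pl (ac h⁻¹ y) := ⟨by rw [hf_ac_left, inv_inv, h0, hf_smul_right', py.1, mul_zero],
      by rw [hf_ac_left, inv_inv, h1, hf_smul_right', py.2, mul_zero]⟩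
    have pw : Pl (ac p (ac h⁻¹ y)) := ⟨by rw [← mem_Stab.1 hp.1, hf_ac, pz.1],
      by rw [← mem_Stab.1 hp.2, hf_ac, pz.2]⟩
    obtain ⟨m, m1, m2⟩ := mv _ pz
    obtain ⟨m', m3, m4⟩ := mv _ pw
    rw [ac_ac_inv] at m2
    rw [ac_mul, ac_mul, ac_mul, m4, ac_add, ac_inv_ac, fx _ (inv_mem hp) m' m3]
    nth_rewrite 2 [m2]
    rw [add_add_add_comm, v_add_self, zero_add]
    exact wk_add x m3 m1

theorem p2a (b : Base n F) (x : FX n F) (v : BV e t) (k : NK e t) (h4 : 4 ≤ Nat.card F)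
    (hg : Nz e t g) (mv : g * t * g⁻¹ ≠ t) : ∃ g', Kq e t g' := by
  obtain ⟨l, l0, l1⟩ : ∃ l : F, l ≠ 0 ∧ l ≠ 1 := by
    by_contra hn
    have : (Set.univ : Set F) ⊆ {0, 1} := fun l _ => by
      by_contra h
      simp only [Set.mem_insert_iff, Set.mem_singleton_iff, not_or] at h
      exact hn ⟨l, h⟩
    have h2 := Set.ncard_le_ncard this
    rw [Set.ncard_univ, Set.ncard_pair zero_ne_one] at h2
    omega
  obtain ⟨h, h0, h1, h2⟩ := torus b x l0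
  have hi := k.inv g hg
  refine ⟨g * e h * g⁻¹, k.mul _ _ (k.mul _ _ hg (k.ofX h ((x.wk _).2 ⟨l, 0, by simp [h0]⟩)
    ((x.wk _).2 ⟨0, l, by simp [h1]⟩))) hi, fun k1 => ?_, fun y hy => ?_⟩
  · obtain ⟨c, hc'⟩ := hi.tz
    have k2 : e h * (g⁻¹ * t * g⁻¹⁻¹) * (e h)⁻¹ = g⁻¹ * t * g⁻¹⁻¹ := by
      nth_rewrite 2 [← k1]
      group
    rw [hc', ← mul_assoc, ← v.cen, mul_assoc, mul_assoc, mul_right_inj, ← mul_assoc, ← map_inv,
      ← map_mul, ← map_mul, qq_conj h (hc c), ac_smul, h0, h1, ← qq_smul', smul_smul,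
      smul_smul] at k2
    have k3 := zs_inj (v.inj k2)
    have c0 : c = 0 := by
      have : c * (l + 1) ^ 2 = 0 := by
        rw [CharTwo.add_sq, mul_add, one_pow, mul_one, CharTwo.add_eq_zero, ← k3]
        nth_rewrite 1 [k3]
        ring
      exact (mul_eq_zero.1 this).resolve_right
        (pow_ne_zero _ fun k => l1 (CharTwo.add_eq_zero.1 k))
    rw [c0, zs0, map_one, mul_one] at hc'
    refine mv ?_
    nth_rewrite 1 [← hc']
    group
  · obtain ⟨p, hp, k1⟩ := k.pp _ hi (TT y)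
      ⟨mem_Stab.2 (ac_Tc_fix 1 (hf_symm hy.1.1)), mem_Stab.2 (ac_Tc_fix 1 (hf_symm hy.1.2))⟩
    obtain ⟨a, ha, k2⟩ := k.qq g hg _ (h2 p hp)
    refine ⟨a, ha, Or.inl ?_⟩
    have k3 : e h * (g⁻¹ * e (TT y) * g⁻¹⁻¹) * (e h)⁻¹ =
        g⁻¹ * e (TT y) * g⁻¹⁻¹ * e (p⁻¹ * h * p * h⁻¹) := by
      simp only [map_mul, map_inv]
      rcases k1 with k1 | k1 <;> rw [k1]
      · group
      · rw [← mul_assoc, ← v.cen]; group
    rw [map_mul e (TT y), ← k2]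
    calc _ = g * (e h * (g⁻¹ * e (TT y) * g⁻¹⁻¹) * (e h)⁻¹) * g⁻¹ := by group
      _ = _ := by rw [k3]; group

theorem jobP2a : H78.S2.JobP2a.{u} := by
  intro n F _ _ _ _ _ _ G _ _ e t b _ x _ v k h4 g hg mv
  exact p2a b x v k h4 hg mv

end H96.SP2N
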