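import Cfsg.Agent.H96.QUJA3
import Cfsg.Agent.H57.CGQ

/-! Tower QU, job JA2: several classes of sides make the Sylow subgroup of a witness big. -/

set_option autoImplicit false

namespace H96.H97.QU

open Subgroup Cfsg _root_.H98 _root_.H96 _root_.H96.CG H98.H96.CG _root_.H97.QU
open H52 (Vv Cv zc)
open scoped commutatorElement

universe u

variable {G : Type u} [Group G] {q : ℕ} {B R A A' C C' D E M S P W X Y a a' : Subgroup G} {t u : G}

theorem card_orb (K X : Subgroup G) : Nat.card {l // ∃ r ∈ K, cj r X = l} = (nor X).relIndex K :=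
  have e : ∀ {x y : G}, cj x X = cj y X ↔ x⁻¹ * y ∈ nor X := fun {x y} => by
    rw [← cj_eq_self_iff, ← cj_cj, ← cj_inj (g := x) (K := X), cj_cj_inv, eq_comm]
  (Nat.card_eq_of_bijective (α := K ⧸ (nor X).subgroupOf K)
    (Quotient.lift (fun r : K => (⟨cj r X, r, r.2, rfl⟩ : {l // ∃ r ∈ K, cj r X = l}))
      fun _ _ f => Subtype.ext (e.2 (mem_subgroupOf.1 (QuotientGroup.leftRel_apply.1 f))))
    ⟨fun a b => Quotient.inductionOn₂ a b fun _ _ f => QuotientGroup.eq.2 (e.1 (congrArg Subtype.val f)),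
      fun ⟨_, r, hr, e⟩ => ⟨(⟨r, hr⟩ : K), Subtype.ext e⟩⟩).symm

variable [Finite G]

/-- a 2-group has no orbit of length three -/
theorem not_three (hS : IsPGroup 2 S) (h : ∀ l, (∃ r ∈ S, cj r X = l) ↔ l = X ∨ l = Y ∨ l = W) (h1 : X ≠ Y)
    (h2 : X ≠ W) (h3 : Y ≠ W) : False := by
  have e : (nor X).relIndex S = 3 := by
    rw [← card_orb, ← Set.ncard_eq_three.2 ⟨X, Y, W, h1, h2, h3, rfl⟩, ← Nat.card_coe_set_eq]
    exact Nat.card_congr (Equiv.subtypeEquivRight h)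
  obtain ⟨n, hn⟩ := IsPGroup.iff_card.1 hS
  have := relIndex_dvd_card (nor X) S
  rw [e, hn] at this
  exact absurd (Nat.prime_three.dvd_of_dvd_pow this) (by decide)

theorem two_mul_le (h : S < P) : 2 * Nat.card S ≤ Nat.card P := by
  obtain ⟨k, e⟩ := card_dvd_of_le h.le
  have h1 := card_lt_of_lt h
  have h2 : 0 < Nat.card S := Nat.card_pos
  rw [e] at h1 ⊢
  have : 1 < k := by simpa [h2] using (Nat.lt_mul_iff_one_lt_right h2).1 h1
  rw [mul_comm]; exact Nat.mul_le_mul_left _ this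

theorem stepA (t : Tri q B a a' D) (hZ : zc B ≤ W) (h : W ≤ cen a) (h' : W ≤ cen a') :
    Nat.card ↥(a ⊔ W) = q * Nat.card W := by
  have e := H12.card_sup_mul_card_inf ((cen_symm h).trans (centralizer_le_normalizer _))
  rw [le_antisymm ((inf_le_inf_left a h').trans t.inf_cen.le) (le_inf t.zA hZ), t.card_A, mul_right_comm] at e
  exact Nat.eq_of_mul_eq_mul_right Nat.card_pos e

theorem stepZ (t : Tri q B a a' D) (hY : Y ≤ zc B) (h : Y ≤ D) : q * Nat.card Y ≤ Nat.card ↥(⁅a, a'⁆ ⊔ Y) := by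
  have h1 : ⁅a, a'⁆ ⊔ Y ≤ zc B := sup_le (commutator_le.2 t.comm) hY
  have nD : zc B ≤ nor D := inf_le_left.trans t.nD
  have h2 : ⁅a, a'⁆ ⊔ Y ⊔ D = zc B ⊔ D := le_antisymm (sup_le_sup_right h1 D) (sup_le (fun z hz => by
    obtain ⟨x, hx, hx'⟩ := t.exists_not_mem
    obtain ⟨y, hy, d, hd, -, rfl⟩ := t.sur_mem hx hx' hz
    exact mul_mem (mem_sup_left (mem_sup_left (commutator_mem_commutator hx hy))) (mem_sup_right hd)) le_sup_right)
  have h3 : D.relIndex (⁅a, a'⁆ ⊔ Y) = q := by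
    rw [← relIndex_sup_of_norm (h1.trans nD), h2, relIndex_sup_of_norm nD, t.idxD]
  rw [← H12.card_mul_relIndex (inf_le_right : D ⊓ _ ≤ ⁅a, a'⁆ ⊔ Y), inf_relIndex_right, h3, mul_comm]
  exact Nat.mul_le_mul_right _ (card_le_of_le (le_inf h le_sup_right))

/-- orders for a family of pairwise commuting classes -/
theorem fam (c : Cl q B) (l : List (Subgroup G × Subgroup G)) (h : ∀ p ∈ l, Op B p.1 p.2)
    (h' : l.Pairwise fun p r => Cm p.1 p.2 r.1 r.2) : ∃ W Y : Subgroup G, IsElementaryAbelian 2 W ∧ zc B ≤ W ∧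
      W ≤ B ∧ Nat.card W = q ^ l.length * Nat.card (zc B) ∧ Y ≤ zc B ∧ Y ≤ ⁅B, B⁆ ∧ q ^ l.length ≤ Nat.card Y ∧
      ∀ s s', Op B s s' → (∀ p ∈ l, Cm s s' p.1 p.2) → W ≤ cen s ∧ W ≤ cen s' ∧ Y ≤ Ph B s := by
  induction l with
  | nil => exact ⟨_, ⊥, c.eZ, le_rfl, inf_le_left, by simp, bot_le, bot_le, by simp, fun s s' o _ =>
      ⟨inf_le_right.trans (centralizer_anti o.le), inf_le_right.trans (centralizer_anti o.le'), bot_le⟩⟩
  | cons p l ih =>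
    obtain ⟨W, Y, h1, h2, h3, h4, h5, h5', h6, h7⟩ := ih (fun r hr => h r (List.mem_cons_of_mem _ hr))
      (List.pairwise_cons.1 h').2
    have o := h p List.mem_cons_self
    obtain ⟨D, t⟩ := c.tri o
    obtain ⟨e1, e2, e3⟩ := h7 _ _ o (List.pairwise_cons.1 h').1
    refine ⟨p.1 ⊔ W, ⁅p.1, p.2⁆ ⊔ Y, H12.ea_sup o.ea h1 (cen_symm e1), h2.trans le_sup_right, sup_le o.le h3, ?_,
      sup_le (commutator_le.2 t.comm) h5, sup_le (commutator_mono o.le o.le') h5', ?_, fun s s' o' f => ?_⟩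
    · rw [stepA t h2 e1 e2, h4, List.length_cons, pow_succ', mul_assoc]
    · rw [List.length_cons, pow_succ']
      exact (Nat.mul_le_mul_left q h6).trans (stepZ t h5 (e3.trans t.Ph_le))
    · obtain ⟨f1, f2, f3⟩ := h7 s s' o' fun r hr => f r (List.mem_cons_of_mem _ hr)
      have f4 := (f p List.mem_cons_self).symm
      exact ⟨sup_le f4.1 f1, sup_le f4.2.1 f2, sup_le (o.comm_le f4) f3⟩

theorem fam_card (c : Cl q B) (l : List (Subgroup G × Subgroup G)) (h : ∀ p ∈ l, Op B p.1 p.2)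
    (h' : l.Pairwise fun p r => Cm p.1 p.2 r.1 r.2) :
    ∃ W ≤ B, IsElementaryAbelian 2 W ∧ q ^ l.length * q ^ l.length ≤ Nat.card W :=
  let ⟨W, _, h1, _, h3, h4, h5, _, h6, _⟩ := fam c l h h'
  ⟨W, h3, h1, h4 ▸ Nat.mul_le_mul_left _ (h6.trans (card_le_of_le h5))⟩

theorem three_max (c : Cl q B) (o : Op B A A') (o' : Op B C C') (m : Cm C C' A A') :
    ∃ E₁ ∈ H12.maxEA 2 B, ∃ E₂ ∈ H12.maxEA 2 B, ∃ E₃ ∈ H12.maxEA 2 B, E₁ ≠ E₂ ∧ E₁ ≠ E₃ ∧ E₂ ≠ E₃ := by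
  obtain ⟨E₁, h1, -, e1⟩ := c.exists_max (one_mem B) (mul_one 1) o (one_mem _)
  obtain ⟨E₂, h2, -, e2⟩ := c.exists_max (one_mem B) (mul_one 1) o.symm (one_mem _)
  have ne : ∀ {E}, A ≤ E → E ≠ E₂ := fun f e => o.not_le_cen
    ((e ▸ f).trans ((H12.ea_le_centralizer h2.2.1).trans (centralizer_anti e2)))
  wlog h : E₁ ≤ cen C generalizing C C'
  · obtain ⟨D, t⟩ := c.tri o'
    exact this o'.symm m.symm.swap.symm ((t.ea_or h1.2.1 h1.1).resolve_left h)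
  obtain ⟨D, t⟩ := c.tri o'
  exact ⟨E₁, h1, E₂, h2, _, t.exch le_rfl h1 h1.1 h, ne e1,
    fun e => o'.symm.not_le_cen ((le_sup_right.trans e.ge).trans h),
    (ne ((le_inf e1 m.symm.2.1).trans le_sup_left)).symm⟩

theorem card_comm (t : Tri 2 B a a' D) : Nat.card ↥⁅a, a'⁆ ≤ 2 := by
  obtain ⟨x, hx, hx'⟩ := t.exists_not_mem
  obtain ⟨y, hy, hy'⟩ := t.symm.exists_not_mem
  rw [H57.CGQ.comm2 t hx hx' hy hy', Nat.card_zpowers]
  exact orderOf_le_of_pow_eq_one two_pos (by rw [sq]; exact ea_sq t.eZ (t.comm x hx y hy))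

namespace WA

variable (w : WA M S q R A A' t)
include w

theorem exists_Ph (o : Op (bm 2 S) a a') : ∃ u ∈ S, cj u (Ph (bm 2 S) A) = Ph (bm 2 S) a := by
  obtain ⟨u, hu, e⟩ := w.tr a a' o
  refine ⟨u, hu, ?_⟩
  rw [cj_Ph, cj_eq_self (SB w hu)]
  rcases e with rfl | rfl
  · rfl
  · exact o.Ph_eq

/-- two classes over the field with two elements -/
theorem two_cls (w : WA M S 2 R A A' t) (o : Op (bm 2 S) C C') (m : Cm C C' A A')
    (h : ∀ s s', Op (bm 2 S) s s' → Cm s s' A A' → ¬ Cm s s' C C') :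
    4 ≤ Nat.card ↥⁅bm 2 S, bm 2 S⁆ ∧ Nat.card ↥(⁅bm 2 S, bm 2 S⁆ ⊓ zc S) ≤ 2 ∧ 128 ≤ Nat.card S := by
  have t := w.bk.tri
  obtain ⟨D, t'⟩ := w.cl.tri o
  obtain ⟨W, Y, h1, h2, h3, h4, h5, h5', h6, -⟩ := fam w.cl [(C, C'), (A, A')]
    (by simpa using ⟨o, t.op⟩) (by simpa using m)
  obtain ⟨u, hu, e⟩ := w.tr C C' o
  have nu : cj u ⁅A, A'⁆ ≠ ⁅A, A'⁆ := fun f => t.comm_not_le (by
    have o' := t.op.cj_of_mem (SB w hu)
    have m' : Cm (cj u A) (cj u A') A A' := by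
      rcases o.cmp o' with g | g | g
      · rw [g.1, g.2]; exact m
      · rw [g.1, g.2]; exact m.symm.swap.symm
      · rcases e with e | e
        · exact (o.not_le_cen (e ▸ g.2.1)).elim
        · exact (o.symm.not_le_cen (e ▸ g.1)).elim
    rw [← f, cj_commutator]
    exact (o'.comm_le m').trans t.Ph_le)
  have NZ : ⁅A, A'⁆ ⊔ ⁅C, C'⁆ ≤ zc (bm 2 S) := sup_le (commutator_le.2 t.comm) (commutator_le.2 t'.comm)
  have nN : bm 2 S ≤ nor (⁅A, A'⁆ ⊔ ⁅C, C'⁆) :=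
    (cen_symm (NZ.trans inf_le_right)).trans (centralizer_le_normalizer _)
  have h7 : ⁅bm 2 S, bm 2 S⁆ ≤ ⁅A, A'⁆ ⊔ ⁅C, C'⁆ := by
    rw [commutator_comm]
    refine (le_stab_iff.1 (w.cl.le_of fun s s' p => le_stab_iff.2 ⟨p.le.trans nN, ?_⟩)).2
    obtain ⟨_, t₁⟩ := w.cl.tri p
    rw [commutator_comm, t₁.comm_AB]
    rcases t.op.cmp p with g | g | g
    · rw [g.1, g.2]; exact le_sup_left
    · rw [g.1, g.2, commutator_comm]; exact le_sup_left
    rcases o.cmp p with g' | g' | g'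
    · rw [g'.1, g'.2]; exact le_sup_right
    · rw [g'.1, g'.2, commutator_comm]; exact le_sup_right
    · exact (h s s' p g g').elim
  have h8 : Nat.card ↥(⁅A, A'⁆ ⊔ ⁅C, C'⁆) ≤ 4 := by
    have f := H12.card_sup_mul_card_inf (A := ⁅A, A'⁆) (B := ⁅C, C'⁆) ((commutator_le.2 t.comm).trans
      (inf_le_right.trans ((centralizer_anti (commutator_le_of_le o.le o.le')).trans (centralizer_le_normalizer _))))
    exact (Nat.le_mul_of_pos_right _ Nat.card_pos).trans (f.le.trans (Nat.mul_le_mul (card_comm t) (card_comm t')))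
  have h9 := two_mul_le (inf_lt_left.2 fun f : ⁅bm 2 S, bm 2 S⁆ ≤ zc S => nu (cj_eq_self
    (centralizer_le_normalizer _ (cen_symm ((commutator_mono t.AB t.AB').trans (f.trans inf_le_right)) hu))))
  have c1 := card_le_of_le h7
  have c2 := card_le_of_le h5
  have c3 := card_le_of_le h5'
  have c4 := stepA t' t.zA m.symm.1 m.symm.2.1
  have c5 := two_mul_le (S := C ⊔ A) (P := bm 2 S ⊓ cen A) (lt_of_le_of_ne
    (sup_le (le_inf o.le m.1) (le_inf t.AB (H12.ea_le_centralizer t.eA))) fun f => o.symm.not_le_cen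
      ((le_inf o.le' m.2.2.1).trans (f.ge.trans (sup_le (H12.ea_le_centralizer o.ea) m.symm.1))))
  have c6 := two_mul_le (inf_lt_left.2 fun f : bm 2 S ≤ cen A => t.symm.not_le_cen (t.AB'.trans f))
  have c7 := two_mul_le (lt_of_le_of_ne (bm_le (p := 2) S) fun f => nu (cj_eq_self
    (le_normalizer_commutator t.nA t.symm.nA (f.ge hu))))
  have c8 := t.card_A
  simp only [List.length_cons, List.length_nil] at h6
  omega

end WA

theorem jobA2 : JA2.{u} := fun G _ _ M S R A A' q t hS w ne => by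
  have o := w.bk.tri.op
  obtain ⟨C, C', o', m⟩ := w.cl.other o ne
  have mx : ∀ {E}, E ∈ H12.maxEA 2 (bm 2 S) → E ∈ H12.maxEA 2 S := fun h =>
    let ⟨_, h1⟩ := H12.exists_mem_maxEA (p := 2) S
    H12.mem_maxEA_of_sub h1 ((H12.le_thompsonSubgroupOf h1).trans (jt_le_bm S)) (bm_le S) h
  obtain ⟨E₁, h1, E₂, h2, E₃, h3, e⟩ := three_max w.cl o o' m
  refine ⟨⟨E₁, mx h1, E₂, mx h2, E₃, mx h3, e⟩, ?_⟩
  have big : ∀ l : List (Subgroup G × Subgroup G), (∀ p ∈ l, Op (bm 2 S) p.1 p.2) →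
      (l.Pairwise fun p r => Cm p.1 p.2 r.1 r.2) → 16 ≤ q ^ l.length →
      ∃ E ≤ S, IsElementaryAbelian 2 E ∧ 256 ≤ Nat.card E := fun l f1 f2 f3 =>
    let ⟨W, g1, g2, g3⟩ := fam_card w.cl l f1 f2
    ⟨W, g1.trans (bm_le S), g2, (Nat.mul_le_mul f3 f3).trans g3⟩
  by_cases h4 : 4 ≤ q
  · exact .inl (big [(C, C'), (A, A')] (by simpa using ⟨o', o⟩) (by simpa using m) (Nat.pow_le_pow_left h4 2))
  obtain rfl : q = 2 := by
    have f1 := w.bk.tri.one_lt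
    obtain ⟨n, f2⟩ := IsPGroup.iff_card.1 (H12.ea_isPGroup w.bk.tri.eA)
    by_contra f3
    obtain rfl : q = 3 := by omega
    exact absurd (Nat.prime_three.dvd_of_dvd_pow (f2 ▸ Dvd.intro _ w.bk.tri.card_A.symm)) (by decide)
  by_cases h5 : ∃ s s', Op (bm 2 S) s s' ∧ Cm s s' A A' ∧ Cm s s' C C'
  swap
  · rw [WA.jtS w]
    exact .inr (WA.two_cls w w o' m fun s s' p f f' => h5 ⟨s, s', p, f, f'⟩)
  obtain ⟨D, D', o₁, m₁, m₂⟩ := h5
  by_cases h6 : ∃ s s', Op (bm 2 S) s s' ∧ Cm s s' A A' ∧ Cm s s' C C' ∧ Cm s s' D D'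
  · obtain ⟨E, E', o₂, m₃, m₄, m₅⟩ := h6
    exact .inl (big [(E, E'), (D, D'), (C, C'), (A, A')] (by simpa using ⟨o₂, o₁, o', o⟩)
      (by simpa using ⟨⟨m₅, m₄, m₃⟩, ⟨m₂, m₁⟩, m⟩) le_rfl)
  refine (not_three hS (X := Ph (bm 2 S) A) (Y := Ph (bm 2 S) C) (W := Ph (bm 2 S) D) (fun l => ⟨?_, ?_⟩)
    (fun f => o.of_Ph o' f m.symm) (fun f => o.of_Ph o₁ f m₁.symm) fun f => o'.of_Ph o₁ f m₂.symm).elim
  · rintro ⟨u, hu, rfl⟩
    have p := o.cj_of_mem (WA.SB w hu)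
    rw [cj_Ph, cj_eq_self (WA.SB w hu)]
    have key : ∀ {a a'}, Op (bm 2 S) a a' → Ph (bm 2 S) (cj u A) = Ph (bm 2 S) a ∨ Cm (cj u A) (cj u A') a a' :=
      fun p' => (p'.cmp p).elim (fun f => .inl (by rw [f.1])) fun f =>
        f.elim (fun f => .inl (by rw [f.1, p'.Ph_eq])) .inr
    exact (key o).imp_right fun f1 => (key o').imp_right fun f2 => (key o₁).resolve_right fun f3 =>
      h6 ⟨_, _, p, f1, f2, f3⟩
  · rintro (rfl | rfl | rfl)
    exacts [WA.exists_Ph w o, WA.exists_Ph w o', WA.exists_Ph w o₁]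

end H96.H97.QU
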