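import Cfsg.Agent.H96.QUJA3

/-! Tower QU, job JBeta: a beta-subgroup exists. -/

set_option autoImplicit false

namespace H96.H97.QU

open Subgroup Cfsg _root_.H98 _root_.H96 _root_.H96.CG H98.H96.CG _root_.H97.QU
open H52 (Vv Cv zc)
open scoped commutatorElement

universe u

variable {G : Type u} [Group G] {P S X : Subgroup G} {g : G}

theorem relIndex_sup_zp (hg : g ∈ nor S) (h2 : g * g ∈ S) (h : g ∉ S) : S.relIndex (S ⊔ zpowers g) = 2 :=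
  relIndex_eq_two_iff.2 ⟨g⁻¹, inv_mem (mem_sup_right (mem_zpowers g)), fun b hb => by
    by_cases e : b ∈ S
    · exact .inr ⟨e, fun f => h (by simpa using inv_mem (mul_mem (inv_mem e) f))⟩
    · exact .inl ⟨(mem_sup_zp hg h2 hb).resolve_left e, e⟩⟩

theorem card_sup_zp (hg : g ∈ nor S) (h2 : g * g ∈ S) (h : g ∉ S) :
    Nat.card ↥(S ⊔ zpowers g) = 2 * Nat.card S := by
  rw [← H12.card_mul_relIndex (le_sup_left : S ≤ _), relIndex_sup_zp hg h2 h, mul_comm]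

variable [Finite G]

/-- a proper subgroup of a 2-group lies in a subgroup of index two -/
theorem exists_index_two (hP : IsPGroup 2 P) (h : X < P) :
    ∃ S, X ≤ S ∧ S < P ∧ Nat.card P = 2 * Nat.card S := by
  obtain ⟨S, ⟨h1, h2⟩, hm⟩ := Set.exists_max_image {S : Subgroup G | X ≤ S ∧ S < P} (fun S => Nat.card S)
    (Set.toFinite _) ⟨X, le_rfl, h⟩
  obtain ⟨g, hg, e1, e2, e3⟩ := exists_step hP h2
  have e := card_sup_zp e2 e3 e1
  refine ⟨S, h1, h2, (sup_le h2.le (zpowers_le.2 hg)).eq_or_lt.elim (fun f => f ▸ e) fun f => ?_⟩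
  have := hm _ ⟨h1.trans le_sup_left, f⟩
  have : 0 < Nat.card S := Nat.card_pos
  omega

theorem WA.exists_Ph' {q : ℕ} {M R A A' a a' : Subgroup G} {t : G} (w : WA M S q R A A' t)
    (o : Op (bm 2 S) a a') : ∃ u ∈ S, cj u (Ph (bm 2 S) A) = Ph (bm 2 S) a := by
  obtain ⟨u, hu, e⟩ := w.tr a a' o
  refine ⟨u, hu, ?_⟩
  rw [cj_Ph, cj_eq_self (WA.SB w hu)]
  rcases e with rfl | rfl
  · rfl
  · exact o.Ph_eq

theorem jobBeta : JBeta.{u} := fun G _ _ M s kit H => by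
  by_cases h0 : ∃ S, (∃ X, Wit M S X) ∧ Nat.card S = s
  swap
  · obtain ⟨H, S, h1, h2, h3, h4⟩ := kit.ex
    exact ⟨S, H, ⟨h2, h4, fun Y f1 f2 => by_contra fun n =>
      h0 ⟨S, ⟨Y, (kit.wit_of S Y h2 h4.ge f1 f2 n).1⟩, h4⟩⟩, h3, h1⟩
  obtain ⟨S, ⟨⟨X, x⟩, c⟩, hm⟩ := Set.exists_max_image {S | (∃ X, Wit M S X) ∧ Nat.card S = s} key (Set.toFinite _) h0
  obtain ⟨q, R, A, A', t, w, ne⟩ := H S X x c
  have k := w.bk
  have o := k.tri.op
  have nB := le_normalizer_bm (p := 2) (WA.nS w)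
  have p1 := WA.two w x.good.two
  have l2 : S ⊔ zpowers t ≤ M := sup_le x.good.le (zpowers_le.2 w.tM)
  have cPh : ∀ g ∈ S ⊔ zpowers t, cj g (Ph (bm 2 S) A) = Ph (bm 2 S) (cj g A) := fun g hg => by
    rw [cj_Ph, cj_eq_self (nB hg)]
  obtain ⟨P, e1, e2, e3⟩ := exists_index_two p1 (X := (S ⊔ zpowers t) ⊓ nor (Ph (bm 2 S) A)) (inf_lt_left.2 fun e => by
    obtain ⟨C, C', o', m⟩ := w.cl.other o ne
    obtain ⟨u, hu, f⟩ := WA.exists_Ph' w o'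
    exact o.of_Ph o' ((cj_eq_self (e (mem_sup_left hu))).symm.trans f) m.symm)
  have BP : bm 2 S ≤ P := (le_inf ((bm_le S).trans le_sup_left) fun b hb => cj_eq_self_iff.1 (by
    rw [cPh b (mem_sup_left (bm_le S hb)), cj_eq_self (k.tri.nA hb)])).trans e1
  have gP := kit.good_up _ P w.wit.good (p1.to_le e2.le) BP (e2.le.trans l2)
  have cP : s ≤ Nat.card P := by
    have := card_sup_zp w.tS w.tt fun h => w.ns t h w.sw
    omega
  obtain ⟨g₀, hg₀, hg₀'⟩ := SetLike.exists_of_lt e2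
  let I := {g : G // g ∈ S ⊔ zpowers t ∧ g ∉ P}
  have d1 : (⨆ g : I, cj g.1 ⁅A, A'⁆) ≤ zc (bm 2 S) ⊓ cen R := iSup_le fun g => by
    have o' := o.cj_of_mem (nB g.2.1)
    refine le_inf (cj_le_of_le (commutator_le.2 k.tri.comm) (H52.n_zc le_rfl (nB g.2.1))) ?_
    rcases o.cmp o' with f | f | f
    · exact (g.2.2 (e1 ⟨g.2.1, cj_eq_self_iff.1 (by rw [cPh _ g.2.1, f.1])⟩)).elim
    · exact (g.2.2 (e1 ⟨g.2.1, cj_eq_self_iff.1 (by rw [cPh _ g.2.1, f.1, o.Ph_eq])⟩)).elim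
    · rw [cj_commutator]
      exact (o'.comm_le f).trans (k.tri.Ph_le.trans inf_le_right)
  have d2 : P ≤ nor (⨆ g : I, cj g.1 ⁅A, A'⁆) := fun h hh => mem_normalizer_of_cj_le
    (cj_le_iff.2 (iSup_le fun g => cj_le_iff.1 (by
      rw [cj_cj]
      exact le_iSup (fun g : I => cj g.1 ⁅A, A'⁆) ⟨h * g.1, mul_mem (e2.le hh) g.2.1,
        fun f => g.2.2 (by simpa using mul_mem (inv_mem hh) f)⟩)))
  have d3 : (⨆ g : I, cj g.1 ⁅A, A'⁆) ≠ ⊥ := fun e => o.comm_ne (cj_eq_bot_iff.1 (eq_bot_iff.2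
    ((le_iSup (fun g : I => cj g.1 ⁅A, A'⁆) ⟨g₀, hg₀, hg₀'⟩).trans e.le)))
  generalize (⨆ g : I, cj g.1 ⁅A, A'⁆) = D at d1 d2 d3
  have gm : Gam M (nor D) := ⟨fun e => d3 (eq_bot_iff.2 ((le_pCoreOf ((H12.ea_isPGroup k.tri.eZ).to_le
    (d1.trans inf_le_left)) le_normalizer le_rfl).trans e.le)), _, _, w.wit,
    sup_le ((cen_symm (d1.trans inf_le_right)).trans (centralizer_le_normalizer _)) (BP.trans d2)⟩
  have cP' := le_antisymm (kit.mx _ P gm gP.two d2 gP.le) cP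
  refine ⟨P, _, ⟨gP, cP', fun Y f1 f2 => by_contra fun n => ?_⟩, d2, gm⟩
  have y := (kit.wit_of P Y gP cP f1 f2 n).1
  obtain ⟨q', R', C, C', t', w', -⟩ := H P Y y cP'
  have e := (key_spec (hm P ⟨⟨Y, y⟩, cP'⟩) BP).1
  obtain ⟨u, hu, g1⟩ := WA.exists_Ph' w' (e ▸ o)
  obtain ⟨v, hv, g2⟩ := WA.exists_Ph' w' (e ▸ o.cj_of_mem (nB hg₀))
  rw [e] at g1 g2
  have g3 : g₀⁻¹ * (v * u⁻¹) ∈ P := e1 (mem_inf.2 ⟨mul_mem (inv_mem hg₀) (e2.le (mul_mem hv (inv_mem hu))),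
    cj_eq_self_iff.1 (by
      rw [← cj_cj, ← cj_cj]
      conv_lhs => rw [← g1, cj_inv_cj, g2, ← cPh _ hg₀, cj_inv_cj])⟩)
  have g4 := inv_mem (mul_mem g3 (inv_mem (mul_mem hv (inv_mem hu))))
  rw [mul_inv_cancel_right, inv_inv] at g4
  exact hg₀' g4

end H96.H97.QU
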