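import Cfsg.Agent.H96.QUJK2a
import Cfsg.Agent.H96.QUJBeta
import Cfsg.Agent.H96.QUJA2
import Cfsg.Agent.S0215

/-! Tower QU: Burnside fusion and the `Z*`-theorem inside a subgroup. -/

set_option autoImplicit false
set_option linter.style.haveILetI false

namespace H96.H97.QU

open Subgroup Cfsg _root_.H98 _root_.H96 _root_.H96.CG H98.H96.CG _root_.H97.QU
open H52 (Vv Cv zc)
open scoped commutatorElement

universe u

variable {G : Type u} [Group G] {K N P Y : Subgroup G} {g w x : G}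

theorem simple_or [IsSimpleGroup K] (h : K ≤ nor N) : N ⊓ K = ⊥ ∨ K ≤ N := by
  haveI : (N.subgroupOf K).Normal := ⟨fun n hn k => conj_mem_of_mem_normalizer (H := N) (h k.2) hn⟩
  refine (this.eq_bot_or_eq_top).imp (fun e => ?_) subgroupOf_eq_top.1
  rw [← subgroupOf_map_subtype, e, Subgroup.map_bot]

variable [Finite G]

/-- Burnside's fusion argument -/
theorem burn {p : ℕ} [Fact p.Prime] (hP : IsSyl p P Y) (hg : g ∈ Y) (h1 : P ≤ cen1 x) (h2 : P ≤ cen1 (g * x * g⁻¹)) :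
    ∃ n ∈ Y, n ∈ nor P ∧ n * x * n⁻¹ = g * x * g⁻¹ := by
  have h3 := hP.cj_of_mem hg
  obtain ⟨c, hc, e⟩ := (h3.of_le (le_inf h3.le (cj_cen1 g x ▸ cj_mono g h1)) inf_le_left).exists_cj_eq
    (hP.of_le (le_inf hP.le h2) inf_le_left)
  refine ⟨c * g, mul_mem hc.1 hg, cj_eq_self_iff.1 (by rw [← cj_cj, e]), ?_⟩
  rw [show c * g * x * (c * g)⁻¹ = c * (g * x * g⁻¹) * c⁻¹ by group, (mem_cen1.1 hc.2).eq, mul_inv_cancel_right]

theorem zstar (hP : IsSyl 2 P Y) (hw : w ∈ P) (h2 : w * w = 1)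
    (h : ∀ g ∈ Y, g * w * g⁻¹ ∈ P → g * w * g⁻¹ = w) :
    ∃ N ≤ Y, Y ≤ nor N ∧ Odd (Nat.card N) ∧ ∀ g ∈ Y, ⁅w, g⁆ ∈ N := by
  by_cases h1 : w = 1
  · exact ⟨⊥, bot_le, le_normalizer_bot _, by simp, fun g _ => by simp [h1]⟩
  obtain ⟨Q, hQ⟩ := hP.exists_sylow
  obtain ⟨N, hN, o, e⟩ := Cfsg.Agent.S0215.result Q ⟨w, hP.le hw⟩
    (orderOf_eq_prime (Subtype.ext (by simpa [sq] using h2)) fun e => h1 (congrArg Subtype.val e))
    (by rw [← SetLike.mem_coe, ← Sylow.coe_coe, hQ]; exact hw) fun g e => Subtype.ext (h g g.2 (by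
      rw [← SetLike.mem_coe, ← Sylow.coe_coe, hQ] at e; exact e))
  exact ⟨N.map Y.subtype, map_subtype_le N, le_normalizer_map_subtype N,
    by rwa [card_map_of_injective Y.subtype_injective], fun g hg => ⟨_, e ⟨g, hg⟩, rfl⟩⟩

theorem even_of_simple [IsSimpleGroup K] (h : ¬ IsMulCommutative K) : 2 ∣ Nat.card K := by
  by_contra e
  exact h ⟨⟨IsSimpleGroup.comm_iff_isSolvable.2 (Cfsg.Agent.S0205.result
    (Nat.odd_iff.2 (Nat.two_dvd_ne_zero.1 e)))⟩⟩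

/-- an isolated involution centralises a simple normal subgroup -/
theorem zstar_cen [IsSimpleGroup K] (hK : ¬ IsMulCommutative K) (h0 : K ≤ Y) (h1 : Y ≤ nor K) (hP : IsSyl 2 P Y)
    (hw : w ∈ P) (h2 : w * w = 1) (h : ∀ g ∈ Y, g * w * g⁻¹ ∈ P → g * w * g⁻¹ = w) : w ∈ cen K := by
  obtain ⟨N, -, e1, e2, e3⟩ := zstar hP hw h2 h
  rcases simple_or (h0.trans e1) with e | e
  · refine mem_cen.2 fun k hk => (commutatorElement_eq_one_iff_commute.1 (mem_bot.1 (e.le ⟨e3 k (h0 hk), ?_⟩))).symm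
    exact cm_mem (h1 (hP.le hw)) hk
  · exact absurd ((even_of_simple hK).trans (card_dvd_of_le e)) (Nat.two_dvd_ne_zero.2 (Nat.odd_iff.1 e2))

end H96.H97.QU
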