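import Cfsg.Agent.H78.TEDef
import Cfsg.Agent.H67.LieInst
import Cfsg.Agent.H67.SBNLoc
import Cfsg.Agent.S2175
import Cfsg.Agent.S2182

/-! STD-2E6, job IC: the involutions of `²E₆(q)`, characteristic `2` type. -/

set_option autoImplicit false
set_option linter.unusedSectionVars false

namespace H96.TEIC

open Cfsg.Lie H63 H65 H64 H64.SG H68 H46.SF Subgroup H78.TE
open Cfsg.Agent.S2175 (R)

theorem ord {Y : Type*} [Group Y] {y : Y} (h : Inv2 y) : orderOf y = 2 :=
  orderOf_eq_prime (by rw [pow_two, h.1]) h.2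

theorem eq_one {Y : Type*} [Group Y] {y : Y} {n : ℕ} (h : Is2 y) (hn : Odd n) (e : y ^ n = 1) :
    y = 1 := by
  obtain ⟨k, hk⟩ := h
  exact orderOf_eq_one_iff.1 (Nat.eq_one_of_dvd_coprimes
    (Nat.Coprime.pow_left k (Nat.coprime_two_left.2 hn)) (orderOf_dvd_of_pow_eq_one hk)
    (orderOf_dvd_of_pow_eq_one e))

theorem mem_O2 {Y : Type*} [Group Y] {y : Y} {D : Subgroup Y} (h : Inv2 y) (hD : IsO2 D (Cz y)) :
    y ∈ D := by
  refine hD.2.2.2 (zpowers y) (zpowers_le.2 (mem_Cz.2 rfl)) ?_ ?_ (mem_zpowers y)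
  · refine le_trans (fun c hc => ?_) (centralizer_le_normalizer _)
    rintro _ ⟨k, rfl⟩
    exact ((Commute.zpow_left (mem_centralizer_singleton_iff.1 hc).symm k)).eq
  · exact IsPGroup.of_card (n := 1) (by rw [Nat.card_zpowers, ord h, pow_one])

variable {F K : Type} [Field F] [Field K] [CharP K 2] (T : Qd F K)

/-- the representatives -/
noncomputable def u (B : List ℕ × List ℕ) : T.X :=
  if B.1.length = 1 then T.x (hi D4) 1 else if B.1.length = 2 then T.xs (R6 68) 1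
  else T.xs (R6 55) 1 * T.x 20 1

theorem hu : ∀ B ∈ R, ((u T B : YY K) : GL E6.Idx K) = pr (xU E6 K) B.1 := by
  simp only [R, List.forall_mem_cons, List.not_mem_nil, false_imp_iff, implies_true, and_true]
  refine ⟨?_, ?_, ?_⟩
  · rw [u, if_pos (by decide), T.x_val, map_one, show ((lr (hi D4) : Rt E6) : ℕ) = 71 from rfl]
    simp [pr]
  · rw [u, if_neg (by decide), if_pos (by decide), T.xs_val, map_one,
      show ((gm (R6 68) : Rt E6) : ℕ) = 66 by decide +kernel, show ((R6 68 : Rt E6) : ℕ) = 68 from rfl]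
    simp [pr]
  · rw [u, if_neg (by decide), if_neg (by decide), coe_mul, T.xs_val, map_one,
      show T.x 20 1 = T.x (R4 20) 1 from rfl, T.x_val, map_one, mul_assoc,
      cY (r := gm (R6 55)) (s := lr (R4 20)) (by decide +kernel),
      show ((gm (R6 55) : Rt E6) : ℕ) = 67 by decide +kernel, show ((R6 55 : Rt E6) : ℕ) = 55 from rfl,
      show ((lr (R4 20) : Rt E6) : ℕ) = 65 from rfl]
    simp [pr]

theorem cls [Finite K] : (∀ B ∈ R, orderOf (u T B) = 2) ∧
    (∀ g : YY K, orderOf g = 2 → ∃ B, IsConj g (u T B : YY K)) ∧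
    ∀ A ∈ R, ∀ B ∈ R, IsConj (u T A) (u T B) → A = B := by
  open Cfsg.Agent.S2175 in
  obtain ⟨h1, h2, h3⟩ := invol_classes (F := K) one_ne_zero (cube_hyp c0) H C R (fun _ _ => rfl) hH
    c1 c2 c3 c4
  refine ⟨fun B hB => ?_, fun g hg => ?_, fun A hA B hB e => ?_⟩
  · rw [← Subgroup.orderOf_coe, ← Subgroup.orderOf_coe, hu T B hB, (h1 B hB).2]
  · obtain ⟨B, hB, k, hk, e⟩ := h2 g g.2 (by rw [Subgroup.orderOf_coe, hg])
    exact ⟨B, isConj_iff.2 ⟨⟨k, hk⟩, Subtype.ext (e.trans (hu T B hB).symm)⟩⟩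
  · obtain ⟨k, e⟩ := isConj_iff.1 e
    exact h3 A hA B hB ⟨(k : YY K), k.1.2, by rw [← hu T A hA, ← hu T B hB, ← e]; rfl⟩

variable [Finite F] [Finite K] {T}

theorem ic (hB : T.TB) {y : T.X} (hy : Inv2 y) : ∃ B, IsConj y (u T B) := by
  obtain ⟨e, -⟩ := hB.iso
  have := Fintype.ofFinite K
  have h3 := Cfsg.Agent.S2182.result (K := K) (Nat.card F) (by rw [← T.card, Nat.card_eq_fintype_card])
  have k := Set.eq_of_subset_of_ncard_le
    (s := (fun B => ConjClasses.mk (e.symm (u T B))) '' {B | B ∈ R})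
    (t := ConjClasses.mk '' {g | orderOf g = 2}) (by
      rintro _ ⟨B, hB, rfl⟩
      exact ⟨_, (MulEquiv.orderOf_eq _ _).trans ((cls T).1 B hB), rfl⟩) (by
      rw [h3, Set.InjOn.ncard_image (s := {B | B ∈ R}) fun A hA B hB h => (cls T).2.2 A hA B hB (by
        simpa using e.toMonoidHom.map_isConj (ConjClasses.mk_eq_mk_iff_isConj.1 h)),
        ← List.coe_toFinset, Set.ncard_coe_finset]
      decide) (Set.toFinite _)
  obtain ⟨B, -, h⟩ := k.ge ⟨e.symm y, (MulEquiv.orderOf_eq _ _).trans (ord hy), rfl⟩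
  exact ⟨B, by simpa using e.toMonoidHom.map_isConj (ConjClasses.mk_eq_mk_iff_isConj.1 h).symm⟩

theorem ct (hB : T.TB) {g : T.X} {D : Subgroup T.X} (hg : Inv2 g) (hD : IsO2 D (Cz g)) :
    Cs D ≤ D := by
  obtain ⟨e, -⟩ := hB.iso
  have := Fintype.ofFinite K
  have := Fintype.ofFinite F
  obtain ⟨S, hS⟩ := (H67.good_twE6 (K := K) 2 (q := Nat.card F)
    (Nat.card_eq_fintype_card (α := F) ▸ FiniteField.isPrimePow_card F)
    (by rw [← T.card, Nat.card_eq_fintype_card])).congr e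
  have h := H67.charP_centralizer_of_locCharP hS.locCharP (ord hg)
  rw [H98.CharP, ← hD.eq] at h
  exact fun c hc => h ⟨mem_centralizer_singleton_iff.2 (hc g (mem_O2 hg hD)).symm, hc⟩

theorem u_mem (hK : T.KB) (B : List ℕ × List ℕ) : u T B ∈ T.W := by
  unfold u
  split_ifs
  · exact hK.x_mem _ (by decide +kernel : 2 ≤ a4 (lr (hi D4))) _
  · exact T.xs_mem (by decide +kernel : 2 ≤ a4 (R6 68)) _
  · exact mul_mem (T.xs_mem (by decide +kernel : 2 ≤ a4 (R6 55)) _)
      (hK.x_mem (R4 20) (by decide +kernel : 2 ≤ a4 (lr (R4 20))) _)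

theorem W_comm (hK : T.KB) : T.W ≤ Cs T.W := by
  have t : ∀ r s : Rt E6, 2 ≤ a4 r → 2 ≤ a4 s → 0 ≤ ip r s ∧ 0 ≤ ip r (gm s) := by decide +kernel
  refine T.gt_le.2 fun r hr a => ?_
  have : T.W ≤ Cz (T.xs r a) := T.gt_le.2 fun s hs b =>
    mem_centralizer_singleton_iff.2 (hK.c0 s r (t s r hs hr).1 (t s r hs hr).2 b a)
  exact fun w hw => mem_centralizer_singleton_iff.1 (this hw)

theorem jobIC : JobIC := by
  intro F K _ _ _ _ _ _ T hK hB hA
  refine ⟨fun g hg => ?_, fun g hg => ?_, fun g D => ct hB, fun y D β hy hD hβ ho => ?_⟩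
  · obtain ⟨B, h⟩ := ic hB hg
    unfold u at h
    split_ifs at h <;> simp only [h, true_or, or_true]
  · by_cases h1 : g = 1
    · exact ⟨1, by simp [h1]⟩
    obtain ⟨B, h⟩ := (cls T).2.1 g (ord ⟨hg, h1⟩)
    obtain ⟨k, e⟩ := isConj_iff.1 h
    exact ⟨k, by rw [e]; exact (u T B).2⟩
  have fix : ∀ c ∈ Cz y, β c = c := fun c hc => by
    have hd : c⁻¹ * β c ∈ D := ct hB hy hD fun v hv => by
      have := hβ _ ((hD.2.1 hc v).1 hv)
      rw [map_mul, map_mul, map_inv, hβ v hv] at this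
      calc v * (c⁻¹ * β c) = c⁻¹ * (c * v * c⁻¹) * β c := by group
        _ = c⁻¹ * β c * v := by rw [← this]; group
    have p : ∀ n : ℕ, (β ^ n) c = c * (c⁻¹ * β c) ^ n := fun n => by
      induction n with
      | zero => simp
      | succ n ih =>
        rw [pow_succ', MulAut.mul_apply, ih, map_mul, hβ _ (pow_mem hd n), pow_succ', mul_assoc c⁻¹,
          mul_inv_cancel_left]
    have e := p (orderOf β)
    rw [pow_orderOf_eq_one, MulAut.one_apply, left_eq_mul] at e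
    exact (inv_mul_eq_one.1 (eq_one (isPGroup_iff_is2.1 hD.2.2.1 _ hd) ho e)).symm
  obtain ⟨B, h⟩ := ic hB hy
  obtain ⟨k, e⟩ := isConj_iff.1 h
  obtain ⟨ζ, hζ, eζ⟩ := hA.cW (MulAut.conj k * β * (MulAut.conj k)⁻¹) fun w hw => by
    rw [MulAut.mul_apply, MulAut.mul_apply, fix _ (mem_centralizer_singleton_iff.2 ?_),
      MulAut.apply_inv_self]
    have := W_comm hK hw _ (u_mem hK B)
    rw [← e] at this
    rw [MulAut.conj_inv_apply]
    calc k⁻¹ * w * k * y = k⁻¹ * (w * (k * y * k⁻¹)) * k := by group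
      _ = y * (k⁻¹ * w * k) := by rw [← this]; group
  have t : ∀ r : Rt E6, 2 ≤ a4 r → 36 ≤ r.1 := by decide +kernel
  have h2 : Is2 (MulAut.conj ζ) := (isPGroup_iff_is2.1 hK.isP _ (T.gt_mono (fun r => t r) hζ)).map _
  rw [← eζ] at h2
  have := eq_one h2 ho (by rw [conj_pow, pow_orderOf_eq_one, mul_one, mul_inv_cancel])
  rwa [mul_inv_eq_one, mul_eq_left] at this

end H96.TEIC
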