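import Cfsg.Agent.H78.TEW
import Cfsg.Agent.H66.TGW3

/-! STD-2E6, slot W1a: class sizes in a `2`-group over `U₁ U₂` (after `H4.TDW1a`). -/

set_option autoImplicit false
set_option linter.unusedSectionVars false

namespace H96.TEW1a

open H64.SG (Syl Cz Cs Ns cjs Is2 Inv2 fx mem_Cs mem_Cz mem_fx isPGroup_iff_is2 is2_one)
open H67.SA (St cI mem_cI conj_mem_cjs)
open H81.SU (Ind exists_ind ind_one_iff indH ind_indH ind_conj is2_e)
open H66.SGW (cl ncard_cl cl_mul cl_mono ncard_cl_cj ncard_cl_le)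
open H62.TW (CW pr G12 pr_mono pr_comm mem_Cs_G12 G12_comm)
open H78.TW H98 Subgroup

universe u

variable {X : Type} [Group X] [Finite X] {d : Sg X} {G : Type u} [Group G] [Finite G]
  {e e₁ e₂ : X →* G} {t s : G} {S : Subgroup G} {β : MulAut X}

theorem eq_one2 (i : WI d) (c : CW e t e₁ e₂) {g : G} (h1 : g ∈ e₁.range) (h2 : g ∈ e₂.range)
    (h3 : Is2 g) : g = 1 := by
  obtain ⟨a, rfl⟩ := h1
  obtain ⟨b, hb⟩ := h2
  have := (inj2 i c ((is2_e c.inj).1 h3) is2_one (b := 1) (f := b)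
    (by rw [map_one, map_one, mul_one, one_mul, hb])).1
  rw [this, map_one]

theorem ne (w : WU d) (i : WI d) (c : CW e t e₁ e₂) : ¬ e₂.range ≤ e₁.range := fun h => by
  refine w.neZ fun z hz => mem_bot.2 (c.inj₂ ?_)
  rw [map_one]
  exact eq_one2 i c (h ⟨_, rfl⟩) ⟨_, rfl⟩
    ((isPGroup_iff_is2.1 w.isP z (w.RU (w.QR (w.EQ (w.ZE hz))))).map e₂)

/-- The hypotheses. -/
structure Ov (d : Sg X) (e : X →* G) (t : G) (e₁ e₂ : X →* G) (S : Subgroup G) : Prop where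
  w : WU d
  i : WI d
  a : WA d
  c : CW e t e₁ e₂
  g : GW d e t e₁ e₂
  pg : IsPGroup 2 S
  le : S ≤ Ns (G12 e₁ e₂)
  ge : pr e₁ e₂ d.U d.U ≤ S

variable (o : Ov d e t e₁ e₂ S)
include o

theorem Ov.symm : Ov d e t e₂ e₁ S :=
  ⟨o.w, o.i, o.a, o.c.symm o.g.uf.inv.1, o.g.symm, o.pg, by rw [G12_comm]; exact o.le,
    by rw [pr_comm]; exact o.ge⟩

theorem Ov.is2 (hs : s ∈ S) : Is2 s := isPGroup_iff_is2.1 o.pg s hs
theorem Ov.U_le : d.U.map e₁ ≤ S := le_sup_left.trans o.ge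

theorem Ov.n2 (hs : s ∈ S) (h : s ∈ Ns e₁.range) : s ∈ Ns e₂.range :=
  ((o.g.pm s (o.le hs)).resolve_right fun k =>
    ne o.w o.i o.c (k.1.ge.trans (cj_eq_self h).le)).2

theorem Ov.swap (hs : s ∈ S) (h : s ∉ Ns e₁.range) {a : G} (ha : a ∈ e₁.range) :
    s * a * s⁻¹ ∈ e₂.range :=
  ((o.g.pm s (o.le hs)).resolve_left fun k => h k.1).1 ▸ conj_mem_cjs.2 ha

theorem Ov.idx_symm : (Ns e₂.range).relIndex S = (Ns e₁.range).relIndex S := by
  rw [← inf_relIndex_right, ← inf_relIndex_right (Ns e₁.range)]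
  congr 1
  exact le_antisymm (fun s hs => ⟨o.symm.n2 hs.2 hs.1, hs.2⟩) fun s hs => ⟨o.n2 hs.2 hs.1, hs.2⟩

theorem Ov.idx : (S ≤ Ns e₁.range ∧ (Ns e₁.range).relIndex S = 1) ∨
    (¬ S ≤ Ns e₁.range ∧ (Ns e₁.range).relIndex S = 2) := by
  by_cases h : S ≤ Ns e₁.range
  · exact .inl ⟨h, relIndex_eq_one.2 h⟩
  refine .inr ⟨h, ?_⟩
  obtain ⟨p, hp, h1⟩ := SetLike.not_le_iff_exists.1 h
  refine relIndex_eq_two_iff_exists_notMem_and.2 ⟨p, hp, h1, fun b hb => or_iff_not_imp_right.2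
    fun h2 => cj_eq_self_iff.1 ?_⟩
  rw [← cj_cj]
  exact (congrArg _ ((o.g.pm p (o.le hp)).resolve_left fun k => h1 k.1).1).trans
    ((o.g.pm b (o.le hb)).resolve_left fun k => h2 k.1).2

theorem Ov.Ns_U (hs : s ∈ S) (h : s ∈ Ns e₁.range) : s ∈ Ns (d.U.map e₁) := by
  have h1 := ((H64.SG.syl_iff.1 o.i.syl).map e₁).eq_of_le (o.pg.to_inf_left (K := e₁.range))
    (le_inf o.U_le (map_le_range _ _)) (by rw [← MonoidHom.range_eq_map]; exact inf_le_right)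
  rw [← h1]
  exact le_normalizer_inf (zpowers_le.2 (le_normalizer hs)) (zpowers_le.2 h) (mem_zpowers s)

/-- The generators of `R₁` have small classes. -/
theorem Ov.small {z : X} (hz : d.q ^ 26 ≤ Nat.card ↥(d.U ⊓ Cz z)) :
    (cl S (e₁ z)).ncard < d.q ^ 12 * (Ns e₁.range).relIndex S := by
  have h3 := ncard_cl_le (inf_le_left : S ⊓ Ns e₁.range ≤ S) (e₁ z)
  rw [inf_relIndex_left] at h3
  refine h3.trans_lt (Nat.mul_lt_mul_of_pos_right ?_ (Nat.pos_of_ne_zero index_ne_zero_of_finite))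
  have : Finite (MulAut X) := Finite.of_injective (fun f : MulAut X => (f : X → X)) DFunLike.coe_injective
  let B : Subgroup (MulAut X) := (S.subgroupOf (Ns e₁.range)).map (indH o.c.inj)
  have hB : IsPGroup 2 B := (o.pg.comap_of_injective _ (Ns e₁.range).subtype_injective).map _
  have h1 : (cl (S ⊓ Ns e₁.range) (e₁ z)).ncard ≤ (MulAction.orbit B z).ncard := by
    rw [← Set.ncard_image_of_injective (MulAction.orbit B z) o.c.inj]
    refine Set.ncard_le_ncard ?_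
    rintro _ ⟨a, ha, rfl⟩
    exact ⟨_, ⟨⟨indH o.c.inj ⟨a, ha.2⟩, ⟨a, ha.2⟩, ha.1, rfl⟩, rfl⟩, (ind_indH o.c.inj ⟨a, ha.2⟩ z).symm⟩
  have h2 : Nat.card ↥(d.U ⊓ Cz z) ≤ Nat.card (MulAction.stabilizer B z) := by
    refine Nat.card_le_card_of_injective (fun v => ⟨⟨MulAut.conj v.1,
      ⟨e₁ v, (ind_conj v.1).mem_Ns⟩, o.U_le ⟨v, v.2.1, rfl⟩, (ind_conj v.1).indH_eq o.c.inj⟩, ?_⟩) ?_
    · change v.1 * z * v.1⁻¹ = z
      rw [← mem_Cz.1 v.2.2, mul_inv_cancel_right]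
    · intro v v' h
      have h4 : MulAut.conj v.1 = MulAut.conj v'.1 := congrArg (fun b => b.1.1) h
      exact Subtype.ext (o.i.eq_of_cen (isPGroup_iff_is2.1 o.w.isP _ v.2.1)
        (isPGroup_iff_is2.1 o.w.isP _ v'.2.1) (cen_of_conj h4))
  have h4 : Nat.card (MulAction.stabilizer B z) * (MulAction.orbit B z).ncard = Nat.card B := by
    rw [← MulAction.index_stabilizer, card_mul_index]
  have h5 := o.a.ab B hB
  have hq := o.w.two_le
  have h6 : d.q ^ 26 * (MulAction.orbit B z).ncard ≤ d.q ^ 26 * d.q ^ 11 := by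
    rw [← pow_add]
    exact (Nat.mul_le_mul_right _ (hz.trans h2)).trans (h4.le.trans h5)
  exact h1.trans_lt ((Nat.le_of_mul_le_mul_left h6 (by positivity)).trans_lt
    (Nat.pow_lt_pow_right (by omega) (by norm_num)))

/-- Elements that are not induced by `R` on the first factor have big classes. -/
theorem Ov.big1 (hs : s ∈ S) (hβ : Ind e₁ s β) (h' : β ∉ cI d.R) :
    d.q ^ 12 * (Ns e₁.range).relIndex S ≤ (cl S s).ncard := by
  have h := hβ.mem_Ns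
  have c := o.c
  have h3 := cl_mul (d.U.map e₁) s
  have h1 : d.q ^ 12 ≤ (cl (d.U.map e₁) s).ncard := by
    have h2 := o.a.ub β (hβ.st c.inj (o.Ns_U hs h)) (hβ.is2 c.inj (o.is2 hs)) h'
    have h4 : (d.U ⊓ fx β).map e₁ = d.U.map e₁ ⊓ Cz s :=
      le_antisymm (le_inf (map_mono inf_le_left) ((map_mono inf_le_right).trans hβ.map_fx_le)) (by
        rintro _ ⟨⟨v, hv, rfl⟩, h5⟩
        exact ⟨v, ⟨hv, (hβ.comm_iff c.inj).1 (mem_Cz.1 h5)⟩, rfl⟩)
    rw [← card_map_of_injective c.inj, ← card_map_of_injective (K := d.U) c.inj, h4, ← h3] at h2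
    exact Nat.le_of_mul_le_mul_right h2 Nat.card_pos
  rcases o.idx with ⟨-, k⟩ | ⟨h2, k⟩
  · rw [k, mul_one]
    exact h1.trans (Set.ncard_le_ncard (cl_mono o.U_le s))
  rw [k, mul_comm]
  refine (Nat.mul_le_mul_left 2 h1).trans ?_
  have cm : ∀ {a b}, a ∈ d.U.map e₁ → b ∈ e₂.range → Commute a b := fun ha hb =>
    c.le_Cs hb _ (map_le_range _ _ ha)
  by_cases h4 : ∀ b ∈ S, b ∈ e₂.range → b * s = s * b
  · obtain ⟨p, hp, h5⟩ := SetLike.not_le_iff_exists.1 h2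
    refine H66.TGW.two_le o.U_le hp fun x hx v hv k => ?_
    have h6 : d.U.map e₁ ≤ Cz s := fun a ha => by
      have a1 := mul_mem (mul_mem hv ha) (inv_mem hv)
      have a2 := o.swap (inv_mem hp) (mt inv_mem_iff.1 h5) (map_le_range _ _ a1)
      have a3 := h4 _ (mul_mem (mul_mem (inv_mem hp) (o.U_le a1)) (inv_mem (inv_mem hp))) a2
      have a4 := cm hx a2
      have a5 : Commute (p⁻¹ * (v * a * v⁻¹) * p⁻¹⁻¹) (x * s * x⁻¹) :=
        ((Commute.symm a4).mul_right a3).mul_right (Commute.symm a4).inv_right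
      rw [show x * s * x⁻¹ = p⁻¹ * (v * s * v⁻¹) * p⁻¹⁻¹ by rw [← k]; group, commute_iff_eq] at a5
      simp only [conj_mul, mul_left_inj, mul_right_inj] at a5
      exact mem_Cz.2 a5.symm
    rw [inf_eq_left.2 h6, mul_eq_right₀ Nat.card_pos.ne'] at h3
    have hq := o.w.two_le
    have : 1 < d.q ^ 12 := Nat.one_lt_pow (by norm_num) (by omega)
    omega
  · push Not at h4
    obtain ⟨b, b1, b2, b3⟩ := h4
    refine H66.TGW.two_le o.U_le b1 fun x hx v hv k => b3 ?_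
    have a1 := map_le_range _ _ (mul_mem (inv_mem hx) hv)
    have e' : b * s * b⁻¹ = x⁻¹ * v * s * (x⁻¹ * v)⁻¹ := by
      calc _ = x⁻¹ * (x * b * s * (x * b)⁻¹) * x := by group
        _ = x⁻¹ * (b * (x * s * x⁻¹) * b⁻¹) * x := by rw [(cm hx b2).eq]; group
        _ = _ := by rw [k]; group
    have h10 := eq_one2 o.i c (g := b * s * b⁻¹ * s⁻¹)
      (by rw [e', mul_assoc, mul_assoc, ← mul_assoc s]
          exact mul_mem a1 (conj_mem_of_mem_normalizer h (inv_mem a1)))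
      (by rw [mul_assoc, mul_assoc, ← mul_assoc s]
          exact mul_mem b2 (conj_mem_of_mem_normalizer (o.n2 hs h) (inv_mem b2)))
      (o.is2 (mul_mem (mul_mem (mul_mem b1 hs) (inv_mem b1)) (inv_mem hs)))
    rwa [mul_inv_eq_one, mul_inv_eq_iff_eq_mul] at h10

theorem Ov.mem_of {H : Subgroup X} (hH : H ≤ d.U) (hs : s ∈ S) {γ : MulAut X} (h1 : Ind e₁ s β)
    (h2 : Ind e₂ s γ) (b1 : β ∈ cI H) (b2 : γ ∈ cI H) : s ∈ pr e₁ e₂ H H := by
  obtain ⟨x, x1, rfl⟩ := mem_cI.1 b1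
  obtain ⟨v, v1, rfl⟩ := mem_cI.1 b2
  have k0 := o.c.mem_pr.2 ⟨x, x1, v, v1, rfl⟩
  have k1 : s * (e₁ x * e₂ v)⁻¹ ∈ Cs (G12 e₁ e₂) :=
    mem_Cs_G12.2 ⟨ind_one_iff.1 (by simpa using h1.mul (o.c.ind₁ x v).inv),
      ind_one_iff.1 (by simpa using h2.mul (o.c.ind₂ x v).inv)⟩
  exact mul_inv_eq_one.1 ((o.is2 (mul_mem hs (inv_mem (o.ge (pr_mono hH hH k0))))).eq_one
    (H64.SG.odd_orderOf_of_mem o.g.odd k1)) ▸ k0

/-- Elements outside `R₁ R₂` have big classes. -/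
theorem Ov.big (hs : s ∈ S) (h : s ∉ pr e₁ e₂ d.R d.R) :
    d.q ^ 12 * (Ns e₁.range).relIndex S ≤ (cl S s).ncard := by
  by_cases h1 : s ∈ Ns e₁.range
  · obtain ⟨β, hβ⟩ := exists_ind o.c.inj h1
    obtain ⟨γ, hγ⟩ := exists_ind o.c.inj₂ (o.n2 hs h1)
    by_cases h3 : β ∈ cI d.R
    · exact o.idx_symm ▸ o.symm.big1 hs hγ fun h4 => h (o.mem_of o.w.RU hs hβ hγ h3 h4)
    · exact o.big1 hs hβ h3
  · have h2 : d.U.map e₁ ⊓ Cz s = ⊥ := eq_bot_iff.2 fun a ha => by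
      have := o.swap hs h1 (map_le_range _ _ ha.1)
      rw [mem_Cz.1 ha.2, mul_inv_cancel_right] at this
      exact eq_one2 o.i o.c (map_le_range _ _ ha.1) this (o.is2 (o.U_le ha.1))
    have h3 := cl_mul (d.U.map e₁) s
    rw [h2, card_bot, mul_one, card_map_of_injective o.c.inj, o.w.cardU] at h3
    refine le_trans ?_ (h3.ge.trans (Set.ncard_le_ncard (cl_mono o.U_le s)))
    have hq := o.w.two_le
    have h5 : (Ns e₁.range).relIndex S ≤ 2 := by rcases o.idx with h | h <;> omega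
    calc _ ≤ d.q ^ 13 := by rw [pow_succ d.q 12]; exact Nat.mul_le_mul_left _ (h5.trans hq)
      _ ≤ _ := Nat.pow_le_pow_right (by omega) (by norm_num)

omit o in
theorem jobW1a : JobW1a.{u} := fun X _ _ d f G _ _ e t _ e₁ e₂ c g S h1 h2 h3 n hn => by
  have o : Ov d e t e₁ e₂ S := ⟨f.u, f.i, f.a, c, g, h1, h2, h3⟩
  have key : ∀ z ∈ S, (cl S z).ncard < d.q ^ 12 * (Ns e₁.range).relIndex S →
      z ∈ cj n⁻¹ (pr e₁ e₂ d.R d.R) := fun z hz h4 => by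
    rw [mem_cj, inv_inv]
    by_contra h5
    rw [← ncard_cl_cj n, cj_eq_self hn] at h4
    exact (o.big (conj_mem_of_mem_normalizer hn hz) h5).not_gt h4
  refine mem_normalizer_of_cj_le (cj_le_iff.2 (sup_le ?_ ?_)) <;>
    refine map_le_iff_le_comap.2 (f.u.cl.trans ((closure_le _).2 fun z hz => ?_))
  · exact key _ (o.U_le ⟨z, o.w.RU hz.1, rfl⟩) (o.small hz.2)
  · exact key _ (o.symm.U_le ⟨z, o.w.RU hz.1, rfl⟩) (o.idx_symm ▸ o.symm.small hz.2)

end H96.TEW1a
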