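import Cfsg.Agent.H64.SFBasic

/-! STD-F4, slot JA: an element that fixes a root element `z` and maps `t` to `t z`. -/

set_option autoImplicit false
set_option linter.unusedSectionVars false

namespace H96.SFJA

open Cfsg.Lie H63 H65 H64 H98 Subgroup H64.SF
open H64.SG (Cz Cs Ns cjs mem_Cz mem_Cs Is2 Inv2 IsO2 isPGroup_iff_is2)
open H67.SA (cm)
open H59.SO (B1 B0 CE Ind twe exists_ind ind_one_iff card_map_e)
open H86.WR (XF US)
open scoped commutatorElement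

universe u

variable {F : Type} [Field F] [Finite F] [CharP F 2] {G : Type u} [Group G] [Finite G]
  {e : XF F →* G} {t g : G} {u v : XF F} {c : F}

theorem isO2_cj {X : Type*} [Group X] {A B : Subgroup X} {a l : X} (h : IsO2 A (Cz a))
    (h' : IsO2 B (Cz (l * a * l⁻¹))) : B = cj l A := by
  rw [h.eq, h'.eq, cj_pCoreOf, ← H64.SG.cj_Cz]

theorem o2x (fr : FR F) {r : ℕ} (hr : r < 48) (c0 : c ≠ 0) : IsO2 (Q F r) (Cz (x F r c)) :=
  fr.cz r hr c c0 ▸ fr.o2 r hr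

/-- `g` fixes `e u` and maps `t` to `t e u`. -/
def MvU (e : XF F →* G) (t : G) (u : XF F) : Prop :=
  ∃ g, g * t * g⁻¹ = t * e u ∧ g * e u = e u * g

theorem same (H : B1 e t) (h1 : g * t * g⁻¹ = t * e u) (h2 : g * e v * g⁻¹ = e u)
    (h : IsConj u v) : MvU e t u := by
  obtain ⟨l, rfl⟩ := isConj_iff.1 h
  refine ⟨g * e l, ?_, ?_⟩
  · calc _ = g * (e l * t * (e l)⁻¹) * g⁻¹ := by group
      _ = _ := by rw [H.conj_t, h1]
  · rw [← mul_inv_eq_iff_eq_mul]
    calc _ = g * e (l * u * l⁻¹) * g⁻¹ := by simp only [map_mul, map_inv, mul_assoc, mul_inv_rev]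
      _ = _ := h2

theorem tt_conj (H : B1 e t) (h1 : g * t * g⁻¹ = t * e u) (l : XF F) :
    e l * g * t * (e l * g)⁻¹ = t * e (l * u * l⁻¹) := by
  calc _ = e l * (g * t * g⁻¹) * (e l)⁻¹ := by group
    _ = e l * t * (e l)⁻¹ * (e l * e u * (e l)⁻¹) := by rw [h1]; group
    _ = _ := by rw [H.conj_t, map_mul, map_mul, map_inv]

theorem MvU.conj (H : B1 e t) (h : MvU e t u) (h' : IsConj u v) : MvU e t v := by
  obtain ⟨l, rfl⟩ := isConj_iff.1 h'
  obtain ⟨g, h1, h2⟩ := h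
  refine same H (tt_conj H h1 l) (v := u) ?_ h'.symm
  calc _ = e l * (g * e u * g⁻¹) * (e l)⁻¹ := by group
    _ = _ := by rw [h2, mul_inv_cancel_right, map_mul, map_mul, map_inv]

theorem rt_conj {r : ℕ} (hr : r < 48) (h : Rt r u) (h' : Rt r v) : IsConj u v :=
  ((rt_iff hr).1 h).symm.trans ((rt_iff hr).1 h')

theorem t_eq (hu : u * u = 1) (h1 : g * t * g⁻¹ = t * e u) (h2 : g * e v * g⁻¹ = e u) :
    t = g * (t * e v) * g⁻¹ := by
  rw [← conj_mul, h1, h2, mul_assoc, ← map_mul, hu, map_one, mul_one]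

variable (fr : FR F) (H : B0 e t) (ab : AB e t)
include fr H ab

/-- The other end of an edge is a root element. -/
theorem typ (fi : FI F) {r : ℕ} (hr : r < 48) (c0 : c ≠ 0) (h1 : g * t * g⁻¹ = t * e (x F r c)) :
    ∃ v, (Sh v ∨ Lg v) ∧ g * e v * g⁻¹ = e (x F r c) := by
  obtain ⟨-, v, A, v1, v2, v3, v4⟩ := ab.edge g _ _ (inv2_x hr c0) h1 (o2x fr hr c0)
  have k : Nat.card A = Nat.card F ^ 15 := by
    rw [← fr.card r hr, ← card_map_e H.inj, ← card_map_e (A := Q F r) H.inj, ← v4, H67.SA.card_cjs]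
  have q2 : 1 < Nat.card F := Finite.one_lt_card
  refine ⟨v, ?_, v3⟩
  rcases fi.cls v v1 with h | h | h | h
  exacts [.inl h, .inr h, by
    obtain ⟨l, rfl⟩ := isConj_iff.1 h
    rw [isO2_cj fi.o2m v2, card_cj, fi.card.1] at k
    exact absurd (Nat.pow_right_injective q2 k) (by norm_num), by
    obtain ⟨l, rfl⟩ := isConj_iff.1 h
    rw [isO2_cj fi.o2d v2, card_cj, fi.card.2] at k
    exact absurd (Nat.pow_right_injective q2 k) (by norm_num)]

theorem cjQ {r s : ℕ} {d : F} (hr : r < 48) (hs : s < 48) (c0 : c ≠ 0) (d0 : d ≠ 0)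
    (h1 : g * t * g⁻¹ = t * e (x F r c)) (h2 : g * e (x F s d) * g⁻¹ = e (x F r c)) :
    cj g ((Q F s).map e) = (Q F r).map e := by
  obtain ⟨-, v, A, -, v2, v3, v4⟩ := ab.edge g _ _ (inv2_x hr c0) h1 (o2x fr hr c0)
  have : v = x F s d := H.inj (by
    have := v3.trans h2.symm
    rwa [mul_left_inj, mul_right_inj] at this)
  subst this
  rw [(o2x fr hs d0).eq, ← v2.eq]
  exact v4

/-- The flip for `q > 2`. -/
theorem flip {l d : F} (l0 : l ≠ 0) (l1 : l ≠ 1) (c0 : c ≠ 0) (d0 : d ≠ 0)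
    (h1 : g * t * g⁻¹ = t * e (x F 44 c)) (h2 : g * e (x F 47 d) * g⁻¹ = e (x F 44 c)) :
    ∃ v, Sh v ∧ MvU e t v := by
  have hZ : cj g ((Z F 47).map e) = (Z F 44).map e := by
    rw [← fr.zq 44 (by omega), ← fr.zq 47 (by omega), map_commutator, map_commutator, cj_commutator,
      cjQ fr H ab (by omega) (by omega) c0 d0 h1 h2]
  obtain ⟨r, hr, hh⟩ := tor (F := F) (r := 47) (by omega)
  have k1 : ∀ a, ∃ b, g * e (x F 47 a) * g⁻¹ = e (x F 44 b) := fun a => by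
    have : g * e (x F 47 a) * g⁻¹ ∈ (Z F 44).map e :=
      hZ ▸ conj_mem_cj ⟨_, x_mem (by simp) (by omega) a, rfl⟩
    obtain ⟨w, hw, e1⟩ := this
    obtain ⟨b, rfl⟩ := (mem_Z (by omega)).1 hw
    exact ⟨b, e1.symm⟩
  have k2 : ∀ b, ∃ a, g * e (x F 47 a) * g⁻¹ = e (x F 44 b) := fun b => by
    have : e (x F 44 b) ∈ cj g ((Z F 47).map e) := hZ ▸ ⟨_, x_mem (by simp) (by omega) b, rfl⟩
    obtain ⟨_, ⟨w, hw, rfl⟩, e1⟩ := this
    obtain ⟨a, rfl⟩ := (mem_Z (by omega)).1 hw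
    exact ⟨a, e1⟩
  have k3 : ∀ a, g * e (h F r l) * g⁻¹ * (g * e (x F 47 a) * g⁻¹) * (g * e (h F r l) * g⁻¹)⁻¹ =
      g * e (x F 47 (l * a)) * g⁻¹ := fun a => by
    rw [← hh l l0, map_mul, map_mul, map_inv]; group
  obtain ⟨c2, e2⟩ := k1 (l * d)
  have n0 : c + c2 ≠ 0 := fun h => by
    have h3 : c2 = c := by rw [← CharTwo.neg_eq c]; linear_combination h
    rw [h3, ← h2, mul_left_inj, mul_right_inj] at e2
    exact l1 (mul_right_cancel₀ d0 ((x_inj (by omega) (H.inj e2)).trans (one_mul d).symm))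
  have m1 : g * e (h F r l) * g⁻¹ * t * (g * e (h F r l) * g⁻¹)⁻¹ = t * e (x F 44 (c + c2)) := by
    have e3 : g * e (h F r l) * g⁻¹ * (g * t * g⁻¹) * (g * e (h F r l) * g⁻¹)⁻¹ = g * t * g⁻¹ := by
      calc _ = g * (e (h F r l) * t * (e (h F r l))⁻¹) * g⁻¹ := by group
        _ = _ := by rw [H.conj_t]
    conv_lhs => rw [t_eq (x_sq (by omega) c) h1 h2, ← conj_mul (b := g), ← conj_mul, e3, k3, h1, e2]
    rw [mul_assoc, ← map_mul, x_add (by omega)]
  obtain ⟨a, ea⟩ := k2 (c + c2)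
  obtain ⟨b, eb⟩ := k1 (l⁻¹ * a)
  have m2 : g * e (h F r l) * g⁻¹ * e (x F 44 b) * (g * e (h F r l) * g⁻¹)⁻¹ =
      e (x F 44 (c + c2)) := by rw [← eb, k3, mul_inv_cancel_left₀ l0, ea]
  have b0 : b ≠ 0 := fun h => by
    rw [h, x_zero (by omega), map_one, mul_one, mul_inv_cancel, eq_comm,
      map_eq_one_iff _ H.inj, x_eq_one (by omega)] at m2
    exact n0 m2
  exact ⟨_, sh_x (by decide) n0, same H.toB1 m1 m2 (isConj_x (by omega) (by omega) rfl n0 b0)⟩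

/-- The case `q = 2`. -/
theorem small (fi : FI F) (hF : Nat.card F = 2) (h1 : g * t * g⁻¹ = t * e (x F 40 1)) :
    ∃ v, (Sh v ∨ Lg v) ∧ MvU e t v := by
  obtain ⟨⟨N, N1, N2, N3⟩, tri⟩ := fi.tri hF
  obtain ⟨h2, -⟩ := ab.edge g _ _ (inv2_x (by omega) one_ne_zero) h1 (o2x fr (by omega) one_ne_zero)
  obtain ⟨_, ⟨v, rfl⟩, hv⟩ := h2 ⟨x F 44 1, x_mem (by decide) (by omega) 1, rfl⟩
  replace hv : g * e v * g⁻¹ = e (x F 44 1) := hv
  have hv' : e v = g⁻¹ * e (x F 44 1) * g := by rw [← hv]; group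
  have ht : t = g⁻¹ * (t * e (x F 40 1)) * g := by rw [← h1]; group
  have c1 : x F 33 1 * x F 40 1 * (x F 33 1)⁻¹ = x F 40 1 * x F 44 1 := by
    have := c1' (F := F) 33 40 44 1 1
    rw [cm, mul_inv_eq_iff_eq_mul, mul_one] at this
    rw [this, c0' 44 40]
  refine ⟨v, tri v ?_ ?_, g⁻¹ * e (x F 33 1) * g, ?_, ?_⟩
  · have := inv2_x (F := F) (r := 44) (by omega) one_ne_zero
    refine ⟨H.inj ?_, fun h => this.2 (H.inj ?_)⟩
    · rw [map_mul, hv', map_one]
      calc _ = g⁻¹ * e (x F 44 1 * x F 44 1) * g := by rw [map_mul]; group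
        _ = 1 := by rw [this.1, map_one]; group
    · rw [← hv, h, map_one]; group
  · have k : ∀ p ∈ N, ∀ s, s ∈ [40, 44] → e p * e (x F s 1) = e (x F s 1) * e p := fun p hp s hs => by
      simp only [List.mem_cons, List.not_mem_nil, or_false] at hs
      rcases hs with rfl | rfl
      · rw [← map_mul, ← map_mul, mem_Cz.1 (N1 hp).1]
      · rw [← map_mul, ← map_mul, mem_Cz.1 (N1 hp).2]
    have h3 : cjs g⁻¹ (N.map e) ≤ e.range := ab.pf _ (by
      rintro _ ⟨_, ⟨p, hp, rfl⟩, rfl⟩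
      refine mem_Cz.2 ?_
      calc _ = g⁻¹ * (g * t * g⁻¹ * e p) * g := by simp [mul_assoc]
        _ = g⁻¹ * (e p * (g * t * g⁻¹)) * g := by
          rw [h1, mul_assoc t, ← k p hp 40 (by simp), ← mul_assoc t, H.comm, mul_assoc (e p)]
        _ = _ := by simp [mul_assoc]) (by
      rw [← map_commutator, ← map_commutator]
      exact map_mono (map_mono N2))
    have h4 : cjs g⁻¹ (N.map e) ≤ (Cz v).map e := fun a ha => by
      obtain ⟨w, rfl⟩ := h3 ha
      obtain ⟨_, ⟨p, hp, rfl⟩, e1⟩ := ha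
      refine ⟨w, mem_Cz.2 (H.inj ?_), rfl⟩
      rw [map_mul, map_mul, ← e1, hv']
      calc _ = g⁻¹ * (e (x F 44 1) * e p) * g := by simp [mul_assoc]
        _ = g⁻¹ * (e p * e (x F 44 1)) * g := by rw [k p hp 44 (by simp)]
        _ = _ := by simp [mul_assoc]
    have h5 := card_dvd_of_le h4
    rw [H67.SA.card_cjs, card_map_e H.inj, card_map_e H.inj] at h5
    exact N3.trans h5
  · calc _ = g⁻¹ * (e (x F 33 1) * (g * t * g⁻¹) * (e (x F 33 1))⁻¹) * g := by group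
      _ = g⁻¹ * (e (x F 33 1) * t * (e (x F 33 1))⁻¹ *
          e (x F 33 1 * x F 40 1 * (x F 33 1)⁻¹)) * g := by
        rw [h1, map_mul, map_mul, map_inv]; group
      _ = g⁻¹ * (t * e (x F 40 1)) * g * (g⁻¹ * e (x F 44 1) * g) := by
        rw [H.conj_t, c1, map_mul]; group
      _ = _ := by rw [← ht, ← hv']
  · rw [hv']
    calc _ = g⁻¹ * e (x F 33 1 * x F 44 1) * g := by rw [map_mul]; group
      _ = _ := by rw [c0' 33 44, map_mul]; group

theorem key (fi : FI F) (hu : Sh u) (h : TT e t u) : ∃ v, (Sh v ∨ Lg v) ∧ MvU e t v := by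
  obtain ⟨g, h1⟩ := isConj_iff.1 h
  by_cases hF : Nat.card F = 2
  · obtain ⟨l, hl⟩ := isConj_iff.1 (rt_conj (by omega) hu (sh_x (r := 40) (by decide) one_ne_zero))
    exact small fr H ab fi hF (hl ▸ tt_conj H.toB1 h1 l)
  obtain ⟨l, hl⟩ := isConj_iff.1 (rt_conj (by omega) hu (sh_x (r := 44) (by decide) one_ne_zero))
  have h2 := tt_conj H.toB1 h1 l
  rw [hl] at h2
  generalize e l * g = g' at h2
  obtain ⟨v, hv | hv, h3⟩ := typ fr H ab fi (by omega) one_ne_zero h2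
  · exact ⟨_, .inl (sh_x (by decide) one_ne_zero), same H.toB1 h2 h3 ((rt_iff (by omega)).1 hv)⟩
  · obtain ⟨m, rfl⟩ := isConj_iff.1 ((rt_iff (by omega)).1 hv)
    obtain ⟨a, a0, a1⟩ : ∃ a : F, a ≠ 0 ∧ a ≠ 1 := by
      by_contra hc
      push Not at hc
      refine hF (Nat.card_eq_two_iff.2 ⟨0, 1, zero_ne_one, Set.eq_univ_of_forall fun a => ?_⟩)
      by_cases a0 : a = 0
      exacts [.inl a0, .inr (hc a a0)]
    obtain ⟨w, w1, w2⟩ := flip fr H ab (g := g' * e m) a0 a1 one_ne_zero one_ne_zero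
      (by rw [← h2, mul_inv_rev, mul_assoc g', mul_assoc g', ← mul_assoc _ _ g'⁻¹, H.conj_t, mul_assoc])
      (by rw [← h3]; simp only [map_mul, map_inv, mul_assoc, mul_inv_rev])
    exact ⟨w, .inl w1, w2⟩

omit H ab in
theorem elV {a : XF F} (ha : a ∈ V F 44) : a * a = 1 := by
  have h1 : V F 44 ≤ Q F 44 := US_mono (by decide)
  have h2 : ∀ a ∈ V F 44, ∀ b ∈ V F 44, a * b = b * a := fun a ha b hb =>
    (fr.cq 44 (by omega) ▸ hb : b ∈ Cs (Q F 44)) a (h1 ha)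
  let K : Subgroup (XF F) :=
    { carrier := {a | a ∈ V F 44 ∧ a * a = 1}
      one_mem' := ⟨one_mem _, one_mul 1⟩
      mul_mem' := fun {a b} ha hb => ⟨mul_mem ha.1 hb.1, by
        rw [mul_assoc, ← mul_assoc b, h2 b hb.1 a ha.1, mul_assoc, hb.2, mul_one, ha.2]⟩
      inv_mem' := fun {a} ha => ⟨inv_mem ha.1, by rw [← mul_inv_rev, ha.2, inv_one]⟩ }
  exact (US_le (K := K) (fun r hr h a => ⟨x_mem hr h a, x_sq h a⟩) ha).2

theorem two (fc : FC F) (mv : Mv e t) : CE e t := by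
  obtain ⟨g, c, c0, h1, h2⟩ := mv
  have hQ := cjQ fr H ab (by omega) (by omega) c0 c0 h1 (mul_inv_eq_iff_eq_mul.2 h2)
  -- no element of order four
  have four : ∀ r ∈ Cs e.range, t * r = r * t → r * r ≠ t := fun r hr hc h3 => by
    have a1 : g⁻¹ * r * g ∈ Cz t := mem_Cz.2 (by
      calc _ = g⁻¹ * (g * t * g⁻¹ * r) * g := by group
        _ = g⁻¹ * (r * (g * t * g⁻¹)) * g := by
          rw [h1, mul_assoc t, hr _ ⟨_, rfl⟩, ← mul_assoc t, hc, mul_assoc r]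
        _ = _ := by group)
    obtain ⟨β, hβ⟩ := exists_ind H.inj (H.cz a1)
    obtain ⟨ζ, z1, rfl⟩ := fc.cS β fun s hs a => (hβ.comm_iff H.inj).1 (by
      have a2 : g * e (x F s a) * g⁻¹ ∈ e.range := map_le_range _ _
        (hQ ▸ conj_mem_cj ⟨_, x_mem hs (by revert s; decide) a, rfl⟩ : _ ∈ (Q F 44).map e)
      calc _ = g⁻¹ * (r * (g * e (x F s a) * g⁻¹)) * g := by group
        _ = _ := by rw [← hr _ a2]; group)
    have a3 : g⁻¹ * t * g ∈ Cs e.range := by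
      have := hβ.mul hβ
      rwa [← map_mul, elV fr z1, map_one, ind_one_iff,
        show g⁻¹ * r * g * (g⁻¹ * r * g) = g⁻¹ * (r * r) * g by group, h3] at this
    rcases H.uniq a3 (by
      calc _ = g⁻¹ * (t * t) * g := by group
        _ = 1 := by rw [H.inv.1]; group) (by
      calc _ = g⁻¹ * (g * t * g⁻¹ * t) * g := by group
        _ = g⁻¹ * (t * (g * t * g⁻¹)) * g := by rw [h1, mul_assoc t, ← H.comm]
        _ = _ := by group) with a4 | a4
    · exact H.inv.2 (by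
        calc t = g * (g⁻¹ * t * g) * g⁻¹ := by group
          _ = 1 := by rw [a4]; group)
    · have a5 : g * t * g⁻¹ = t := by
        calc _ = g * (g⁻¹ * t * g) * g⁻¹ := by rw [a4]
          _ = t := by group
      rw [a5, left_eq_mul, map_eq_one_iff _ H.inj, x_eq_one (by omega)] at h1
      exact c0 h1
  refine ⟨H.toB1, fun R R1 R2 => ?_⟩
  obtain ⟨T, hT, h3⟩ := exists_isSyl_le (H64.SG.is2_of_sq H.inv.1).zpowers (zpowers_le.2 H.cen)
  obtain ⟨k, -, h4⟩ := hT.exists_cj_le R2 R1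
  refine (card_cj k R).ge.trans ((card_le_of_le h4).trans ?_)
  have cy := H.cyc T hT.1 hT.2.1
  have hc : ∀ r ∈ T, t * r = r * t := fun r hr => congrArg Subtype.val
    (cy.isMulCommutative.is_comm.comm (⟨t, h3 (mem_zpowers t)⟩ : T) ⟨r, hr⟩)
  have sq : ∀ k : ℕ, ∀ r ∈ T, r ^ 2 ^ k = 1 → r * r = 1 := by
    intro k
    induction k with
    | zero => intro r _ h; rw [pow_zero, pow_one] at h; rw [h, one_mul]
    | succ k ih =>
      intro r hr h
      have a1 := ih (r * r) (mul_mem hr hr) (by rw [← pow_two, ← pow_mul, ← pow_succ', h])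
      exact (H.uniq (hT.1 (mul_mem hr hr)) a1 (hc _ (mul_mem hr hr))).resolve_right
        (four r (hT.1 hr) (hc r hr))
  refine (card_le_of_le (K := zpowers t) fun r hr => ?_).trans (H59.SO.card_zpowers_inv2 H.inv).le
  obtain ⟨k, hk⟩ := isPGroup_iff_is2.1 hT.2.1 r hr
  rcases H.uniq (hT.1 hr) (sq k r hr hk) (hc r hr) with rfl | rfl
  exacts [one_mem _, mem_zpowers _]

omit fr ab in
theorem mv_of (h : ∃ v, (Sh v ∨ Lg v) ∧ MvU e t v) : ∃ β, Mv (twe e β) t := by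
  obtain ⟨v, hv | hv, h⟩ := h
  · obtain ⟨g, h1, h2⟩ := h.conj H.toB1 ((rt_iff (by omega)).1 hv).symm
    exact ⟨1, g, 1, one_ne_zero, h1, h2⟩
  · obtain ⟨g, h1, h2⟩ := h.conj H.toB1 ((rt_iff (by omega)).1 hv).symm
    have : gam F (x F 44 1) = x F 47 1 := by
      rw [gam_x (by omega)]; exact congrArg _ (by simp)
    exact ⟨gam F, g, 1, one_ne_zero, by rw [H59.SO.twe_apply, this, h1],
      by rw [H59.SO.twe_apply, this, h2]⟩

omit fr H ab in
theorem jobJA (hAB : JobAB.{u}) (hFR : JobFR) (hFI : JobFI) (hFC : JobFC) : JobJA.{u} := by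
  intro F _ _ _ G _ _ e t H ⟨u, hu, h⟩
  have fr := hFR F
  have fi := hFI F
  refine ⟨?_, fun e' m mv ⟨c, c0, hc⟩ => ?_⟩
  · obtain ⟨β, hβ⟩ : ∃ β, Mv (twe e β) t := by
      rcases hu with hu | hu
      · exact mv_of H (key fr H (hAB F G e t H) fi hu h)
      · have H' := H.twe (gam F)
        obtain ⟨g, h1⟩ := isConj_iff.1 h
        obtain ⟨l, hl⟩ := isConj_iff.1 ((rt_iff (by omega)).1 hu).symm
        have h2 := tt_conj H.toB1 h1 l
        have : gam F (x F 44 1) = x F 47 1 := by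
          rw [gam_x (by omega)]; exact congrArg _ (by simp)
        obtain ⟨β, hβ⟩ := mv_of H' (key fr H' (hAB F G _ t H') fi (sh_x (r := 44) (by decide) one_ne_zero)
          (isConj_iff.2 ⟨_, by rw [H59.SO.twe_apply, this, ← hl]; exact h2⟩))
        exact ⟨gam F * β, hβ⟩
    exact ⟨β, two fr (H.twe β) (hAB F G _ t (H.twe β)) (hFC F) hβ, hβ⟩
  · obtain ⟨g, h1⟩ := isConj_iff.1 hc
    have k : MvU e t (x F 47 c) := by
      obtain ⟨v, hv | hv, h2⟩ := typ fr H (hAB F G e t H) fi (by omega) c0 h1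
      · obtain ⟨g₀, c₀, a0, a1, a2⟩ := mv
        obtain ⟨g₁, b1, b2⟩ := MvU.conj H.toB1 ⟨g₀, a1, a2⟩
          (rt_conj (by omega) (sh_x (r := 44) (by decide) a0) hv)
        refine ⟨g * g₁ * g⁻¹, ?_, ?_⟩
        · conv_lhs => rw [t_eq (x_sq (by omega) c) h1 h2]
          calc _ = g * (g₁ * t * g₁⁻¹ * (g₁ * e v * g₁⁻¹)) * g⁻¹ := by group
            _ = _ := by
              rw [b1, b2, mul_inv_cancel_right, mul_assoc t, ← map_mul, (hv.inv2 (by omega)).1, map_one,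
                mul_one, h1]
        · rw [← h2, conj_mul, conj_mul, b2]
      · exact same H.toB1 h1 h2 (rt_conj (by omega) (lg_x (by decide) c0) hv)
    obtain ⟨φ, -, -, p, -⟩ := m.ex
    obtain ⟨g', a1, a2⟩ := k
    have := p 44 (by decide) (φ.symm c)
    rw [RingEquiv.apply_symm_apply] at this
    exact ⟨g', φ.symm c, by simpa using c0, this ▸ a1, this ▸ a2⟩

end H96.SFJA
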