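import Cfsg.Agent.H64.SFMod
import Cfsg.Agent.H46.SFY
import Cfsg.Agent.S2175
import Cfsg.Agent.S2182

/-! STD-F4, job MI: every involution of `E₆(q)`, `²E₆(q)` is conjugate into `F₄(q)`. -/

set_option autoImplicit false

namespace H96.SFMI

open Cfsg.Lie H63 H65 H64 H64.SF H46.SF
open H86.WR (XF)
open Cfsg.Agent.S2175 (R)

/-- the representatives in `F₄` -/
noncomputable def u (F : Type) [Field F] (B : List ℕ × List ℕ) : XF F :=
  if B.1.length = 1 then x F 47 1 else if B.1.length = 2 then x F 44 1 else x F 40 1 * x F 43 1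

variable {K : Type} [Field K] [CharP K 2]

theorem hu : ∀ B ∈ R, (iE K (u K B) : GL chevE6.Idx K) = pr (xU chevE6 K) B.1 := by
  have c : ∀ r s : ℕ, r < 72 → s < 72 → s ≠ chevE6.neg r → chevE6.commTerms r s = [] →
      xU chevE6 K r 1 * xU chevE6 K s 1 = xU chevE6 K s 1 * xU chevE6 K r 1 := fun r s hr hs h1 h2 =>
    ((H68.mat chevE6 K).x_comm hr hs h1 h2 1 1).symm
  simp only [R, List.forall_mem_cons, List.not_mem_nil, false_imp_iff, implies_true, and_true]
  refine ⟨?_, ?_, ?_⟩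
  · rw [u, if_pos (by decide), iE_x (by decide), yE_long (by decide +kernel),
      show o1 47 = 71 by decide +kernel]
    simp [pr]
  · rw [u, if_neg (by decide), if_pos (by decide), iE_x (by decide), yE_short (by decide +kernel),
      show o1 44 = 66 by decide +kernel, show o2 44 = 68 by decide +kernel]
    simpa [pr] using c 66 68 (by decide) (by decide) (by decide +kernel) (by decide +kernel)
  · rw [u, if_neg (by decide), if_neg (by decide), map_mul, iE_x (by decide), iE_x (by decide),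
      yE_short (by decide +kernel), yE_long (by decide +kernel), show o1 43 = 65 by decide +kernel,
      show o1 40 = 55 by decide +kernel, show o2 40 = 67 by decide +kernel]
    simpa [pr, mul_assoc] using c 67 65 (by decide) (by decide) (by decide +kernel) (by decide +kernel)

theorem cls [Finite K] : (∀ B ∈ R, orderOf (iE K (u K B)) = 2) ∧
    (∀ g : chevE6.group K, orderOf g = 2 → ∃ B, IsConj g (iE K (u K B))) ∧
    ∀ A ∈ R, ∀ B ∈ R, IsConj (iE K (u K A)) (iE K (u K B)) → A = B := by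
  open Cfsg.Agent.S2175 in
  obtain ⟨h1, h2, h3⟩ := invol_classes (F := K) one_ne_zero (cube_hyp c0) H C R (fun _ _ => rfl) hH
    c1 c2 c3 c4
  refine ⟨fun B hB => ?_, fun g hg => ?_, fun A hA B hB e => ?_⟩
  · rw [← Subgroup.orderOf_coe, hu B hB, (h1 B hB).2]
  · obtain ⟨B, hB, k, hk, e⟩ := h2 g g.2 (by rw [Subgroup.orderOf_coe, hg])
    exact ⟨B, isConj_iff.2 ⟨⟨k, hk⟩, Subtype.ext (e.trans (hu B hB).symm)⟩⟩
  · obtain ⟨k, e⟩ := isConj_iff.1 e
    exact h3 A hA B hB ⟨k, k.2, by rw [← hu A hA, ← hu B hB, ← e]; rfl⟩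

theorem ord {Y : Type*} [Group Y] {y : Y} (h : y * y = 1) (h1 : y ≠ 1) : orderOf y = 2 :=
  orderOf_eq_prime (by rwa [pow_two]) h1

theorem jobMI : JobMI := by
  refine ⟨fun F _ _ _ y hy => ?_, fun F K _ _ _ _ _ _ X y hy => ?_⟩
  · by_cases h1 : y = 1
    · exact ⟨1, by rw [h1, map_one]⟩
    · exact (cls.2.1 y (ord hy h1)).elim fun B h => ⟨_, h⟩
  by_cases h1 : y = 1
  · exact ⟨1, by rw [h1, map_one]⟩
  have e : ∀ B, jT X (X.ιT (u F B)) = iE K (u K B) := fun B => by
    unfold u
    split_ifs <;> simp only [map_mul, jT_x X (by decide : 47 < 48), jT_x X (by decide : 44 < 48),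
      jT_x X (by decide : 40 < 48), jT_x X (by decide : 43 < 48), map_one]
  have h3 := Cfsg.Agent.S2182.result (Nat.card F) X.hK
  have k := Set.eq_of_subset_of_ncard_le
    (s := (fun B => ConjClasses.mk (X.ιT (u F B))) '' {B | B ∈ R})
    (t := ConjClasses.mk '' {g | orderOf g = 2}) (by
      rintro _ ⟨B, hB, rfl⟩
      refine ⟨_, ?_, rfl⟩
      rw [Set.mem_ofPred_eq, ← orderOf_injective _ (jT_inj X), e, cls.1 B hB]) (by
      rw [h3, Set.InjOn.ncard_image (s := {B | B ∈ R}) fun A hA B hB h => cls.2.2 A hA B hB (by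
        rw [← e, ← e]; exact (jT X).map_isConj (ConjClasses.mk_eq_mk_iff_isConj.1 h)),
        ← List.coe_toFinset, Set.ncard_coe_finset]
      decide) (Set.toFinite _)
  obtain ⟨B, -, h⟩ := k.ge ⟨y, ord hy h1, rfl⟩
  exact ⟨_, (ConjClasses.mk_eq_mk_iff_isConj.1 h).symm⟩

end H96.SFMI
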