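import Cfsg.Agent.H82.FSSpec3
import Cfsg.Agent.H89.Burnside2
import Cfsg.Agent.H34.BS

/-! Tower FS, wave 3: jobs HZ1 and T17H. -/

set_option autoImplicit false

namespace H96.FSHZ

open Cfsg Subgroup H82.FS MulAction

universe u v

section HZ1

variable {X : Type u} [Group X] {Ω : Type v} [MulAction X Ω] {T : Subgroup X} {δ : Ω} {z : X}

theorem zc_conj (hT : T.Normal) (h : Zc T δ z) (g : X) : Zc T (g • δ) (g * z * g⁻¹) := by
  refine ⟨hT.conj_mem _ h.1 g, by rw [mul_smul, inv_smul_smul, mul_smul, h.2.1], fun t ht k => ?_⟩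
  have := h.2.2 (g⁻¹ * t * g⁻¹⁻¹) (hT.conj_mem _ ht _) (by
    rw [inv_inv, mul_smul, mul_smul, k, inv_smul_smul])
  show _ = _
  calc _ = g * (z * (g⁻¹ * t * g⁻¹⁻¹)) * g⁻¹ := by group
    _ = _ := by rw [this.eq]; group

theorem eq_one_of_cen (hs : IsSimpleGroup T) (hn : ¬ IsMulCommutative T) (hz : z ∈ T)
    (h : ∀ t ∈ T, Commute z t) : z = 1 := by
  rcases (inferInstance : (center T).Normal).eq_bot_or_eq_top with e | e
  · have : (⟨z, hz⟩ : T) ∈ center T := mem_center_iff.2 fun t : T => Subtype.ext (h t t.2).eq.symm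
    rw [e, mem_bot] at this
    exact congrArg Subtype.val this
  · exact absurd ⟨⟨fun m n => (mem_center_iff.1 (e ▸ mem_top n : n ∈ center T) m)⟩⟩ hn

theorem fix_of_comm [FaithfulSMul X Ω] (hp : IsPreprimitive T Ω) (hs : IsSimpleGroup T)
    (hn : ¬ IsMulCommutative T) (h : Zc T δ z) (h1 : z ≠ 1) {t : X} (ht : t ∈ T)
    (c : Commute z t) : t • δ = δ := by
  have : Nontrivial Ω := by
    by_contra k
    rw [not_nontrivial_iff_subsingleton] at k
    exact h1 (eq_of_smul_eq_smul (α := Ω) fun a => Subsingleton.elim _ _)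
  have hc := IsPreprimitive.isCoatom_stabilizer_of_isPreprimitive T δ
  have hle : stabilizer T δ ≤ (centralizer {z}).subgroupOf T := fun s k =>
    mem_centralizer_singleton_iff.2 (h.2.2 s s.2 k).eq.symm
  rcases hc.le_iff.1 hle with e | e
  · refine absurd (eq_one_of_cen hs hn h.1 fun s k => ?_) h1
    exact (mem_centralizer_singleton_iff.1
      (e ▸ mem_top _ : (⟨s, k⟩ : T) ∈ (centralizer {z}).subgroupOf T)).symm
  · exact (e ▸ mem_centralizer_singleton_iff.2 c.eq.symm : (⟨t, ht⟩ : T) ∈ stabilizer T δ)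

end HZ1

theorem jobHZ1 : JobHZ1.{u, v} := by
  intro X _ _ Ω _ _ _ h2 T hT hs hn
  have hp : IsPreprimitive T Ω := by
    refine ((H89.IsMinNormal.burnside h2 (N := T) ⟨hT, fun e => ?_, fun M hM hle => ?_⟩).resolve_left
      fun k => hn k.1).2.1
    · have := hs.toNontrivial
      rw [e] at this
      exact not_nontrivial _ this
    · rcases (hM.subgroupOf T).eq_bot_or_eq_top with e | e
      · exact Or.inl ((subgroupOf_eq_bot.1 e).eq_bot_of_le hle)
      · exact Or.inr (le_antisymm hle (subgroupOf_eq_top.1 e))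
  have t2 : ∀ {a b c d : Ω}, a ≠ b → c ≠ d → ∃ g : X, g • a = c ∧ g • b = d :=
    is_two_pretransitive_iff.1 h2
  have key : ∀ (δ : Ω) (z : X), Zc T δ z → z ≠ 1 → ∀ β : Ω, z • β = β → β = δ := by
    intro δ z h h1 β hβ
    by_contra hne
    obtain ⟨g, g1, -⟩ := t2 (Ne.symm hne) hne
    have k := zc_conj hT h g
    rw [g1] at k
    refine h1 (conj_eq_one_iff.1 (eq_of_smul_eq_smul (α := Ω) fun γ => ?_ : g * z * g⁻¹ = 1))
    rw [one_smul]
    by_cases hγ : γ = β
    · rw [hγ, k.2.1]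
    obtain ⟨a, a1, a2⟩ := t2 (Ne.symm hγ) hne
    have k1 := zc_conj hT k a
    rw [a1] at k1
    have k2 := fix_of_comm hp hs hn h h1 k1.1 (k1.2.2 z h.1 hβ).symm
    rwa [← a2, mul_smul, inv_smul_smul, mul_smul, smul_left_cancel_iff] at k2
  intro δ z h h1
  refine ⟨key δ z h h1, fun h2 => h1 (eq_one_of_cen hs hn h.1 fun t ht => ?_)⟩
  have o2 : orderOf (⟨z, h.1⟩ : T) = 2 := by rw [← h2, ← orderOf_coe]
  have iso : IsIsolatedInvolution (⟨z, h.1⟩ : T) := ⟨o2, fun g c => by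
    have k := zc_conj hT h g
    have k1 := fix_of_comm hp hs hn h h1 k.1 (congrArg Subtype.val c.eq)
    have k2 := key _ _ k (fun e => h1 (conj_eq_one_iff.1 e)) δ k1
    exact Subtype.ext (mul_inv_eq_iff_eq_mul.2 (h.2.2 g g.2 k2.symm).eq.symm)⟩
  have k := H34.zstar iso ⟨t, ht⟩
  rcases (inferInstance : (oddCore T).Normal).eq_bot_or_eq_top with e | e
  · rw [e, mem_bot, mul_inv_eq_one, mul_inv_eq_iff_eq_mul] at k
    exact congrArg Subtype.val k
  · have k1 := H2.odd_card_oddCore T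
    rw [e, card_top] at k1
    have k2 := k1.of_dvd_nat (_root_.orderOf_dvd_natCard (⟨z, h.1⟩ : T))
    rw [o2] at k2
    exact absurd k2 (by decide)

theorem jobT17H : JobT17H.{u, v} := by
  intro hz H _ _ Γ _ _ h2 D hD hmin hn ⟨d, hd, γ0, hγ0⟩
  let f : H →* (toPermHom H Γ).range := (toPermHom H Γ).rangeRestrict
  have fs : Function.Surjective f := (toPermHom H Γ).rangeRestrict_surjective
  have fa : ∀ (h : H) (γ : Γ), f h • γ = h • γ := fun _ _ => rfl
  have inj : ∀ x ∈ D, f x = 1 → x = 1 := fun x hx k => by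
    rcases hmin (D ⊓ f.ker) inferInstance inf_le_left with e | e
    · exact mem_bot.1 (e ▸ (⟨hx, k⟩ : x ∈ D ⊓ f.ker))
    · have : f d = 1 := (e.ge hd).2
      exact absurd (by rw [← fa, this, one_smul]) hγ0
  have t2 : IsMultiplyPretransitive (toPermHom H Γ).range Γ 2 := by
    rw [is_two_pretransitive_iff] at h2 ⊢
    intro a b c d h h'
    obtain ⟨g, k⟩ := h2 h h'
    exact ⟨f g, k⟩
  have nm : (D.map f).Normal := hD.map f fs
  let φ : D ≃* D.map f := MulEquiv.ofBijective (f.subgroupMap D)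
    ⟨(injective_iff_map_eq_one _).2 fun x k => Subtype.ext (inj x x.2 (congrArg Subtype.val k)),
      f.subgroupMap_surjective D⟩
  have nc : ¬ IsMulCommutative (D.map f) := fun k => hn ⟨⟨fun a b => φ.injective (by
    rw [map_mul, map_mul, k.is_comm.comm])⟩⟩
  obtain ⟨hs, hp, -⟩ := (H89.IsMinNormal.burnside t2 (N := D.map f) ⟨nm, fun e => hγ0 (by
      rw [← fa, mem_bot.1 (e.le (mem_map_of_mem f hd)), one_smul]), fun M hM hle => by
      have := hM.comap f
      rcases hmin (D ⊓ M.comap f) inferInstance inf_le_left with e | e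
      · refine Or.inl (eq_bot_iff.2 fun m hm => ?_)
        obtain ⟨x, hx, rfl⟩ := hle hm
        rw [mem_bot.1 (e.le (mem_inf.2 ⟨hx, hm⟩)), map_one]
        exact one_mem _
      · exact Or.inr (le_antisymm hle (map_le_iff_le_comap.2 (e.ge.trans inf_le_right)))⟩).resolve_left
    fun k => nc k.1
  refine ⟨φ.isSimpleGroup, fun γ => ⟨fun M h1 h3 => ?_, fun x hx => inj x hx.1 ?_⟩⟩
  · have : Nontrivial Γ := ⟨_, _, hγ0⟩
    have hc := IsPreprimitive.isCoatom_stabilizer_of_isPreprimitive (D.map f) γ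
    have hle : stabilizer (D.map f) γ ≤ (M.map f).subgroupOf (D.map f) := by
      rintro ⟨_, x, hx, rfl⟩ k
      exact mem_map_of_mem f (h1 ⟨hx, k⟩)
    rcases hc.le_iff.1 hle with e | e
    · refine Or.inr (le_antisymm h3 fun x hx => ?_)
      obtain ⟨m, hm, k⟩ := subgroupOf_eq_top.1 e (mem_map_of_mem f hx)
      rw [← mul_inv_eq_one.1 (inj (m * x⁻¹) (D.mul_mem (h3 hm) (D.inv_mem hx)) (by
        rw [map_mul, map_inv, k, mul_inv_cancel]))]
      exact hm
    · refine Or.inl (le_antisymm (fun m hm => ⟨h3 hm, ?_⟩) h1)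
      exact (e ▸ mem_map_of_mem f hm :
        (⟨f m, mem_map_of_mem f (h3 hm)⟩ : D.map f) ∈ stabilizer (D.map f) γ)
  · refine hz _ Γ t2 _ nm hs nc γ (f x) (mem_map_of_mem f hx.1) hx.2.1 ?_
    rintro _ ⟨t, ht, rfl⟩ k
    exact (hx.2.2 t ht k).map f

end H96.FSHZ
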