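import Cfsg.Agent.H96.LDFA2

/-! Tower LD5, job FA, part 3: counting, solvability and the order bound. -/

set_option autoImplicit false

open Matrix Cfsg Cfsg.Geo H41.LD
open H19 hiding cj
open scoped MatrixGroups commutatorElement

namespace H96.LD

universe u

variable {K : Type u} [Field K] {G : Subgroup (GL (Fin 5) K)} {x y z s t : R 5 K} {w κ κ' ω : K}
  {e ε : Fin 3 → Fin 5 → K}

theorem tyE (h0 : ∀ i, 3 * X e ε x i = 1) (h1 : ε 1 ⬝ᵥ x.1 = ε 0 ⬝ᵥ x.1)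
    (h2 : (ε 2 ⬝ᵥ x.1) ^ 3 = (ε 0 ⬝ᵥ x.1) ^ 3) : ∃ κ, Ty e ε κ x := by
  have p0 := h0 0
  have p1 := h0 1
  have p2 := h0 2
  simp only [X] at p0 p1 p2
  refine ⟨3 * (ε 2 ⬝ᵥ x.1) * (x.2 ⬝ᵥ e 0), h1, ?_, Or.inr ?_⟩
  · rw [h1] at p1
    linear_combination (x.2 ⬝ᵥ e 0) * p1 - (x.2 ⬝ᵥ e 1) * p0
  generalize ε 0 ⬝ᵥ x.1 = a at *
  generalize x.2 ⬝ᵥ e 0 = b at *
  generalize ε 2 ⬝ᵥ x.1 = a' at *
  generalize x.2 ⬝ᵥ e 2 = b' at *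
  refine ⟨?_, ?_, ?_, p0⟩
  · linear_combination 27 * b ^ 3 * h2 + ((3 * a * b) ^ 2 + 3 * a * b + 1) * p0
  · linear_combination -a' * p0
  · linear_combination -b' * ((3 * a * b) ^ 2 + 3 * a * b + 1) * p0 - 27 * b' * b ^ 3 * h2 +
      9 * a' ^ 2 * b ^ 3 * p2

/-- Conjugation of matrices. -/
def cn (g : GL (Fin 5) K) (A : Matrix (Fin 5) (Fin 5) K) : Matrix (Fin 5) (Fin 5) K :=
  g.val * A * (g⁻¹).val

theorem cn_one (A : Matrix (Fin 5) (Fin 5) K) : cn 1 A = A := by simp [cn]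

theorem cn_mul (g k : GL (Fin 5) K) (A : Matrix (Fin 5) (Fin 5) K) : cn (g * k) A = cn g (cn k A) := by
  simp [cn, mul_assoc]

/-- The centraliser of a matrix. -/
def Cen (A : Matrix (Fin 5) (Fin 5) K) : Subgroup (GL (Fin 5) K) where
  carrier := {g | cn g A = A}
  one_mem' := cn_one A
  mul_mem' {a b} ha hb := by
    have h1 : cn a A = A := ha
    have h2 : cn b A = A := hb
    show cn _ A = A
    rw [cn_mul, h2, h1]
  inv_mem' {a} ha := by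
    have h1 : cn a A = A := ha
    show cn _ A = A
    rw [← h1, ← cn_mul, inv_mul_cancel, cn_one, h1]

theorem mem_Cen {g : GL (Fin 5) K} {A : Matrix (Fin 5) (Fin 5) K} :
    g ∈ Cen A ↔ g.val * A = A * g.val := Units.mul_inv_eq_iff_eq_mul _

theorem step (H : Subgroup (GL (Fin 5) K)) (A : Matrix (Fin 5) (Fin 5) K)
    {S : Set (Matrix (Fin 5) (Fin 5) K)} {k l : ℕ} (hf : S.Finite) (hk : S.ncard ≤ k)
    (hS : ∀ g ∈ H, cn g A ∈ S) (hl : (scalars (Fin 5) K).relIndex (Cen A ⊓ H) ≤ l) :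
    (scalars (Fin 5) K).relIndex H ≤ l * k := by
  let M : MulAction H (Matrix (Fin 5) (Fin 5) K) :=
    { smul := fun g B => cn g B
      one_smul := cn_one
      mul_smul := fun g k => cn_mul g.val k.val }
  have e1 : (Cen A).relIndex H = (Set.range fun g : H => cn g A).ncard :=
    @MulAction.index_stabilizer H _ _ M A
  have e2 : scalars (Fin 5) K ≤ Cen A := fun g hg => by
    obtain ⟨c, hc⟩ := (mem_scalars_iff g).1 hg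
    rw [mem_Cen, hc]; simp
  rw [← inf_eq_left.2 e2, ← Subgroup.relIndex_inf_mul_relIndex, e1]
  exact Nat.mul_le_mul hl ((Set.ncard_le_ncard (by rintro _ ⟨g, rfl⟩; exact hS g g.2) hf).trans hk)

theorem eig (h2 : (2 : K) ≠ 0) (hx : x.2 ⬝ᵥ x.1 = 2) {A : Matrix (Fin 5) (Fin 5) K}
    (h : A * N x = N x * A) : ∃ l : K, A *ᵥ x.1 = l • x.1 ∧ x.2 ᵥ* A = l • x.2 := by
  have e1 := congrArg (· *ᵥ x.1) h
  have e2 := congrArg (x.2 ᵥ* ·) h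
  simp only [← mulVec_mulVec, ← vecMul_vecMul, N_mulVec, vecMul_N, hx, mulVec_smul, smul_vecMul,
    ← dotProduct_mulVec] at e1 e2
  refine ⟨2⁻¹ * (x.2 ⬝ᵥ A *ᵥ x.1), ?_, ?_⟩
  · rw [mul_smul, ← e1, inv_smul_smul₀ h2]
  · rw [mul_smul, e2, inv_smul_smul₀ h2]

theorem link {A : Matrix (Fin 5) (Fin 5) K} {l l' : K} (h : x.2 ᵥ* A = l • x.2)
    (h' : A *ᵥ y.1 = l' • y.1) (h0 : x.2 ⬝ᵥ y.1 ≠ 0) : l' = l := by
  have := dotProduct_mulVec x.2 A y.1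
  rw [h, h', dotProduct_smul, smul_dotProduct] at this
  exact mul_right_cancel₀ h0 this

/-- The reflections of the class of `s` commuting with `t`. -/
def Om (G : Subgroup (GL (Fin 5) K)) (s t : R 5 K) : Set (Matrix (Fin 5) (Fin 5) K) :=
  N '' {x | Cl G s x ∧ cc t x = 0}

/-- Those which also commute with `y`. -/
def Bl (G : Subgroup (GL (Fin 5) K)) (s y : R 5 K) : Set (Matrix (Fin 5) (Fin 5) K) :=
  N '' {x | (Cl G s x ∧ cc s x = 0) ∧ (N y = N x ∨ cc y x = 0)}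

theorem cn_Om {g : GL (Fin 5) K} (hg : g ∈ G) (h : cn g (N t) = N y) {A : Matrix (Fin 5) (Fin 5) K}
    (hA : A ∈ Om G s t) : cn g A ∈ Om G s y := by
  obtain ⟨x, ⟨h1, h2⟩, rfl⟩ := hA
  exact ⟨_, ⟨Cl_cg h1 hg, by
    rw [cc_congr (h.symm.trans (N_cg g t).symm) rfl, cc_cg, h2]⟩, N_cg g x⟩

theorem cn_Bl {g : GL (Fin 5) K} (hg : g ∈ G) (h : cn g (N s) = N s) :
    cn g '' Bl G s y = Bl G s (cg g y) := by
  have k : ∀ {g : GL (Fin 5) K} {y : R 5 K}, g ∈ G → cn g (N s) = N s →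
      cn g '' Bl G s y ⊆ Bl G s (cg g y) := fun {g y} hg h => by
    rintro _ ⟨_, ⟨x, ⟨⟨h1, h2⟩, h3⟩, rfl⟩, rfl⟩
    exact ⟨cg g x, ⟨⟨Cl_cg h1 hg, by rw [cc_congr (h.symm.trans (N_cg g s).symm) rfl, cc_cg, h2]⟩,
      h3.imp (fun h3 => by rw [N_cg, N_cg, h3]) fun h3 => by rw [cc_cg, h3]⟩, N_cg g x⟩
  refine (k hg h).antisymm fun A hA => ⟨cn g⁻¹ A, ?_, by rw [← cn_mul, mul_inv_cancel, cn_one]⟩
  have := k (G.inv_mem hg) ((Cen _).inv_mem h) ⟨A, hA, rfl⟩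
  rwa [cg_inv_cg] at this

namespace Cx
variable (h : Cx G e ε w)
include h

theorem cla (hx : Cl G (sw e ε 0 1 1) x) : (∀ i, Z e ε x i) ∨
    (∃ i j η, i ≠ j ∧ η ^ 3 = 1 ∧ N x = N (sw e ε i j η)) ∨
    ∃ y κ, Cl G (sw e ε 0 1 1) y ∧ Ty e ε κ y ∧
      (x = y ∨ ∃ i j η, i ≠ j ∧ η ^ 3 = 1 ∧ x = cj (sw e ε i j η) y) := by
  refine (h.pat hx.1).imp_right (Or.imp_right ?_)
  rintro (⟨i, h1, h2⟩ | ⟨h1, h2⟩)
  · by_cases hi : i = 2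
    · subst hi
      have z0 := h2 0 (by decide)
      have z1 := h2 1 (by decide)
      exact ⟨x, 0, hx, ⟨z1.1.trans z0.1.symm, z1.2.trans z0.2.symm,
        Or.inl ⟨rfl, z0.1, z0.2, h1⟩⟩, Or.inl rfl⟩
    have r := h.rfs hi (ω := 1) (by simp)
    have z : ∀ i : Fin 3, i ≠ 2 → Equiv.swap i 2 0 ≠ i ∧ Equiv.swap i 2 1 ≠ i := by decide
    have z0 := h2 _ (z i hi).1
    have z1 := h2 _ (z i hi).2
    refine ⟨_, 0, Cl_cj r hx, ⟨?_, ?_, Or.inl ⟨rfl, ?_⟩⟩,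
      Or.inr ⟨i, 2, 1, hi, by simp, (cj_cj r.1 x).symm⟩⟩ <;>
      simp only [dot_cj_sw_one h.hd, cj_sw_one_dot h.hd, z0.1, z0.2, z1.1, z1.2, true_and,
        Equiv.swap_apply_right]
    exact h1
  · have p0 := h1 0
    have p1 := h1 1
    have p2 := h1 2
    have q1 := h2 1 0
    have q2 := h2 2 0
    simp only [X] at p0 p1 p2
    obtain ⟨θ, hθ⟩ : ∃ θ, θ = 3 * (ε 2 ⬝ᵥ x.1) * (x.2 ⬝ᵥ e 0) := ⟨_, rfl⟩
    have t1 : θ * (ε 0 ⬝ᵥ x.1) = ε 2 ⬝ᵥ x.1 := by rw [hθ]; linear_combination (ε 2 ⬝ᵥ x.1) * p0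
    have t3 : θ ^ 3 = 1 := by
      rw [hθ]
      linear_combination 27 * (x.2 ⬝ᵥ e 0) ^ 3 * q2 + ((3 * (ε 0 ⬝ᵥ x.1) * (x.2 ⬝ᵥ e 0)) ^ 2 +
        3 * (ε 0 ⬝ᵥ x.1) * (x.2 ⬝ᵥ e 0) + 1) * p0
    have r := h.rfs (i := 1) (j := 2) (by decide) t3
    have u1 : ε 2 ⬝ᵥ x.1 + (ε 1 ⬝ᵥ x.1 - θ ^ 2 * (ε 2 ⬝ᵥ x.1)) * θ = θ * (ε 1 ⬝ᵥ x.1) := by
      linear_combination -(ε 2 ⬝ᵥ x.1) * t3
    have u2 : x.2 ⬝ᵥ e 2 + (x.2 ⬝ᵥ e 1 - θ * (x.2 ⬝ᵥ e 2)) * θ ^ 2 = θ ^ 2 * (x.2 ⬝ᵥ e 1) := by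
      linear_combination -(x.2 ⬝ᵥ e 2) * t3
    obtain ⟨κ, hκ⟩ := tyE (e := e) (ε := ε) (x := cj (sw e ε 1 2 θ) x) (fun i => by
        fin_cases i <;> simp [X, cj_dot_left, cj_dot_right, sw, h.hd _ _, inv_cube t3]
        · exact p0
        · linear_combination p2 + 3 * (ε 2 ⬝ᵥ x.1) * (x.2 ⬝ᵥ e 2) * t3
        · rw [u1, u2]; linear_combination p1 + 3 * (ε 1 ⬝ᵥ x.1) * (x.2 ⬝ᵥ e 1) * t3)
      (by
        simp [cj_dot_right, sw, h.hd _ _, inv_cube t3]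
        linear_combination (ε 0 ⬝ᵥ x.1) * t3 - θ ^ 2 * t1)
      (by
        simp [cj_dot_right, sw, h.hd _ _, inv_cube t3]
        rw [u1]; linear_combination q1 + (ε 1 ⬝ᵥ x.1) ^ 3 * t3)
    exact ⟨_, κ, Cl_cj r hx, hκ, Or.inr ⟨1, 2, θ, by decide, t3, (cj_cj r.1 x).symm⟩⟩

theorem z0 (hz : Cl G (sw e ε 0 1 1) z) (h0 : ∀ i, Z e ε z i) (hx : Cl G (sw e ε 0 1 1) x)
    (tx : Ty e ε κ x) : z.2 ⬝ᵥ x.1 = 0 := by
  have a : ∀ i, ε i ⬝ᵥ (cj z x).1 = ε i ⬝ᵥ x.1 := fun i => by rw [cj_dot_right, (h0 i).1]; simp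
  have b : ∀ i, (cj z x).2 ⬝ᵥ e i = x.2 ⬝ᵥ e i := fun i => by rw [cj_dot_left, (h0 i).2]; simp
  obtain ⟨ω, hω, e1⟩ := h.same hx (Cl_cj hz.1 hx) tx ⟨by rw [a, a, tx.a], by rw [b, b, tx.b],
    by simpa only [a, b] using tx.c⟩
  have o := tx.one
  have f1 := ent_congr e1 x.2 (pr e ε *ᵥ x.1)
  have f2 := ent_congr e1 (x.2 ᵥ* pr e ε) x.1
  simp only [← dotProduct_mulVec, dot_pr] at f1 f2
  rw [dot_zc, cj_dot_right, o, hx.1.1] at f1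
  rw [zc_dot, cj_dot_left, o, hx.1.1] at f2
  simp only [al, a, b, a_zc h.hd, b_zc h.hd] at f1 f2 o
  have g1 : (z.2 ⬝ᵥ x.1) * (x.2 ⬝ᵥ z.1) = 1 - ω ^ 2 := by
    linear_combination f1 - hω - ((1 + ω) * ω ^ 2 - 2 + (z.2 ⬝ᵥ x.1) * (x.2 ⬝ᵥ z.1)) * o
  have g2 : (z.2 ⬝ᵥ x.1) * (x.2 ⬝ᵥ z.1) = 1 - ω := by
    linear_combination f2 - hω - ((1 + ω ^ 2) * ω - 2 + (z.2 ⬝ᵥ x.1) * (x.2 ⬝ᵥ z.1)) * o
  refine (h.rs.thin.of_cc hz.1 hx.1 ?_).1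
  rw [H41.LD.cc]
  linear_combination g2 - ω ^ 2 * (g1 - g2) + (ω - 1) * hω

theorem out {W : Submodule K (Fin 5 → K)} (hW : W ≠ ⊤) (h0 : ∀ i, e i ∈ W)
    (h1 : ∀ z, Cl G (sw e ε 0 1 1) z → (∀ i, Z e ε z i) → ∀ v ∈ W, z.2 ⬝ᵥ v = 0) :
    ∃ y κ, Cl G (sw e ε 0 1 1) y ∧ Ty e ε κ y ∧ y.1 ∉ W := by
  obtain ⟨x, hx, h2, v, hv, h3⟩ := exists_out_of (fun _ hx => hx.1.1) h.gen.1 (W := W)
    (fun e0 => by
      have := h.hd.same 0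
      rw [show e 0 = 0 from (Submodule.mem_bot K).1 (e0 ▸ h0 0)] at this
      simp at this) hW
  have sW : ∀ i j η, (sw e ε i j η).1 ∈ W := fun i j η => W.sub_mem (h0 i) (W.smul_mem _ (h0 j))
  rcases h.cla hx with p | ⟨i, j, η, h4, h5, p⟩ | ⟨y, κ, h4, h5, rfl | ⟨i, j, η, -, -, rfl⟩⟩
  · exact absurd (h1 x hx p v hv) h3
  · obtain ⟨c, -, hc, -⟩ := exists_smul_of_N p (h.rfs h4 h5).2.1 (h.rfs h4 h5).2.2.1
    exact absurd (hc ▸ W.smul_mem c (sW i j η)) h2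
  · exact ⟨x, κ, h4, h5, h2⟩
  · exact ⟨y, κ, h4, h5, fun hy => h2 (W.sub_mem hy (W.smul_mem _ (sW i j η)))⟩

theorem ex2 : ∃ x y κ κ', Cl G (sw e ε 0 1 1) x ∧ Cl G (sw e ε 0 1 1) y ∧ Ty e ε κ x ∧
    Ty e ε κ' y ∧ κ ≠ κ' ∧ κ ^ 3 = 1 := by
  obtain ⟨x, κ, cx, tx, -⟩ := h.out (span_ne_top (by norm_num) e)
    (fun i => Submodule.subset_span ⟨i, rfl⟩) fun z _ hz v hv => by
      obtain ⟨c, rfl⟩ := (Submodule.mem_span_range_iff_exists_fun K).1 hv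
      simp [dotProduct_sum, (hz _).2]
  have m : ∀ i, e i ∈ Submodule.span K (Set.range ![e 0, e 1, e 2, x.1]) := fun i =>
    Submodule.subset_span (by fin_cases i <;> simp)
  obtain ⟨y, κ', cy, ty, hy⟩ := h.out (span_ne_top (by norm_num) ![e 0, e 1, e 2, x.1]) m
    fun z cz hz v hv => by
      obtain ⟨c, rfl⟩ := (Submodule.mem_span_range_iff_exists_fun K).1 hv
      simp [Fin.sum_univ_four, (hz _).2, h.z0 cz hz cx tx]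
  have hk : κ ≠ κ' := fun e1 => by
    obtain ⟨ω, hω, e2⟩ := h.same cx cy tx (e1 ▸ ty)
    obtain ⟨c, -, hc, -⟩ := exists_smul_of_N e2.symm (h.cl_zc hω cx).1.2.1 (h.cl_zc hω cx).1.2.2.1
    refine hy (hc ▸ Submodule.smul_mem _ c ?_)
    simp only [zc, pr, add_mulVec, smul_mulVec, one_mulVec, N_mulVec]
    exact add_mem (Submodule.subset_span (by simp)) (Submodule.smul_mem _ _ (add_mem (add_mem
      (Submodule.smul_mem _ _ (m 0)) (Submodule.smul_mem _ _ (m 1))) (Submodule.smul_mem _ _ (m 2))))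
  rcases tx.c with p | p
  · rcases ty.c with q | q
    · exact absurd (p.1.trans q.1.symm) hk
    · exact ⟨y, x, κ', κ, cy, cx, ty, tx, hk.symm, q.1⟩
  · exact ⟨x, y, κ, κ', cx, cy, tx, ty, hk, p.1⟩

theorem noZ (hz : Cl G (sw e ε 0 1 1) z) (h0 : ∀ i, Z e ε z i) : False := by
  obtain ⟨x, y, κ, κ', cx, cy, tx, ty, hk, -⟩ := h.ex2
  exact hz.1.2.2.1 (h.kill cx cy tx ty hk (fun i => (h0 i).2) (h.z0 hz h0 cx tx) (h.z0 hz h0 cy ty))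

theorem ty (hx : Cl G (sw e ε 0 1 1) x) (c : cc (sw e ε 0 1 1) x = 0) : ∃ κ, Ty e ε κ x := by
  obtain ⟨a, b⟩ := h.rs.thin.of_cc h.rf hx.1 c
  simp only [sw, sub_dotProduct, dotProduct_sub, inv_one, one_smul, sub_eq_zero] at a b
  rcases h.pat hx.1 with p | ⟨i, j, η, h1, h2, p⟩ | ⟨i, h1, h2⟩ | ⟨h1, h2⟩
  · exact (h.noZ hx p).elim
  · exfalso
    rw [cc_congr rfl p] at c
    have η0 := ne_cube h2
    have η1 : η ≠ -1 := fun e1 => h.two (by rw [e1] at h2; linear_combination -h2)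
    fin_cases i <;> fin_cases j <;> simp [H41.LD.cc, sw, h.hd _ _, η0] at h1 c <;>
      rw [inv_cube h2] at c <;> rcases c with c | c <;> apply η1
    exacts [by linear_combination c, by linear_combination η * c - h2, by linear_combination -c,
      by linear_combination -η * c - h2]
  · fin_cases i
    · exact absurd (by simpa [X, a, (h2 1 (by simp)).1] using h1) (zero_ne_one' K)
    · exact absurd (by simpa [X, ← a, (h2 0 (by simp)).1] using h1) (zero_ne_one' K)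
    · exact ⟨0, a.symm, b.symm, Or.inl ⟨rfl, (h2 0 (by simp)).1, (h2 0 (by simp)).2, h1⟩⟩
  · exact tyE h1 a.symm (h2 2 0)

theorem Bl_eq (cx : Cl G (sw e ε 0 1 1) x) (cy : Cl G (sw e ε 0 1 1) y) (tx : Ty e ε κ x)
    (ty : Ty e ε κ' y) (c : N x = N y ∨ cc x y = 0) :
    Bl G (sw e ε 0 1 1) x = Bl G (sw e ε 0 1 1) y := by
  have k : ∀ {x y : R 5 K} {κ κ' : K}, Cl G (sw e ε 0 1 1) x → Cl G (sw e ε 0 1 1) y → Ty e ε κ x →
      Ty e ε κ' y → (N x = N y ∨ cc x y = 0) → Bl G (sw e ε 0 1 1) x ⊆ Bl G (sw e ε 0 1 1) y :=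
    fun {x y κ κ'} cx cy tx ty c => Set.image_mono fun z ⟨hz, c'⟩ => ⟨hz, by
      obtain ⟨κ'', tz⟩ := h.ty hz.1 hz.2
      rcases c with c | c
      · exact c'.imp (c.symm.trans ·) ((cc_congr c.symm rfl).trans ·)
      rcases c' with c' | c'
      · exact Or.inr (by rw [cc_congr rfl c'.symm, cc_comm, c])
      · exact h.trans cx cy hz.1 tx ty tz c c'⟩
  exact (k cx cy tx ty c).antisymm (k cy cx ty tx (c.imp Eq.symm fun c => by rw [cc_comm, c]))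

theorem Bl_card (cx : Cl G (sw e ε 0 1 1) x) (tx : Ty e ε κ x) :
    (Bl G (sw e ε 0 1 1) x).Finite ∧ (Bl G (sw e ε 0 1 1) x).ncard ≤ 4 := by
  have k : ∀ {y : R 5 K} {κ : K}, Ty e ε κ y → 3 * (ε 2 ⬝ᵥ N y *ᵥ e 0) = κ := fun t => by
    rw [← t.kap, N_mulVec, dotProduct_smul, smul_eq_mul, mul_comm (_ ⬝ᵥ e 0)]
  have m : ∀ A ∈ Bl G (sw e ε 0 1 1) x, 3 * (ε 2 ⬝ᵥ A *ᵥ e 0) ∈ ({0, 1, w, w ^ 2} : Set K) := by
    rintro _ ⟨y, ⟨hy, -⟩, rfl⟩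
    obtain ⟨κ', ty⟩ := h.ty hy.1 hy.2
    rw [k ty]
    rcases ty.c with p | p
    exacts [Or.inl p.1, Or.inr (h.cube p.1)]
  have i : Set.InjOn (fun A => 3 * (ε 2 ⬝ᵥ A *ᵥ e 0)) (Bl G (sw e ε 0 1 1) x) := by
    rintro _ ⟨y, ⟨hy, c1⟩, rfl⟩ _ ⟨z, hz, rfl⟩ e1
    obtain ⟨κ', ty⟩ := h.ty hy.1 hy.2
    obtain ⟨κ'', tz⟩ := h.ty hz.1.1 hz.1.2
    simp only [k ty, k tz] at e1
    have : N z ∈ Bl G (sw e ε 0 1 1) y := h.Bl_eq cx hy.1 tx ty c1 ▸ ⟨z, hz, rfl⟩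
    obtain ⟨z', ⟨-, c2⟩, e2⟩ := this
    rw [e2, cc_congr rfl e2] at c2
    exact c2.resolve_right (h.cc_same hy.1 hz.1.1 ty (e1 ▸ tz))
  refine ⟨Set.Finite.of_injOn m i (Set.toFinite _), (Set.ncard_le_ncard_of_injOn _ m i).trans ?_⟩
  refine (Set.ncard_insert_le _ _).trans (Nat.succ_le_succ ((Set.ncard_insert_le _ _).trans
    (Nat.succ_le_succ ((Set.ncard_insert_le _ _).trans (by simp)))))

theorem Bl_three (cx : Cl G (sw e ε 0 1 1) x) (tx : Ty e ε κ x) (cy : Cl G (sw e ε 0 1 1) y)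
    (ty : Ty e ε κ' y) : ∃ k : Fin 3, Bl G (sw e ε 0 1 1) y = Bl G (sw e ε 0 1 1) (zc e ε (w ^ k.val) x) := by
  obtain ⟨ω, hω, c⟩ : ∃ ω, ω ^ 3 = 1 ∧ (N y = N (zc e ε ω x) ∨ cc y (zc e ε ω x) = 0) := by
    by_cases hk : κ = κ'
    · obtain ⟨ω, hω, c⟩ := h.same cx cy tx (hk ▸ ty)
      exact ⟨ω, hω, Or.inl c.symm⟩
    · obtain ⟨ω, hω, c, -⟩ := h.diff cy cx ty tx (Ne.symm hk)
      exact ⟨ω, hω, Or.inr (by rw [cc_zc, c]; simp)⟩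
  have := h.Bl_eq cy (h.cl_zc hω cx) ty (tx.zc h.hd hω) c
  rcases h.cube hω with rfl | rfl | rfl
  exacts [⟨0, by simpa using this⟩, ⟨1, by simpa using this⟩, ⟨2, this⟩]

theorem pw (k : ℕ) : (w ^ k) ^ 3 = 1 := by rw [← pow_mul, mul_comm, pow_mul, h.w3, one_pow]

theorem Om_card (ht : Cl G (sw e ε 0 1 1) t) :
    (Om G (sw e ε 0 1 1) t).Finite ∧ (Om G (sw e ε 0 1 1) t).ncard ≤ 12 := by
  obtain ⟨x, -, κ, -, cx, -, tx, -⟩ := h.ex2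
  have b := fun k : Fin 3 => h.Bl_card (h.cl_zc (h.pw k) cx) (tx.zc h.hd (h.pw k))
  obtain ⟨-, g, hg, e1⟩ := ht
  have s1 : Om G (sw e ε 0 1 1) t ⊆ cn g '' ⋃ k : Fin 3, Bl G (sw e ε 0 1 1) (zc e ε (w ^ k.val) x) :=
    fun A hA => ⟨cn g⁻¹ A, by
      obtain ⟨y, hy, e2⟩ := cn_Om (y := sw e ε 0 1 1) (G.inv_mem hg) (by
        rw [e1]; exact (cn_mul _ _ _).symm.trans (by rw [inv_mul_cancel, cn_one])) hA
      obtain ⟨κ', ty⟩ := h.ty hy.1 hy.2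
      obtain ⟨k, hk⟩ := h.Bl_three cx tx hy.1 ty
      exact Set.mem_iUnion.2 ⟨k, hk ▸ ⟨y, ⟨hy, Or.inl rfl⟩, e2⟩⟩,
      by rw [← cn_mul, mul_inv_cancel, cn_one]⟩
  have f := Set.finite_iUnion fun k => (b k).1
  refine ⟨(f.image _).subset s1, (Set.ncard_le_ncard s1 (f.image _)).trans
    ((Set.ncard_image_le f).trans ((Set.ncard_iUnion_le_of_fintype _).trans ?_))⟩
  exact (Finset.sum_le_card_nsmul _ _ 4 fun k _ => (b k).2).trans (by simp)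

theorem all_card : (N '' {x | Cl G (sw e ε 0 1 1) x}).Finite ∧
    (N '' {x | Cl G (sw e ε 0 1 1) x}).ncard ≤ 363 := by
  obtain ⟨f, c⟩ := h.Om_card h.self
  let T := fun p : Fin 3 × Fin 3 × Fin 3 => N (sw e ε p.1 p.2.1 (w ^ p.2.2.val))
  have m : ∀ i j η, η ^ 3 = 1 → ∃ p, T p = N (sw e ε i j η) := fun i j η hη => by
    rcases h.cube hη with rfl | rfl | rfl
    exacts [⟨(i, j, 0), by simp [T]⟩, ⟨(i, j, 1), by simp [T]⟩, ⟨(i, j, 2), rfl⟩]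
  have s1 : N '' {x | Cl G (sw e ε 0 1 1) x} ⊆ T '' Set.univ ∪ (Om G (sw e ε 0 1 1) (sw e ε 0 1 1) ∪
      (fun p => (1 - T p.1) * p.2 * (1 - T p.1)) ''
        (Set.univ ×ˢ Om G (sw e ε 0 1 1) (sw e ε 0 1 1))) := by
    rintro _ ⟨x, hx, rfl⟩
    rcases h.cla hx with p | ⟨i, j, η, -, h5, p⟩ | ⟨y, κ, h4, h5, rfl | ⟨i, j, η, -, h6, rfl⟩⟩
    · exact (h.noZ hx p).elim
    · obtain ⟨q, hq⟩ := m i j η h5
      exact Or.inl ⟨q, trivial, hq.trans p.symm⟩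
    · exact Or.inr (Or.inl ⟨x, ⟨h4, h5.cc⟩, rfl⟩)
    · obtain ⟨q, hq⟩ := m i j η h6
      exact Or.inr (Or.inr ⟨(q, N y), ⟨trivial, y, ⟨h4, h5.cc⟩, rfl⟩, by rw [N_cj, ← hq]⟩)
  have f1 := (Set.finite_univ.prod f (α := Fin 3 × Fin 3 × Fin 3))
  have f2 := (Set.finite_univ.image T).union (f.union (f1.image
    fun p => (1 - T p.1) * p.2 * (1 - T p.1)))
  refine ⟨f2.subset s1, (Set.ncard_le_ncard s1 f2).trans ((Set.ncard_union_le _ _).trans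
    ((Nat.add_le_add (Set.ncard_image_le Set.finite_univ) ((Set.ncard_union_le _ _).trans
      (Nat.add_le_add c (Set.ncard_image_le f1)))).trans ?_))⟩
  rw [Set.ncard_prod, Set.ncard_univ]
  simp only [Nat.card_prod, Nat.card_fin]
  omega

theorem card : Nat.card (Bar G) < 13685760 := by
  obtain ⟨x, y, κ, κ', cx, cy, tx, ty, hk, k3⟩ := h.ex2
  have cx' := h.cl_zc h.w3 cx
  have tx' := tx.zc h.hd h.w3
  have ct := h.cls (i := 1) (j := 2) (by decide) κ k3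
  obtain ⟨-, a2, b2, ab⟩ := tx.c.resolve_left fun p => ne_cube k3 p.1
  obtain ⟨f1, c1⟩ := h.all_card
  obtain ⟨f2, c2⟩ := h.Om_card h.self
  obtain ⟨f3, c3⟩ := h.Om_card cx
  have o : ∀ {u : R 5 K} {k : K}, Cl G (sw e ε 0 1 1) u → Ty e ε k u →
      N u ∈ Om G (sw e ε 0 1 1) (sw e ε 0 1 1) := fun cu tu => ⟨_, ⟨cu, tu.cc⟩, rfl⟩
  refine (step G (N (sw e ε 0 1 1)) f1 c1 (fun g hg => ⟨_, Cl_cg h.self hg, N_cg _ _⟩)
    (step _ (N x) f2 c2 (fun g hg => cn_Om hg.2 hg.1 (o cx tx))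
    (step _ (N (zc e ε w x)) f2 c2 (fun g hg => cn_Om hg.2.2 hg.2.1 (o cx' tx'))
    (step _ (N y) f2 c2 (fun g hg => cn_Om hg.2.2.2 hg.2.2.1 (o cy ty))
    (step _ (N (sw e ε 1 2 κ)) f3 c3 (fun g hg => cn_Om hg.2.2.2.2 hg.2.2.1 ⟨_, ⟨ct, ?_⟩, rfl⟩)
    (Subgroup.relIndex_eq_one.2 ?_).le))))).trans_lt (by norm_num)
  · simp [H41.LD.cc, sw, tx.a, a2, inv_cube k3]
    exact Or.inr (by linear_combination -(ε 0 ⬝ᵥ x.1) * k3)
  rintro g ⟨g5, g4, g3, g2, g1, -⟩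
  obtain ⟨l, s1, s2⟩ := eig h.two h.rf.1 (mem_Cen.1 g1)
  obtain ⟨l2, x1, x2⟩ := eig h.two cx.1.1 (mem_Cen.1 g2)
  obtain ⟨l3, z1, z2⟩ := eig h.two cx'.1.1 (mem_Cen.1 g3)
  obtain ⟨l4, y1, y2⟩ := eig h.two cy.1.1 (mem_Cen.1 g4)
  obtain ⟨l5, t1, t2⟩ := eig h.two ct.1.1 (mem_Cen.1 g5)
  obtain rfl := link s2 t1 (by simp [sw, h.hd _ _])
  obtain rfl := link t2 y1 (by
    simp only [sw, sub_dotProduct, smul_dotProduct, ty.a, inv_cube k3, smul_eq_mul]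
    rcases ty.c with ⟨-, p, -, q⟩ | ⟨-, p, -, q⟩ <;> rw [p] <;> intro e1
    · exact one_ne_zero (by
        linear_combination -q - κ * (y.2 ⬝ᵥ e 2) * e1 - (ε 2 ⬝ᵥ y.1) * (y.2 ⬝ᵥ e 2) * k3 : (1 : K) = 0)
    · exact hk (by
        linear_combination 3 * κ * (y.2 ⬝ᵥ e 0) * e1 - (κ - κ') * q +
          3 * κ' * (ε 0 ⬝ᵥ y.1) * (y.2 ⬝ᵥ e 0) * k3))
  obtain rfl := link x2 z1 (left_ne_zero_of_mul (h.cc_same cx cx' tx tx'))
  have e1 : l3 = l4 := by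
    by_contra hn
    have d1 : y.2 ⬝ᵥ x.1 = 0 := by_contra fun d => hn (link y2 x1 d)
    have d2 : y.2 ⬝ᵥ (zc e ε w x).1 = 0 := by_contra fun d => hn (link y2 z1 d)
    rw [dot_zc, d1, zero_add, mul_eq_zero, sub_eq_zero] at d2
    have := h.diff0 tx ty hk
    simp [d2.resolve_left h.w1] at this
  subst e1
  refine mem_scalars_of_eq_smul (c := l3) (sub_eq_zero.1 (Matrix.ext_iff_vecMul.2 fun v => ?_))
  have k : ∀ {u}, g.val *ᵥ u = l3 • u → (v ᵥ* (g.val - l3 • 1)) ⬝ᵥ u = 0 := fun hu => by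
    rw [← dotProduct_mulVec, sub_mulVec, hu, smul_mulVec, one_mulVec, sub_self, dotProduct_zero]
  have k1 := k s1
  have k2 := k t1
  have k4 := k z1
  rw [vecMul_zero]
  refine h.kill cx cy tx ty hk ?_ (k x1) (k y1)
  rw [dot_zc, k x1, zero_add, mul_eq_zero, sub_eq_zero, al, tx.a, a2] at k4
  have k5 := k4.resolve_left h.w1
  generalize v ᵥ* (g.val - l3 • 1) = φ at *
  simp only [sw, dotProduct_sub, dotProduct_smul, smul_eq_mul, one_mul] at k1 k2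
  have k0 : φ ⬝ᵥ e 0 = 0 := by
    linear_combination (x.2 ⬝ᵥ e 0) * (k5 + (ε 0 ⬝ᵥ x.1) * (2 * k1 + k2)) - (φ ⬝ᵥ e 0) * ab
  intro i
  fin_cases i
  · exact k0
  · exact (by linear_combination k0 - k1 : φ ⬝ᵥ e 1 = 0)
  · exact (by linear_combination κ ^ 2 * (k0 - k1 - k2) - (φ ⬝ᵥ e 2) * k3 : φ ⬝ᵥ e 2 = 0)

theorem solv : Group.IsSolvable (Gen {x | Cl G (sw e ε 0 1 1) x ∧ cc (sw e ε 0 1 1) x = 0}) := by
  set H := Gen {x | Cl G (sw e ε 0 1 1) x ∧ cc (sw e ε 0 1 1) x = 0} with hH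
  have le : H ≤ G := gen_le fun x hx => hx.1.1
  have cs : H ≤ Cen (N (sw e ε 0 1 1)) := (Subgroup.closure_le _).2 fun g ⟨x, hx, e1⟩ => by
    obtain ⟨a, b⟩ := h.rs.thin.of_cc h.rf hx.1.1 hx.2
    rw [SetLike.mem_coe, mem_Cen, e1, sub_mul, mul_sub, N_mul_N, N_mul_N, a, b]
    simp
  haveI := h.rs.fin
  haveI : Finite H := Finite.of_injective _ (Subgroup.inclusion_injective le)
  obtain ⟨_, ⟨n, rfl⟩, hm⟩ := (wellFounded_lt (α := Subgroup H)).has_min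
    (Set.range (derivedSeries H)) ⟨_, 0, rfl⟩
  have hp : ⁅derivedSeries H n, derivedSeries H n⁆ = derivedSeries H n :=
    (eq_or_lt_of_le (Subgroup.commutator_le_left _ _)).resolve_right (hm _ ⟨n + 1, rfl⟩)
  refine ⟨⟨n, ?_⟩⟩
  generalize derivedSeries H n = L at hp
  obtain ⟨x, -, κ, -, cx, -, tx, -⟩ := h.ex2
  have mv : ∀ g : H, ∀ {y : R 5 K}, Cl G (sw e ε 0 1 1) y ∧ cc (sw e ε 0 1 1) y = 0 →
      Cl G (sw e ε 0 1 1) (cg g y) ∧ cc (sw e ε 0 1 1) (cg g y) = 0 := fun g y hy =>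
    ⟨Cl_cg hy.1 (le g.2), by rw [cc_congr ((cs g.2).symm.trans (N_cg _ _).symm) rfl, cc_cg, hy.2]⟩
  have b1 := perf_fix (fun (g : H) B => cn g '' B) (fun B => by simp [cn_one])
    (fun g k B => by simp [cn_mul, Set.image_image]) hp
    (S := Set.range fun k : Fin 3 => Bl G (sw e ε 0 1 1) (zc e ε (w ^ k.val) x)) (Set.finite_range _)
    (by
      rw [← Set.image_univ]
      exact (Set.ncard_image_le Set.finite_univ).trans (by simp))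
    (by
      rintro g - _ ⟨k, rfl⟩
      have m := mv g ⟨h.cl_zc (h.pw k) cx, (tx.zc h.hd (h.pw k)).cc⟩
      obtain ⟨κ', ty⟩ := h.ty m.1 m.2
      obtain ⟨k', hk⟩ := h.Bl_three cx tx m.1 ty
      exact ⟨k', hk.symm.trans (cn_Bl (le g.2) (cs g.2)).symm⟩)
  have b2 : ∀ g ∈ L, ∀ y, Cl G (sw e ε 0 1 1) y ∧ cc (sw e ε 0 1 1) y = 0 → cn g (N y) = N y :=
    fun g hg y hy => by
      obtain ⟨κ', ty⟩ := h.ty hy.1 hy.2
      obtain ⟨k, hk⟩ := h.Bl_three cx tx hy.1 ty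
      refine perf_fix (fun (g : H) A => cn g.val A) (fun A => cn_one A)
        (fun g k A => cn_mul g.val k.val A) hp (h.Bl_card hy.1 ty).1
        (h.Bl_card hy.1 ty).2 (fun g hg A hA => ?_) g hg _ ⟨y, ⟨hy, Or.inl rfl⟩, rfl⟩
      rw [hk] at hA ⊢
      exact (b1 g hg _ ⟨k, rfl⟩).subset (Set.mem_image_of_mem _ hA)
  rw [← hp, Subgroup.commutator_eq_bot_iff_le_centralizer]
  intro g hg k _
  have : H ≤ Cen g.val.val := (Subgroup.closure_le _).2 fun g' ⟨y, hy, e1⟩ => by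
    rw [SetLike.mem_coe, mem_Cen, e1, sub_mul, mul_sub, mem_Cen.1 (b2 g hg y hy)]
    simp
  exact Subtype.ext (Units.ext (mem_Cen.1 (this k.2)))

end Cx

theorem jobFA : JobFA.{u} := fun K _ G hG h2 e ε w f => by
  have h : Cx G e ε w := ⟨⟨hG, h2, f.three, f.om, f.fr.s01, f.cv⟩, f⟩
  refine ⟨h.card, ?_⟩
  have := h.solv
  rwa [Gen, show {g : GL (Fin 5) K | ∃ x ∈ {x | Cl G (sw e ε 0 1 1) x ∧ cc (sw e ε 0 1 1) x = 0},
    g.val = 1 - N x} = _ from Set.ext fun g => exists_congr fun x => and_assoc] at this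

end H96.LD
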