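import Cfsg.Agent.H51.TESpec

/-! Tower TE, part 2 (S1308), slot C1: two points generating a group of class two. -/

set_option autoImplicit false

namespace H96.TEC1

open Cfsg Subgroup MulAction H14 H98 H1.Gold H31.S2 H14.GC H14.FE H14.NF H51.TE
open scoped commutatorElement

universe u

variable {G : Type u} [Group G] [Finite G] {Q E Q₁ E₁ Q₂ E₂ : Subgroup G}

/-- Choice of a point at a given home inside a 2-group. -/
theorem sel (gx : Gx Q E) (h : Pt Q E Q₁ E₁) {d : G} (hd : d ∈ E₁) {M W : Subgroup G}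
    (h1 : E₁ ≤ M) (h2 : M ≤ nor Q₁) (hW : IsPGroup 2 W) (hn : W ≤ nor M) (hdW : d ∈ W) :
    ∃ E' P : Subgroup G, Pt Q E Q₁ E' ∧ d ∈ E' ∧ IsPGroup 2 P ∧ W ≤ P ∧ E' ≤ P ∧ E' ≤ M := by
  obtain ⟨P, hP, hl, hS⟩ := exists_inv_syl hW hn
  obtain ⟨g, hg, hc⟩ := hS.exists_cj_le (El.two (pt_el gx.tg h)) h1
  have hp : Pt Q E Q₁ (cj g E₁) := by
    have := pt_cj h g
    rwa [cj_eq_self (h2 hg)] at this
  exact ⟨_, P, hp, gx.cu _ _ _ hp h P hP.isPGroup (hc.trans inf_le_left) d hd (hl hdW), hP.isPGroup,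
    hl, hc.trans inf_le_left, hc.trans inf_le_right⟩

omit [Finite G] in
theorem nor_conj {x g : G} (h : x ∈ nor (cj g⁻¹ Q₁)) : g * x * g⁻¹ ∈ nor Q₁ := by
  have := conj_mem_cj (g := g) h
  rwa [cj_normalizer, cj_cj_inv] at this

omit [Finite G] in
/-- A conjugate of a point involution that commutes with it. -/
theorem le_nor (gx : Gx Q E) (h : Pt Q E Q₁ E₁) {d g : G} (hd : d ∈ E₁) (h1 : d ≠ 1)
    (hc : g * d * g⁻¹ * d = d * (g * d * g⁻¹)) : E₁ ≤ nor (cj g Q₁) :=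
  gx.tg.mn _ _ _ _ (pt_cj h g) h _ (conj_mem_cj hd) (fun e => h1 (by rwa [conj_eq_one_iff] at e))
    (pt_cen gx.tg h (pt_le gx.tg h hd) ⟨h1, pt_el gx.tg h d hd⟩ (mem_cen1.2 hc))

omit [Finite G] in
theorem comm_cj (gx : Gx Q E) (h : Pt Q E Q₁ E₁) {P : Subgroup G} (hP : IsPGroup 2 P) (hl : E₁ ≤ P)
    {g a b : G} (hg : g ∈ P) (ha : a ∈ E₁) (hb : b ∈ E₁) (hn : g * b * g⁻¹ ∈ nor Q₁) :
    a * (g * b * g⁻¹) = g * b * g⁻¹ * a :=
  gx.f1 _ _ _ _ h (pt_cj h g) a ha _ (conj_mem_cj hb) hn P hP (hl ha)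
    (mul_mem (mul_mem hg (hl hb)) (inv_mem hg))

omit [Finite G] in
theorem swap {r a : G} (hr : r * r = 1) (ha : a * a = 1) (h : a * (r * a * r⁻¹) = r * a * r⁻¹ * a) :
    a * r * a⁻¹ * r = r * (a * r * a⁻¹) := by
  rw [inv_eq_of_mul_eq_one_right hr] at h
  rw [inv_eq_of_mul_eq_one_right ha]
  simpa only [mul_assoc] using h

theorem job : H51.TE.C1.{u} := by
  intro G _ _ Q E gx d e hd he P hP dP eP hne hcd _
  obtain ⟨Q₁, D₀, p1, dD⟩ := hd.pt Q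
  obtain ⟨Q₂, F₀, p2, eF⟩ := he.pt Q
  have t := gx.tg
  have d2 : d * d = 1 := pt_el t p1 d dD
  have e2 : e * e = 1 := pt_el t p2 e eF
  have ei : e⁻¹ = e := inv_eq_of_mul_eq_one_right e2
  have di : d⁻¹ = d := inv_eq_of_mul_eq_one_right d2
  have nc : d * e ≠ e * d := fun h => hne (commutatorElement_eq_one_iff_mul_comm.2 h)
  have c0 : e * d * e⁻¹ * d = d * (e * d * e⁻¹) := by
    rw [commutatorElement_def, di] at hcd
    refine mul_left_cancel (a := d) ?_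
    simpa only [mul_assoc] using hcd
  have eM : e ∈ nor (nor Q₁ ⊓ nor (cj e Q₁)) := by
    rw [← cj_eq_self_iff, cj_inf, cj_normalizer, cj_normalizer, cj_cj, e2, cj_one, inf_comm]
  have DM : D₀ ≤ nor Q₁ ⊓ nor (cj e Q₁) :=
    le_inf ((pt_le t p1).trans le_normalizer) (le_nor gx p1 dD hd.1 c0)
  obtain ⟨E₁, P₀, q1, dE, hP0, W0, E0, EM⟩ := sel gx p1 dD (W := P ⊓ nor (nor Q₁ ⊓ nor (cj e Q₁)))
    DM inf_le_left (hP.to_le inf_le_left) inf_le_right ⟨dP, le_normalizer (DM dD)⟩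
  have eP0 : e ∈ P₀ := W0 ⟨eP, eM⟩
  have el1 := pt_el t q1
  have A : ∀ r ∈ E₁, r * e * r⁻¹ * e = e * (r * e * r⁻¹) := fun r hr =>
    swap e2 (el1 r hr) (comm_cj gx q1 hP0 E0 eP0 hr hr (nor_conj (by rw [ei]; exact (EM hr).2)))
  set M : Subgroup G := ⨅ r : E₁, nor (cj (r : G) Q₂) with hM
  have mM : ∀ x, x ∈ M ↔ ∀ r ∈ E₁, x ∈ nor (cj r Q₂) := fun x => by
    rw [hM, mem_iInf, Subtype.forall]
  have FM : F₀ ≤ M := fun x hx => (mM x).2 fun r hr => le_nor gx p2 eF he.1 (A r hr) hx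
  have Mn : M ≤ nor Q₂ := fun x hx => by
    have := (mM x).1 hx 1 (one_mem _)
    rwa [cj_one] at this
  have EM2 : E₁ ≤ nor M := fun s hs => mem_normalizer_of_cj_le fun x hx => (mM x).2 fun r hr => by
    have := (mM _).1 (mem_cj.1 hx) (s⁻¹ * r) (mul_mem (inv_mem hs) hr)
    rw [← cj_cj] at this
    have := nor_conj this
    simpa only [mul_assoc, mul_inv_cancel, mul_one, mul_inv_cancel_left] using this
  obtain ⟨E₂, P₂, q2, eE, hP2, W2, E2, EM'⟩ := sel gx p2 eF (W := P₀ ⊓ nor M)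
    FM Mn (hP0.to_le inf_le_left) inf_le_right ⟨eP0, le_normalizer (FM eF)⟩
  have E12 : E₁ ≤ P₂ := (le_inf E0 EM2).trans W2
  have el2 := pt_el t q2
  have B : ∀ r ∈ E₁, ∀ a ∈ E₂, ∀ b ∈ E₂, a * (r * b * r⁻¹) = r * b * r⁻¹ * a := fun r hr a ha b hb =>
    comm_cj gx q2 hP2 E2 (E12 hr) ha hb (nor_conj ((mM b).1 (EM' hb) _ (inv_mem hr)))
  have C : ∀ a ∈ E₂, ∀ s ∈ E₁, ∀ r ∈ E₁, s * (a * r * a⁻¹) = a * r * a⁻¹ * s := by
    intro a ha s hs r hr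
    refine comm_cj gx q1 hP2 E12 (E2 ha) hs hr ?_
    by_cases h1 : r = 1
    · rw [h1, mul_one, mul_inv_cancel]; exact one_mem _
    · exact pt_cen t q1 (pt_le t q1 hr) ⟨h1, el1 r hr⟩
        (mem_cen1.2 (swap (el1 r hr) (el2 a ha) (B r hr a ha a ha)))
  refine ⟨Q₁, E₁, Q₂, E₂, q1, q2, fun r hr h1 hn => nc ?_, fun a ha h1 hn => nc ?_,
    hP2.to_le (sup_le E12 E2), fun r hr a ha => ⟨?_, ?_⟩⟩
  · exact gx.f1 _ _ _ _ q1 q2 d dE e eE (t.mn _ _ _ _ q1 q2 r hr h1 hn eE) P hP dP eP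
  · exact (gx.f1 _ _ _ _ q2 q1 e eE d dE (t.mn _ _ _ _ q2 q1 a ha h1 hn dE) P hP eP dP).symm
  · have e1 : ⁅r, a⁆ = r * (a * r⁻¹ * a⁻¹) := by simp only [commutatorElement_def, mul_assoc]
    rw [e1]
    exact mul_mem (mem_centralizer_iff.2 fun s hs => El.comm el1 hs hr)
      (mem_centralizer_iff.2 fun s hs => C a ha s hs _ (inv_mem hr))
  · rw [commutatorElement_def]
    exact mul_mem (mem_centralizer_iff.2 fun b hb => B r hr b hb a ha)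
      (mem_centralizer_iff.2 fun b hb => El.comm el2 hb (inv_mem ha))

end H96.TEC1
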