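/- Tower KU (S2196), job Rc2: the coprime action step. -/
import Cfsg.Agent.H53.KUSpec
import Cfsg.Agent.H1.Coprime

set_option autoImplicit false

namespace H96.KURc2

open Cfsg H59 H53.WU H53.KU Module

theorem pow_apply {S : HS} {t : S.G} {x : S.V} {c : S.Fˣ} (h : t.1 x = (c : S.F) • x) (n : ℕ) :
    (t ^ n).1 x = ((c ^ n : S.Fˣ) : S.F) • x := by
  induction n with
  | zero => simp
  | succ n ih =>
    rw [pow_succ', Subgroup.coe_mul, LinearEquiv.mul_apply, ih, map_smul, h, smul_smul, pow_succ,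
      Units.val_mul]

theorem inv_apply {S : HS} {t : S.G} {x : S.V} {c : S.Fˣ} (h : t.1 x = (c : S.F) • x) :
    (t⁻¹).1 x = ((c⁻¹ : S.Fˣ) : S.F) • x := by
  apply t.1.injective
  rw [map_smul, h, smul_smul, Units.inv_mul, one_smul, ← LinearEquiv.mul_apply, ← Subgroup.coe_mul,
    mul_inv_cancel]
  rfl

theorem mul_apply {S : HS} {t u : S.G} {x : S.V} {c d : S.Fˣ} (h : t.1 x = (c : S.F) • x)
    (h' : u.1 x = (d : S.F) • x) : (t * u).1 x = ((c * d : S.Fˣ) : S.F) • x := by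
  rw [Subgroup.coe_mul, LinearEquiv.mul_apply, h', map_smul, h, smul_smul, Units.val_mul, mul_comm]

/-- The diagonal elements of `K` with equal first two eigenvalues. -/
def AA (S : KS) (Φ : S.Fm) : Subgroup S.G where
  carrier := {t | t ∈ S.K ∧ (∃ a : Fin (S.r + 3) → S.Fˣ, (∀ i, t.1 (Φ.e i) = (a i : S.F) • Φ.e i) ∧
    a 0 = a 1) ∧ (∀ i, ∃ c : S.Fˣ, t.1 (Φ.f i) = (c : S.F) • Φ.f i) ∧
    ∀ w, Φ.Pp w → ∃ c : S.Fˣ, t.1 w = (c : S.F) • w}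
  one_mem' := ⟨S.K.one_mem, ⟨1, by simp, rfl⟩, fun _ => ⟨1, by simp⟩, fun _ _ => ⟨1, by simp⟩⟩
  mul_mem' := fun ⟨h1, ⟨a, h2, h3⟩, h4, h5⟩ ⟨k1, ⟨b, k2, k3⟩, k4, k5⟩ =>
    ⟨S.K.mul_mem h1 k1, ⟨a * b, fun i => mul_apply (h2 i) (k2 i), by simp [h3, k3]⟩,
      fun i => ⟨_, mul_apply (h4 i).choose_spec (k4 i).choose_spec⟩,
      fun w hw => ⟨_, mul_apply (h5 w hw).choose_spec (k5 w hw).choose_spec⟩⟩
  inv_mem' := fun ⟨h1, ⟨a, h2, h3⟩, h4, h5⟩ =>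
    ⟨S.K.inv_mem h1, ⟨a⁻¹, fun i => inv_apply (h2 i), by simp [h3]⟩,
      fun i => ⟨_, inv_apply (h4 i).choose_spec⟩, fun w hw => ⟨_, inv_apply (h5 w hw).choose_spec⟩⟩

theorem pp_sub {S : HS} {m : ℕ} (Φ : Fr S m) (v : S.V) :
    Φ.Pp (v - ∑ i, (S.B (Φ.f i) v • Φ.e i + S.B (Φ.e i) v • Φ.f i)) := by
  refine ⟨fun j => ?_, fun j => ?_⟩
  · simp [map_sum, Φ.ee, Φ.ef]
  · simp [map_sum, Φ.ff, Φ.fe]

theorem AA_pow (S : KS) (Φ : S.Fm) {t : S.G} (ht : t ∈ AA S Φ) : t ^ Nat.card S.Fˣ = 1 := by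
  obtain ⟨-, ⟨a, h2, -⟩, h4, h5⟩ := ht
  have key : ∀ (x : S.V) (c : S.Fˣ), t.1 x = (c : S.F) • x → (t ^ Nat.card S.Fˣ).1 x = x :=
    fun x c h => by rw [pow_apply h, pow_card_eq_one', Units.val_one, one_smul]
  refine Subtype.ext (LinearEquiv.ext fun v => ?_)
  have h := key _ _ (h5 _ (pp_sub Φ v)).choose_spec
  rw [map_sub, map_sum] at h
  simp only [map_add, map_smul, fun i => key _ _ (h2 i), fun i => key _ _ (h4 i).choose_spec] at h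
  exact sub_left_injective h

theorem u_e0 {S : KS} {Φ : S.Fm} {g : S.G} (h : Φ.Ev g 1) : g.1 (Φ.e 0) = Φ.e 0 := by
  have := h 0
  simpa [Fr.W, sub_eq_zero] using this

theorem u_e1 {S : KS} {Φ : S.Fm} {g : S.G} (h : Φ.Ev g 1) : ∃ s : S.F, g.1 (Φ.e 1) = Φ.e 1 + s • Φ.e 0 := by
  have h1 := h 1
  have : Φ.W (1 : Fin (S.r + 3)).1 ≤ Submodule.span S.F {Φ.e 0} := by
    refine Submodule.span_mono ?_
    rintro _ ⟨i, hi, rfl⟩
    have : i = 0 := Fin.ext (by simpa using hi)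
    simp [this]
  obtain ⟨s, hs⟩ := Submodule.mem_span_singleton.1 (this h1)
  exact ⟨s, by rw [hs]; simp⟩

theorem jobRc2 (up : JobUp) (_ : JobPp) : JobRc2 := by
  intro S Φ u hu hE hne
  obtain ⟨n, hp, hn⟩ := FiniteField.card S.F (ringChar S.F)
  have := Fact.mk hp
  have hP : IsPGroup (ringChar S.F) ↥(S.K ⊓ Φ.U) := fun g =>
    (up S.toHS _ Φ S.hr g.1 g.2.2).imp fun k hk => Subtype.ext hk
  have hN : AA S Φ ≤ Subgroup.normalizer ((S.K ⊓ Φ.U : Subgroup S.G) : Set S.G) := fun t ht => by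
    refine Subgroup.mem_normalizer_fintype fun g hg => ?_
    obtain ⟨h1, ⟨a, h2, -⟩, -⟩ := ht
    have ev : Φ.Ev t a := fun i => by simp [h2 i]
    refine ⟨S.K.mul_mem (S.K.mul_mem h1 hg.1) (S.K.inv_mem h1), ?_⟩
    have := (ev.mul hg.2).mul ev.inv
    rwa [mul_one, mul_inv_cancel] at this
  have hc : (Nat.card (AA S Φ)).Coprime (Nat.card ↥(S.K ⊓ Φ.U)) := by
    obtain ⟨k, hk⟩ := IsPGroup.iff_card.1 hP
    rw [hk]
    refine Nat.Coprime.pow_right _ ((Nat.Prime.coprime_iff_not_dvd hp).2 fun hd => ?_).symm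
    obtain ⟨t, ht⟩ := exists_prime_orderOf_dvd_card' _ hd
    have h1 : ringChar S.F ∣ Nat.card S.Fˣ := by
      rw [← ht, ← Subgroup.orderOf_coe]
      exact orderOf_dvd_of_pow_eq_one (AA_pow S Φ t.2)
    have h2 : ringChar S.F ∣ Fintype.card S.F := hn ▸ dvd_pow_self _ n.ne_zero
    rw [Nat.card_units, Nat.card_eq_fintype_card] at h1
    have h3 := (Nat.dvd_sub h2 h1)
    rw [Nat.sub_sub_self Fintype.card_pos] at h3
    exact hp.one_lt.ne' (Nat.dvd_one.1 h3)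
  have hs : Group.IsSolvable ↥(S.K ⊓ Φ.U) := by
    have := hP.isNilpotent
    infer_instance
  have key := H1.commutator_sup_centralizer hN hc (Or.inr hs)
  by_contra hcon
  have h1 : ⁅S.K ⊓ Φ.U, AA S Φ⁆ ≤ MulAction.stabilizer S.G (Φ.e 1) := by
    rw [Subgroup.commutator_le]
    rintro g hg t ⟨-, ⟨a, h2, h3⟩, -⟩
    obtain ⟨s, hs⟩ := u_e1 (S := S) (Φ := Φ) (Φ.U.inv_mem hg.2)
    have e1 : t.1 ((g⁻¹).1 ((t⁻¹).1 (Φ.e 1))) = (g⁻¹).1 (Φ.e 1) := by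
      rw [inv_apply (h2 1), map_smul, hs, map_smul, map_add, map_smul, h2, h2, h3, smul_comm s,
        ← smul_add, smul_smul, Units.inv_mul, one_smul]
    show g.1 (t.1 ((g⁻¹).1 ((t⁻¹).1 (Φ.e 1)))) = Φ.e 1
    rw [e1, ← LinearEquiv.mul_apply, ← Subgroup.coe_mul, mul_inv_cancel]
    rfl
  have h2 : S.K ⊓ Φ.U ⊓ Subgroup.centralizer (AA S Φ : Set S.G) ≤ MulAction.stabilizer S.G (Φ.e 1) :=
    fun g hg => by_contra fun h => hcon ⟨g, hg.1.1, hg.1.2, fun t ht a hd ha =>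
      (Subgroup.mem_centralizer_iff.1 hg.2 t
        ⟨ht, ⟨a, hd.1, ha⟩, fun i => ⟨_, hd.2.1 i⟩, fun w hw => ⟨_, hd.2.2 w hw⟩⟩).symm, h⟩
  exact hne ((key ▸ sup_le h1 h2 : S.K ⊓ Φ.U ≤ _) ⟨hu, hE⟩)

end H96.KURc2
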