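import Cfsg.Agent.H23.HkC4
import Cfsg.Agent.H7.HKT
import Cfsg.Agent.H69.CondFT

/-! HKS tower, job P1a: `q ≡ 1 (mod 4)`, cyclic kernel, a four-group of mixed type. -/

set_option autoImplicit false
set_option linter.unusedSectionVars false

namespace H96.HK

open MulAction Cfsg Subgroup H89.K H65 H7.HKS H23.HK
open H72.HKS (kit1)
open H3.HK2 (kit2)

universe u

variable {G Ω : Type u} [Group G] [Finite G] [MulAction G Ω] {U : Ω → Subgroup G} {a b : Ω}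
  {z v : G}

/-- The maps `d`, `φ` on `C(z)`; an element with `d = 1` and square in `L_z` has `φ = 1`. -/
theorem out2 (h : S4 U a b z) (k3 : Kit3.{u}) {F : Type} [Field F] [Fintype F] {x y : F → G}
    (ld : LD x y (CU U {z} a) (CU U {z} b) a b) (e : sl2h x y (-1) = z) :
    ∃ (D : Cz z →* ℤˣ) (Φ : Cz z →* (F ≃+* F)),
      (∀ g : Cz z, (D g = 1 ∧ Φ g = 1) ↔ (g : G) ∈ IK U z) ∧
      (∀ g : Cz z, (g : G) * g = 1 → Φ g = 1) ∧
      ∀ g : Cz z, D g = 1 → (g : G) * g ∈ LX U {z} → Φ g = 1 := by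
  obtain ⟨d, φ, h1, h2, h3⟩ := k3.out h.rg h.ne h.sub ld
  have le : Cz z ≤ normalizer ({z} : Set G) := fun g hg => nor_sing.2 hg
  have i1 : ∀ g : Cz z, ((d.comp (inclusion le)) g = 1 ∧ (φ.comp (inclusion le)) g = 1) ↔
      (g : G) ∈ IK U z := fun g => (h1 (inclusion le g)).trans (h.inn_iff g.2)
  have i2 : ∀ g : Cz z, (g : G) * g = 1 → (φ.comp (inclusion le)) g = 1 := fun g e1 => by
    by_cases e2 : (g : G) = 1
    · exact ((i1 g).2 (e2 ▸ one_mem _)).2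
    by_cases e3 : (g : G) = z
    · exact ((i1 g).2 (by rw [e3]; exact mem_sup_right t_mem_Kh)).2
    have hle := h.le2 e1 g.2 e2 e3
    rcases h3 (inclusion le g) (fun c _ => by
        change ((g : G) * g) • c = c
        rw [e1, one_smul])
      (fun ht => (h.Kinv (mem_Kh.2 ⟨ht, mem_Cz.1 g.2⟩) e1).elim e2 e3) with h5 | h5 | h5
    · exact absurd (h5.2.1.trans hle) (by omega)
    · exact h5.1
    · exact h5.1
  refine ⟨d.comp (inclusion le), φ.comp (inclusion le), i1, i2, fun g dg g2 => ?_⟩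
  have iL : ∀ l (hl : l ∈ LX U {z}), (d.comp (inclusion le)) ⟨l, h.LC hl⟩ = 1 ∧
      (φ.comp (inclusion le)) ⟨l, h.LC hl⟩ = 1 := fun l hl => (i1 _).2 (mem_sup_left hl)
  have fx : ∀ c ∈ Fx Ω {z}, (g : G)⁻¹ • c ∈ Fx Ω {z} := fun c hc =>
    mem_Fx1.2 (fix_of_comm (mem_Cz.1 (inv_mem g.2)) (mem_Fx1.1 hc))
  obtain ⟨l, hl, la, lb⟩ := (kit1.fx h.rg h.ne h.sub).2.2.2.2.2.2.2 (h.c4.fx3 h.ne h.iv) _
    (fx a h.aF) _ (fx b h.bF) fun e => h.ne (by simpa using e)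
  have st : (g : G) * l ∈ St G a b :=
    ⟨show ((g : G) * l) • a = a by rw [mul_smul, la, smul_inv_smul],
      show ((g : G) * l) • b = b by rw [mul_smul, lb, smul_inv_smul]⟩
  have semi := fun w (hw : w ∈ St G a b) (hc : w ∈ Cz z) =>
    kit2.semi h.rg.sr h.ne inf_le_left inf_le_left ld w hw
      (H7.HKT.norm_CU h.rg.toSp hw.1 (le hc)) (H7.HKT.norm_CU h.rg.toSp hw.2 (le hc))
  have glC : (g : G) * l ∈ Cz z := mul_mem g.2 (h.LC hl)
  obtain ⟨lam, σ, l0, s1, -⟩ := semi _ st glC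
  obtain ⟨p1, p2⟩ := h2 ⟨_, le glC⟩ lam σ st s1
  have q1 : (φ.comp (inclusion le)) g = σ := by
    rw [← p1, ← mul_one ((φ.comp (inclusion le)) g), ← (iL l hl).2, ← map_mul]; rfl
  obtain ⟨μ, rfl⟩ := p2.1 (by
    have : (d.comp (inclusion le)) (g * ⟨l, h.LC hl⟩) = 1 := by rw [map_mul, dg, (iL l hl).1, mul_one]
    exact this)
  have μ0 : μ ≠ 0 := fun e => l0 (by rw [e, mul_zero])
  have c0 : σ.symm μ⁻¹ ≠ 0 := by simpa using μ0
  have hL := H7.HKT.h_lx h.rg h.ne h.sub ld (σ.symm μ⁻¹)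
  have hS := H7.HKT.h_st h.rg h.ne ld c0
  have act : ∀ c, (g : G) * (l * sl2h x y (σ.symm μ⁻¹)) * x c *
      ((g : G) * (l * sl2h x y (σ.symm μ⁻¹)))⁻¹ = x (σ c) := fun c => by
    calc _ = (g : G) * l * (sl2h x y (σ.symm μ⁻¹) * x c * (sl2h x y (σ.symm μ⁻¹))⁻¹) *
        ((g : G) * l)⁻¹ := by group
      _ = x (σ c) := by
        rw [ld.rel.h_mul_x c0, mul_inv_cancel_right, s1]
        congr 1
        rw [map_mul, map_pow, RingEquiv.apply_symm_apply]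
        field_simp
  have st2 : (g : G) * (l * sl2h x y (σ.symm μ⁻¹)) ∈ St G a b := by
    rw [← mul_assoc]; exact mul_mem st hS
  have hl' := mul_mem hl hL
  generalize l * sl2h x y (σ.symm μ⁻¹) = l' at act st2 hl'
  have wC : (g : G) * l' ∈ Cz z := mul_mem g.2 (h.LC hl')
  have q2 : (φ.comp (inclusion le)) ⟨_, wC⟩ = σ := by
    rw [← q1, ← mul_one ((φ.comp (inclusion le)) g), ← (iL l' hl').2, ← map_mul]; rfl
  have wL : (g : G) * l' * (g * l') ∈ LX U {z} := by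
    have := mul_mem (mul_mem g2 (h.cjL (inv_mem g.2) hl')) hl'
    rwa [show (g : G) * g * ((g : G)⁻¹ * l' * (g : G)⁻¹⁻¹) * l' = g * l' * (g * l') by group] at this
  generalize (g : G) * l' = w at act st2 wC q2 wL
  have s2 : σ * σ = 1 := by rw [← q2, ← map_mul]; exact (iL _ wL).2
  have wK : w * w ∈ Kh Ω {z} := by
    refine H7.HKT.kh_of h.rg h.ne h.iv.1 (mul_mem st2 st2) (mem_Cz.1 (mul_mem wC wC)) fun u hu => ?_
    obtain ⟨c, rfl⟩ := (ld.rx u).1 hu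
    rw [← mul_inv_eq_iff_eq_mul]
    calc w * w * x c * (w * w)⁻¹ = w * (w * x c * w⁻¹) * w⁻¹ := by group
      _ = x ((σ * σ) c) := by rw [act, act]; rfl
      _ = x c := by rw [s2]; rfl
  rw [q1, ← q2]
  rcases h.LK wL wK with e1 | e1
  · exact i2 _ e1
  obtain ⟨l2, σ2, -, s3, -, s4, -⟩ := semi w st2 wC
  have l21 : l2 * σ2 1 = 1 := by simpa using ld.inj ((s3 1).symm.trans (act 1))
  have cn := s4 1 one_ne_zero
  rw [l21, mul_inv_eq_iff_eq_mul] at cn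
  have nL := H7.HKT.n_lx h.rg h.ne h.sub ld 1
  have := i2 (⟨w, wC⟩ * ⟨_, h.LC nL⟩) (by
    change w * sl2n x y 1 * (w * sl2n x y 1) = 1
    rw [mul_assoc, ← mul_assoc (sl2n x y 1), ← cn, mul_assoc, ld.rel.n_one_sq, ← mul_assoc, e1, e,
      h.sq])
  rwa [map_mul, (iL _ nL).2, mul_one] at this

/-- A conjugate of `z` swapping `a`, `b` and centralising the four-group. -/
theorem ex_swap (h : S4 U a b z) (hf : Fr z v a b) (m : Nat.card (U a) % 4 = 1) (sv : ¬ SLt U v) :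
    ∃ t : G, t * t = 1 ∧ Sw t a b ∧ t * z = z * t ∧ t * v = v * t ∧ IsConj z t ∧
      ¬ IsConj z (t * v) := by
  have hv : I4 U a b v := ⟨h.c4, h.ne, hf.2.1⟩
  have nv : ¬ IsConj z v := fun e => sv (h.of_conj hf.2.1 e).sl
  obtain ⟨g, -, hg⟩ := (h.c4.slc h.ne h.iv h.sl).2.2 v hf
  have nzv : ¬ IsConj z (z * v) := fun e => nv (e.trans (isConj_of g hg).symm)
  obtain ⟨⟨F, _, _, x, y, ld⟩, h4⟩ := h.c4.tl h.ne hv.iv
  have z1 := ((h.c4.sl h.ne hv.iv ld).resolve_left fun e => sv e.1).2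
  rw [H7.HKT.card_F h.rg h.ne ld, m] at h4
  obtain ⟨i, hi⟩ := H7.HKT.ex_i h4
  have i0 : i ≠ 0 := fun e => by simp [e] at hi
  obtain ⟨k, hk, ek⟩ := H7.HKT.hk_dec h.rg h.ne hv.iv.1 ld hi h.iv.1 hf.2.2.2 fun u hu => by
    rw [h.tinv]; exact h.c4.neg h.ne (H7.HKT.fr_symm hf) u hu
  have τ2 : sl2h x y i * sl2h x y i = 1 := by rw [ld.rel.h_mul' i0 i0, hi, z1]
  have τL := H7.HKT.h_lx h.rg h.ne hv.sub ld i
  have nL := H7.HKT.n_lx h.rg h.ne hv.sub ld 1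
  have n2 : sl2n x y 1 * sl2n x y 1 = 1 := ld.rel.n_one_sq.trans z1
  have sw := ld.sw 1 one_ne_zero
  obtain ⟨-, -, -, -, -, -, nh, -, -, -, h11, -⟩ :=
    kit2.bas h.rg.sr h.ne inf_le_left inf_le_left ld
  have τ1 : sl2h x y i ≠ 1 := fun e => by
    have two := H7.HKT.two_ne h.rg h.ne ld
    rcases h11 i i0 e with e | e <;> rw [e] at hi <;> exact two (by linear_combination hi)
  have cτ : sl2n x y 1 * sl2h x y i = sl2h x y i * sl2n x y 1 := by
    rw [← mul_inv_eq_iff_eq_mul, nh i 1 i0 one_ne_zero]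
    refine (eq_inv_of_mul_eq_one_left ?_).trans (inv_eq_of_mul_eq_one_right τ2)
    rw [ld.rel.h_mul' (inv_ne_zero i0) i0, inv_mul_cancel₀ i0, ld.rel.h_one]
  have n1 : sl2n x y 1 ≠ 1 := fun e => h.ne (by rw [← sw.1, e, one_smul])
  have eL := H7.HKT.lx_eq h.rg h.ne hv.sub ld
  obtain ⟨l, hl, el⟩ := ((kit2.grp h.rg.sr h.ne inf_le_left inf_le_left ld).2.1 z1).2 _ (eL ▸ τL) _
    (eL ▸ nL) (ord_of τ2 τ1) (ord_of n2 n1)
  have lv := mem_Cz.1 (hv.LC (eL ▸ hl))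
  have nvc := mem_Cz.1 (hv.LC nL)
  have c1 : IsConj (sl2h x y i) (sl2n x y 1) := isConj_of l el
  have c2 : IsConj (sl2h x y i * v) (sl2n x y 1 * v) :=
    isConj_of l (by rw [← el, mul_assoc l, mul_assoc _ v, ← mem_Cz.1 (hv.LC (eL ▸ inv_mem hl))]; group)
  have k2 : k * k = 1 := by
    have := h.sq
    rw [ek, mul_assoc, ← mul_assoc k, hv.KL hk τL, mul_assoc, ← mul_assoc, τ2, one_mul] at this
    exact this
  generalize sl2n x y 1 = w at *
  generalize sl2h x y i = τ at *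
  rcases hv.Kinv hk k2 with rfl | rfl
  · rw [mul_one] at ek
    subst ek
    exact ⟨w, n2, sw, cτ, nvc, c1, fun e => nzv (e.trans c2.symm)⟩
  · have τe : τ = z * k := by rw [ek, mul_assoc, hv.sq, mul_one]
    have wz : w * z = z * w := by rw [ek, ← mul_assoc, cτ, mul_assoc, nvc, mul_assoc]
    refine ⟨w * k, ?_, ⟨?_, ?_⟩, ?_, ?_, ek ▸ c2, fun e => nzv ?_⟩
    · rw [mul_assoc, ← mul_assoc k, ← nvc, mul_assoc, hv.sq, mul_one, n2]
    · rw [mul_smul, hv.iv.1.1, sw.1]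
    · rw [mul_smul, hv.iv.1.2, sw.2]
    · rw [mul_assoc, ← hf.2.2.2, ← mul_assoc, wz, mul_assoc]
    · rw [← mul_assoc, ← nvc]
    · rw [mul_assoc, hv.sq, mul_one] at e
      exact τe ▸ e.trans c1.symm

theorem jobP1a (k3 : Kit3.{u}) : JobP1a.{u} := by
  intro G Ω _ _ _ U a b z v c4 hab hf sl m nq sv
  have h : S4 U a b z := ⟨⟨c4, hab, hf.1⟩, sl⟩
  have nv : ¬ IsConj z v := fun e => sv (h.of_conj hf.2.1 e).sl
  obtain ⟨t, t2, sw, tz, tv, jt, jtv⟩ := ex_swap h hf m sv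
  obtain ⟨F, _, _, x, y, ld, e, eL, -, h4⟩ := h.data
  obtain ⟨i, hi⟩ := H7.HKT.ex_i (h4.trans m)
  have i0 : i ≠ 0 := fun e => by simp [e] at hi
  have v2 := sq_of_ord hf.2.1.2
  have vi : v⁻¹ = v := inv_eq_of_mul_eq_one_right v2
  have ti : t⁻¹ = t := inv_eq_of_mul_eq_one_right t2
  have tC : t ∈ Cz z := mem_Cz.2 tz
  have vC : v ∈ Cz z := mem_Cz.2 hf.2.2.2.symm
  have t1 : t ≠ 1 := fun e => hab (by rw [← sw.1, e, one_smul])
  have tnz : t ≠ z := fun e => hab (by rw [← sw.1, e]; exact hf.1.1.1.symm)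
  obtain ⟨k, hk, ek⟩ := H7.HKT.hk_dec h.rg hab hf.1.1 ld hi hf.2.1.1 hf.2.2.2.symm fun u hu => by
    rw [vi]; exact c4.neg hab hf u hu
  have hL := H7.HKT.h_lx h.rg hab h.sub ld i
  have h2 : sl2h x y i * sl2h x y i = z := by rw [ld.rel.h_mul' i0 i0, hi, e]
  have hinv : sl2h x y i⁻¹ = (sl2h x y i)⁻¹ := eq_inv_of_mul_eq_one_left (by
    rw [ld.rel.h_mul' (inv_ne_zero i0) i0, inv_mul_cancel₀ i0, ld.rel.h_one])
  obtain ⟨-, -, -, -, -, -, nh, -, -, nsw, -⟩ := kit2.bas h.rg.sr hab inf_le_left inf_le_left ld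
  obtain ⟨μ, -, -, th, -⟩ := kit2.swp h.rg hab h.sub ld t (nor_sing.2 tC) sw
    (fun c _ => by rw [← mul_smul, t2, one_smul]) (h.le2 t2 tC t1 tnz)
  have th0 := (th i i0).trans hinv
  have nh0 : ∀ d, d ≠ 0 → sl2n x y d * sl2h x y i * (sl2n x y d)⁻¹ = (sl2h x y i)⁻¹ :=
    fun d d0 => (nh i d i0 d0).trans hinv
  obtain ⟨D, Φ, o1, o2, o3⟩ := out2 h k3 ld e
  generalize sl2h x y i = h0 at ek hL h2 th0 nh0
  have kh := h.KL hk hL
  have k2 : k * k = z := by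
    have := v2
    rw [ek, mul_assoc, ← mul_assoc k, kh, mul_assoc, ← mul_assoc, h2] at this
    rw [eq_inv_of_mul_eq_one_right this, h.tinv]
  have ki : k⁻¹ = z * k := inv_eq_of_mul_eq_one_left (by rw [mul_assoc, k2, h.sq])
  have zL : z ∈ LX U {z} := h.sl
  have tout : t ∉ IK U z := fun ti' => by
    obtain ⟨l, hl, k', hk', rfl, -, k2'⟩ := h.inv_dec ti' t2 t1 tnz
    obtain ⟨d, d0, rfl⟩ := nsw l (eL ▸ hl) ⟨by rw [← sw.1, mul_smul, (h.KS hk').1],
      by rw [← sw.2, mul_smul, (h.KS hk').2]⟩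
    refine nq ⟨k, hk, k', hk', k2, k2', ?_⟩
    have e1 := nh0 d d0
    have c1 := h.KL hk' hL
    have c2 := h.KL (mul_mem (mul_mem hk' hk) (inv_mem hk')) (inv_mem hl)
    generalize sl2n x y d = n at *
    have e2 : n * k' * v * (n * k')⁻¹ = h0⁻¹ * (k' * k * k'⁻¹) := by
      calc n * k' * v * (n * k')⁻¹ = n * (k' * h0) * k'⁻¹ * (k' * k * k'⁻¹ * n⁻¹) := by
            rw [ek]; group
        _ = h0⁻¹ * (k' * k * k'⁻¹) := by rw [c1, c2, ← e1]; group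
    rw [tv, mul_inv_cancel_right, ek, eq_inv_mul_iff_mul_eq, ← mul_assoc, h2] at e2
    rw [← e2, ki]
  have tk : t * k * t⁻¹ = k⁻¹ := by
    calc t * k * t⁻¹ = (t * h0 * t⁻¹)⁻¹ * (t * v * t⁻¹) := by rw [ek]; group
      _ = k⁻¹ := by rw [th0, tv, mul_inv_cancel_right, inv_inv, ek, ← mul_assoc, h2, ki]
  have tk2 : t * k * (t * k) = 1 := by
    calc t * k * (t * k) = t * k * t⁻¹ * k := by rw [ti]; group
      _ = 1 := by rw [tk, inv_mul_cancel]
  have kC : k ∈ Cz z := hk.2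
  have tkout : t * k ∉ IK U z := fun e => tout ((mul_mem_cancel_right (mem_sup_right hk)).1 e)
  have jk : ¬ IsConj z (t * k) := fun e => jtv (e.trans (by
    have e1 : h0⁻¹ * (t * k) = t * v := by rw [← th0, ek]; group
    have := h.lc_out (mul_mem tC kC) (inv_mem hL) tk2 (by
      rw [e1, mul_assoc, ← mul_assoc v, ← tv, mul_assoc, v2, mul_one, t2]) tkout
    rwa [e1] at this))
  have jk' : ¬ IsConj z (z * (t * k)) := fun e => jk (e.trans (h.lc_out (mul_mem tC kC) zL tk2 (by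
    rw [mul_assoc, ← mul_assoc (t * k), mem_Cz.1 (mul_mem tC kC), mul_assoc, tk2, mul_one, h.sq])
      tkout).symm)
  -- the Sylow subgroup
  have : Fact (Nat.Prime 2) := ⟨Nat.prime_two⟩
  have vk : v * k * v⁻¹ = k := by rw [mul_inv_eq_iff_eq_mul, ek, ← mul_assoc, kh]
  have P2 : IsPGroup 2 ↥(zpowers k ⊔ (zpowers v ⊔ zpowers t)) := by
    refine IsPGroup.to_sup_of_normal_left' (two_zp (k := 2) ?_)
      (IsPGroup.to_sup_of_normal_left' (two_zp (k := 1) (by rw [pow_one, pow_two, v2]))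
        (two_zp (k := 1) (by rw [pow_one, pow_two, t2]))
        (zpowers_le.2 (nor_zp (by rw [tv, mul_inv_cancel_right]; exact mem_zpowers v))))
      (sup_le (zpowers_le.2 (nor_zp (vk.symm ▸ mem_zpowers k)))
        (zpowers_le.2 (nor_zp (tk ▸ inv_mem (mem_zpowers k)))))
    rw [show 2 ^ 2 = 2 * 2 from rfl, pow_mul, pow_two k, k2, pow_two, h.sq]
  obtain ⟨⟨S, hPS, SC, S2, So⟩, hsy⟩ := k3.syl (Cz z) (Kh Ω {z}) _
    (sup_le (zpowers_le.2 kC) (sup_le (zpowers_le.2 vC) (zpowers_le.2 tC))) P2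
    (fun g hg => nK hg) inf_le_right
  obtain ⟨-, hsup⟩ := hsy S SC S2 So
  have kS : k ∈ S := hPS (mem_sup_left (mem_zpowers k))
  have vS : v ∈ S := hPS (mem_sup_right (mem_sup_left (mem_zpowers v)))
  have tS : t ∈ S := hPS (mem_sup_right (mem_sup_right (mem_zpowers t)))
  have zS : z ∈ S := k2 ▸ mul_mem kS kS
  have Sodd : Odd S.index := by rw [← relIndex_mul_index SC]; exact So.mul h.oddC
  have dec0 : ∀ g ∈ S, g ∈ IK U z → ∃ q ∈ S ⊓ LX U {z}, ∃ r ∈ S ⊓ Kh Ω {z}, g = q * r :=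
    fun g hg hi => by
      have := (hsup _ h.LC fun g hg => h.nL hg).le ⟨hg, by rwa [sup_comm]⟩
      rw [sup_comm] at this
      exact (H7.mem_sup_iff_of_le_normalizer fun r hr => H7.mem_normalizer_of_forall fun q hq => by
        rwa [h.KL hr.2 hq.2, mul_inv_cancel_right]).1 this
  have cyc := h.cyc k3 nq (R := S ⊓ Kh Ω {z}) S2.to_inf_left inf_le_right ⟨zS, t_mem_Kh⟩
  have Rk : ∀ r ∈ S ⊓ Kh Ω {z}, r = 1 ∨ r = z ∨ r = k ∨ r = z * k := by
    obtain ⟨⟨ρ, hρ⟩, gen⟩ := cyc.exists_generator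
    have gen' : ∀ r ∈ S ⊓ Kh Ω {z}, ∃ j : ℤ, ρ ^ j = r := fun r hr => by
      obtain ⟨j, hj⟩ := gen ⟨r, hr⟩
      exact ⟨j, congrArg Subtype.val hj⟩
    have cm : ∀ r ∈ S ⊓ Kh Ω {z}, ∀ r' ∈ S ⊓ Kh Ω {z}, r * r' = r' * r := fun r hr r' hr' => by
      obtain ⟨j, rfl⟩ := gen' r hr
      obtain ⟨j', rfl⟩ := gen' r' hr'
      exact zpow_mul_comm _ _ _
    obtain ⟨j, hj⟩ := gen' k ⟨kS, hk⟩
    have ρk : ρ ∈ zpowers k := by
      rcases Int.even_or_odd' j with ⟨n, rfl | rfl⟩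
      · exfalso
        have hs : ρ ^ n ∈ S ⊓ Kh Ω {z} := zpow_mem hρ n
        rw [mul_comm, zpow_mul, zpow_two] at hj
        generalize ρ ^ n = s at hs hj
        have hs' : t * s * t⁻¹ ∈ S ⊓ Kh Ω {z} := mem_inf.2 ⟨mul_mem (mul_mem tS (mem_inf.1 hs).1) (inv_mem tS),
          H7.conj_mem_of_mem_normalizer (nK tC) hs.2⟩
        have e1 := cj_sq hj t
        rw [tk] at e1
        have e2 : s⁻¹ * t * s⁻¹⁻¹ = (t * s * t⁻¹ * s)⁻¹ * (t * k) := by
          rw [← hj, show t * (s * s) = t * s * t⁻¹ * (t * s * t⁻¹) * t by group]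
          calc s⁻¹ * t * s⁻¹⁻¹ = s⁻¹ * (t * s * t⁻¹) * t := by group
            _ = _ := by group
        generalize t * s * t⁻¹ = s' at hs' e1 e2
        have j1 : IsConj z ((s' * s)⁻¹ * (t * k)) := jt.trans (isConj_of _ e2)
        rcases h.Kinv (mul_mem hs'.2 hs.2) (by
          rw [mul_assoc, ← mul_assoc s, cm s hs s' hs', mul_assoc, hj, ← mul_assoc, e1,
            inv_mul_cancel]) with e3 | e3 <;> rw [e3] at j1
        · exact jk (by simpa using j1)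
        · exact jk' (by rwa [h.tinv] at j1)
      · obtain ⟨w, hw⟩ := two_of_mem S2 hρ.1
        rw [← hj, mem_zpowers_zpow_iff]
        obtain ⟨s, -, hs⟩ := (Nat.dvd_prime_pow Nat.prime_two).1 (orderOf_dvd_of_pow_eq_one hw)
        rw [hs, ← Int.isCoprime_iff_gcd_eq_one]
        push_cast
        exact (Int.isCoprime_two_right.2 ⟨n, rfl⟩).pow_right
    intro r hr
    obtain ⟨j', rfl⟩ := gen' r hr
    obtain ⟨n, hn⟩ := zpow_mem ρk j'
    have hn' : ρ ^ j' = k ^ n := hn.symm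
    rw [hn']
    have e1 : ∀ s : ℤ, k ^ (2 * s) = 1 ∨ k ^ (2 * s) = z := fun s => h.Kinv (zpow_mem hk _) (by
      rw [zpow_mul, zpow_two, k2, ← (Commute.refl z).mul_zpow, h.sq, one_zpow])
    rcases Int.even_or_odd' n with ⟨s, rfl | rfl⟩
    · rcases e1 s with e | e <;> simp [e]
    · rw [zpow_add, zpow_one]
      rcases e1 s with e | e <;> simp [e]
  have nQ : ∀ g ∈ S, g ∈ normalizer ((S ⊓ LX U {z} : Subgroup G) : Set G) := fun g hg =>
    H7.mem_normalizer_of_forall fun q hq =>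
      mem_inf.2 ⟨mul_mem (mul_mem hg hq.1) (inv_mem hg), h.cjL (SC hg) hq.2⟩
  have memT : ∀ g ∈ (S ⊓ LX U {z}) ⊔ zpowers t, g ∈ S ⊓ LX U {z} ∨ g * t ∈ S ⊓ LX U {z} :=
    fun g hg => ti ▸ mem_sup_zp (nQ t tS) (t2 ▸ one_mem _) hg
  set T := (S ⊓ LX U {z}) ⊔ zpowers t with hT
  have QT : ∀ q ∈ S ⊓ LX U {z}, q ∈ T := fun q hq => mem_sup_left hq
  have tT : t ∈ T := mem_sup_right (mem_zpowers t)
  have zT : z ∈ T := QT z ⟨zS, zL⟩
  have TS : T ≤ S := sup_le inf_le_left (zpowers_le.2 tS)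
  have cjt : ∀ g ∈ S, g * t * g⁻¹ ∈ T := fun g hg => by
    have o : g * t * g⁻¹ ∉ IK U z := fun e => tout (by
      simpa [mul_assoc] using h.cjI (inv_mem (SC hg)) e)
    have s2 : g * t * g⁻¹ * (g * t * g⁻¹) = 1 := by rw [cj_sq t2, mul_one, mul_inv_cancel]
    have mS : g * t * g⁻¹ ∈ S := mul_mem (mul_mem hg tS) (inv_mem hg)
    have jj : IsConj z (g * t * g⁻¹) := jt.trans (isConj_of g rfl)
    obtain ⟨q, hq, r, hr, e⟩ := dec0 _ (mul_mem mS tS)
      (h.mul_in k3 (SC mS) tC (Or.inl s2) (Or.inl t2) o tout)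
    generalize g * t * g⁻¹ = w at s2 jj e
    have e' : w = q * r * t := by rw [← e, mul_assoc, t2, mul_one]
    have kt : k * t = z * (t * k) := by
      rw [← mul_assoc, ← tz, mul_assoc, ← ki, ← tk, ti, ← mul_assoc, ← mul_assoc, t2, one_mul]
    rcases Rk r hr with rfl | rfl | rfl | rfl
    · rw [e']; exact mul_mem (mul_mem (QT q hq) (one_mem _)) tT
    · rw [e']; exact mul_mem (mul_mem (QT q hq) zT) tT
    · rw [mul_assoc, kt, ← mul_assoc] at e'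
      subst e'
      exact absurd (jj.trans (h.lc_out (mul_mem tC kC) (mul_mem hq.2 zL) tk2 s2 tkout).symm) jk
    · rw [mul_assoc, mul_assoc, kt, ← mul_assoc z, h.sq, one_mul] at e'
      subst e'
      exact absurd (jj.trans (h.lc_out (mul_mem tC kC) hq.2 tk2 s2 tkout).symm) jk
  have cjT : ∀ g ∈ S, ∀ w ∈ T, g * w * g⁻¹ ∈ T := fun g hg w hw => by
    rcases memT w hw with e | e
    · exact QT _ (H7.conj_mem_of_mem_normalizer (nQ g hg) e)
    · have := mul_mem (QT _ (H7.conj_mem_of_mem_normalizer (nQ g hg) e)) (inv_mem (cjt g hg))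
      rwa [show g * (w * t) * g⁻¹ * (g * t * g⁻¹)⁻¹ = g * w * g⁻¹ by group] at this
  have Φt : Φ ⟨t, tC⟩ = 1 := o2 _ t2
  have Dt : D ⟨t, tC⟩ = -1 := (Int.units_eq_one_or _).resolve_left fun e => tout ((o1 _).1 ⟨e, Φt⟩)
  have S0 : ∀ g (hg : g ∈ S), Φ ⟨g, SC hg⟩ = 1 → g ∈ T ∨ g * k⁻¹ ∈ T := by
    have key : ∀ g ∈ S, g ∈ IK U z → g ∈ T ∨ g * k⁻¹ ∈ T := fun g hg hi => by
      obtain ⟨q, hq, r, hr, rfl⟩ := dec0 g hg hi
      rcases Rk r hr with rfl | rfl | rfl | rfl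
      · exact Or.inl (mul_mem (QT q hq) (one_mem _))
      · exact Or.inl (mul_mem (QT q hq) zT)
      · exact Or.inr (by rw [mul_inv_cancel_right]; exact QT q hq)
      · exact Or.inr (by rw [← mul_assoc, mul_inv_cancel_right]; exact mul_mem (QT q hq) zT)
    intro g hg e
    rcases Int.units_eq_one_or (D ⟨g, SC hg⟩) with e1 | e1
    · exact key g hg ((o1 _).1 ⟨e1, e⟩)
    · have := key (t * g) (mul_mem tS hg) ((o1 (⟨t, tC⟩ * ⟨g, SC hg⟩)).1
        ⟨by rw [map_mul, Dt, e1]; simp, by rw [map_mul, Φt, e, mul_one]⟩)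
      rwa [mul_assoc, mul_mem_cancel_left tT, mul_mem_cancel_left tT] at this
  have sqT : ∀ g (hg : g ∈ S), g * g ∈ T → Φ ⟨g, SC hg⟩ = 1 := by
    have key : ∀ g (hg : g ∈ S), g * g ∈ T → D ⟨g, SC hg⟩ = 1 → Φ ⟨g, SC hg⟩ = 1 :=
      fun g hg h2 e => o3 _ e (((memT _ h2).resolve_right fun e' => by
        have := ((o1 (⟨g, SC hg⟩ * ⟨g, SC hg⟩ * ⟨t, tC⟩)).2 (mem_sup_left e'.2)).1
        rw [map_mul, map_mul, e, Dt] at this
        exact absurd this (by decide)).2)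
    intro g hg h2
    rcases Int.units_eq_one_or (D ⟨g, SC hg⟩) with e1 | e1
    · exact key g hg h2 e1
    · have := key (g * t) (mul_mem hg tS) (by
        have := mul_mem (mul_mem h2 (cjt _ (inv_mem hg))) tT
        rwa [show g * g * (g⁻¹ * t * g⁻¹⁻¹) * t = g * t * (g * t) by group] at this)
        (show D (⟨g, SC hg⟩ * ⟨t, tC⟩) = 1 by rw [map_mul, Dt, e1]; simp)
      rwa [show (⟨g * t, SC (mul_mem hg tS)⟩ : Cz z) = ⟨g, SC hg⟩ * ⟨t, tC⟩ from rfl, map_mul, Φt,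
        mul_one] at this
  have cy : ∃ s ∈ S, T ⊔ zpowers s = S := by
    haveI := H69.isCyclic_ringEquiv F
    set ψ : S →* (F ≃+* F) := Φ.comp (inclusion SC) with hψ
    obtain ⟨⟨_, s, rfl⟩, gen⟩ := IsCyclic.exists_generator (α := ψ.range)
    have fin : ∀ s' ∈ S, k ∈ T ⊔ zpowers s' → (s : G) ∈ T ⊔ zpowers s' → T ⊔ zpowers s' = S :=
      fun s' hs' h1 h2 => le_antisymm (sup_le TS (zpowers_le.2 hs')) fun g hg => by
        obtain ⟨j, hj⟩ := gen ⟨ψ ⟨g, hg⟩, _, rfl⟩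
        have hj' : ψ s ^ j = ψ ⟨g, hg⟩ := congrArg Subtype.val hj
        have m : g * ((s : G) ^ j)⁻¹ ∈ T ⊔ zpowers s' := by
          rcases S0 _ (mul_mem hg (inv_mem (zpow_mem s.2 j))) (show ψ (⟨g, hg⟩ * (s ^ j)⁻¹) = 1 by
            rw [map_mul, map_inv, map_zpow, hj', mul_inv_cancel]) with e | e
          · exact mem_sup_left e
          · exact (mul_mem_cancel_right (inv_mem h1)).1 (mem_sup_left e)
        exact (mul_mem_cancel_right (inv_mem (zpow_mem h2 j))).1 m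
    by_cases s1 : ψ s = 1
    · refine ⟨k, kS, fin k kS (mem_sup_right (mem_zpowers k)) ?_⟩
      rcases S0 s s.2 s1 with e | e
      · exact mem_sup_left e
      · exact (mul_mem_cancel_right (inv_mem (mem_sup_right (mem_zpowers k)))).1 (mem_sup_left e)
    · refine ⟨s, s.2, fin s s.2 ?_ (mem_sup_right (mem_zpowers _))⟩
      have ex : ∃ n, ψ (s ^ 2 ^ n) = 1 := (S2 s).imp fun n hn => by rw [hn, map_one]
      classical
      have n0 : Nat.find ex ≠ 0 := fun e => s1 (by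
        have := Nat.find_spec ex
        rwa [e, pow_zero, pow_one] at this)
      obtain ⟨n, hn⟩ := Nat.exists_eq_succ_of_ne_zero n0
      have a1 : ψ (s ^ 2 ^ n) ≠ 1 := Nat.find_min ex (by omega)
      have a2 : ψ (s ^ 2 ^ n * s ^ 2 ^ n) = 1 := by
        have := Nat.find_spec ex
        rwa [hn, pow_succ, pow_mul, pow_two] at this
      have mS : ((s ^ 2 ^ n : S) : G) ∈ T ⊔ zpowers (s : G) :=
        mem_sup_right (pow_mem (mem_zpowers _) _)
      rcases S0 _ (s ^ 2 ^ n * s ^ 2 ^ n).2 a2 with e | e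
      · exact absurd (sqT _ (s ^ 2 ^ n).2 e) a1
      · exact (inv_mem_iff).1 ((mul_mem_cancel_left (mul_mem mS mS)).1 (mem_sup_left e))
  have vT : v ∉ T := fun e => by
    rcases memT v e with e | e
    · rcases h.Linv e.2 v2 with e | e
      · exact ne_of_ord hf.2.1.2 e
      · exact hf.2.2.1 e.symm
    · exact tout ((mul_mem_cancel_left (ek ▸ mul_mem (mem_sup_left hL) (mem_sup_right hk))).1
        (mem_sup_left e.2))
  obtain ⟨g, hg, -⟩ := kit1.tho S T v (kit1.par h.pre).1 S2 Sodd TS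
    (fun g hg => H7.mem_normalizer_of_forall (cjT g hg)) cy v2 vS vT
  have jv : IsConj v (g * v * g⁻¹) := isConj_of g rfl
  have s2 : g * v * g⁻¹ * (g * v * g⁻¹) = 1 := by rw [cj_sq v2, mul_one, mul_inv_cancel]
  have s1 : g * v * g⁻¹ ≠ 1 := fun e => ne_of_ord hf.2.1.2 (by simpa using e)
  generalize g * v * g⁻¹ = w at hg jv s2 s1
  rcases memT w hg with e | e
  · rcases h.Linv e.2 s2 with e | e
    · exact s1 e
    · exact nv (e ▸ jv.symm)
  · have e' : w * t * t = w := by rw [mul_assoc, t2, mul_one]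
    have := h.lc_out tC e.2 t2 (by rw [e', s2]) tout
    rw [e'] at this
    exact nv ((jt.trans this).trans jv.symm)

end H96.HK
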