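import Cfsg.Agent.H7.HKSSpec3
import Cfsg.Agent.H72.HKS1
import Cfsg.Agent.H3.HkKit2
import Cfsg.Agent.H73.HKSMR
import Cfsg.Agent.H22.HHExtra

/-! HKS tower, job PSc: identification of the Ree groups. -/

set_option autoImplicit false

namespace H96.HK

open MulAction Cfsg Subgroup H89.K H65 H7.HKS

universe u

section Gen

variable {G : Type u} [Group G] [Finite G]

/-- If `t` is an involution in the normal subgroup `M` normalising the group `W` of odd order and
`C_W(t) ≤ M`, then `W ≤ M`. -/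
theorem le_of_cent {W M : Subgroup G} [hM : M.Normal] {t : G} (ht : t * t = 1) (tM : t ∈ M)
    (ho : Odd (Nat.card W)) (hn : ∀ u ∈ W, t * u * t⁻¹ ∈ W)
    (hc : ∀ u ∈ W, t * u = u * t → u ∈ M) : W ≤ M := by
  intro u hu
  have ti : t⁻¹ = t := inv_eq_of_mul_eq_one_right ht
  set w := u⁻¹ * (t * u * t⁻¹) with hw
  have wW : w ∈ W := mul_mem (inv_mem hu) (hn u hu)
  have wM : w ∈ M := by
    have : w = (u⁻¹ * t * u⁻¹⁻¹) * t⁻¹ := by rw [hw]; group
    rw [this]; exact mul_mem (hM.conj_mem _ tM _) (inv_mem tM)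
  have wi : t * w * t⁻¹ = w⁻¹ := by
    have e : t * (t * u * t⁻¹) * t⁻¹ = u := by
      rw [ti]; calc t * (t * u * t) * t = (t * t) * u * (t * t) := by group
        _ = u := by rw [ht]; group
    calc t * w * t⁻¹ = (t * u * t⁻¹)⁻¹ * (t * (t * u * t⁻¹) * t⁻¹) := by rw [hw]; group
      _ = w⁻¹ := by rw [e, hw]; group
  obtain ⟨k, hk⟩ := ho
  have wo : w ^ (2 * k + 1) = 1 := by
    have := pow_card_eq_one' (G := W) (x := ⟨w, wW⟩)
    rw [hk] at this
    exact congrArg Subtype.val this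
  set s := w ^ (k + 1) with hs
  have s2 : s * s = w := by
    rw [hs, ← pow_add, show k + 1 + (k + 1) = (2 * k + 1) + 1 by ring, pow_succ, wo, one_mul]
  have si : t * s * t⁻¹ = s⁻¹ := by
    rw [hs, ← conj_pow, wi, inv_pow]
  have c : t * (u * s) = (u * s) * t := by
    have e : t * u * t⁻¹ = u * w := by rw [hw]; group
    calc t * (u * s) = (t * u * t⁻¹) * (t * s * t⁻¹) * t := by group
      _ = u * (s * s) * s⁻¹ * t := by rw [e, si, s2]
      _ = (u * s) * t := by group
  have m := hc _ (mul_mem hu (pow_mem wW _)) c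
  have : u = (u * s) * s⁻¹ := by group
  rw [this]
  exact mul_mem m (inv_mem (pow_mem wM _))

/-- A perfect subgroup lies in a normal subgroup with nilpotent supplement. -/
theorem perfect_le {L M W : Subgroup G} [hM : M.Normal] (hs : M ⊔ W = ⊤)
    (hW : Group.IsNilpotent W) (hL : ⁅L, L⁆ = L) : L ≤ M := by
  have sur : Function.Surjective ((QuotientGroup.mk' M).comp W.subtype) := by
    intro y
    obtain ⟨g, rfl⟩ := QuotientGroup.mk'_surjective M y
    have : g ∈ M ⊔ W := hs ▸ mem_top g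
    rw [← SetLike.mem_coe, normal_mul] at this
    obtain ⟨m, hm, w, hw, rfl⟩ := this
    refine ⟨⟨w, hw⟩, ?_⟩
    simp only [MonoidHom.comp_apply, subtype_apply, map_mul]
    rw [show QuotientGroup.mk' M m = 1 from (QuotientGroup.eq_one_iff m).2 hm, one_mul]
  haveI : Group.IsNilpotent (G ⧸ M) := Group.nilpotent_of_surjective _ sur
  have sol : Group.IsSolvable (G ⧸ M) := inferInstance
  have key : ∀ n, L.map (QuotientGroup.mk' M) ≤ derivedSeries (G ⧸ M) n := by
    intro n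
    induction n with
    | zero => exact le_top
    | succ n ih =>
      rw [derivedSeries_succ, ← hL, map_commutator]
      exact commutator_mono ih ih
  obtain ⟨n, hn⟩ := sol.solvable
  intro l hl
  have := key n (mem_map_of_mem _ hl)
  rw [hn, mem_bot] at this
  exact (QuotientGroup.eq_one_iff l).1 this

end Gen

theorem ree_inj {q r : ℕ} (h : r ^ 2 * (r ^ 2 - r + 1) = q ^ 2 * (q ^ 2 - q + 1)) : r = q := by
  have mono : ∀ a b : ℕ, a < b → a ^ 2 * (a ^ 2 - a + 1) < b ^ 2 * (b ^ 2 - b + 1) := by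
    intro a b ab
    have h1 : a ^ 2 < b ^ 2 := Nat.pow_lt_pow_left ab (by norm_num)
    have h2 : a ^ 2 - a ≤ b ^ 2 - b := by
      have ea : a ^ 2 - a = a * (a - 1) := by rw [Nat.mul_sub, pow_two, mul_one]
      have eb : b ^ 2 - b = b * (b - 1) := by rw [Nat.mul_sub, pow_two, mul_one]
      rw [ea, eb]
      exact Nat.mul_le_mul ab.le (by omega)
    exact Nat.mul_lt_mul_of_lt_of_le h1 (by omega) (by omega)
  rcases lt_trichotomy r q with l | l | l
  · exact absurd h (mono _ _ l).ne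
  · exact l
  · exact absurd h (mono _ _ l).ne'

theorem ree_num {q N : ℕ} (hq : 0 < q) (h : N * (q * (q + 1)) = (q ^ 3 + 1) * q ^ 3 * 1) :
    N = q ^ 2 * (q ^ 2 - q + 1) := by
  obtain ⟨k, rfl⟩ : ∃ k, q = k + 1 := ⟨q - 1, by omega⟩
  have e : (k + 1) ^ 2 - (k + 1) = (k + 1) * k := by
    rw [pow_two, Nat.mul_succ, Nat.add_sub_cancel]
  rw [e]
  refine Nat.eq_of_mul_eq_mul_right (m := (k + 1) * (k + 1 + 1)) (by positivity) ?_
  rw [h]; ring

variable {G Ω : Type u} [Group G] [Finite G] [MulAction G Ω] {U : Ω → Subgroup G}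

theorem cu_empty (U : Ω → Subgroup G) (a : Ω) : CU U ∅ a = U a := by
  exact inf_eq_left.2 fun _ _ g hg => absurd hg (Set.notMem_empty g)

theorem lx_empty (h : ⨆ a, U a = ⊤) : LX U ∅ = ⊤ := by
  rw [eq_top_iff, ← h]
  refine iSup_le fun c => ?_
  rw [← cu_empty U c]
  exact le_iSup₂_of_le (f := fun c (_ : c ∈ Fx Ω (∅ : Set G)) => CU U ∅ c) c (by simp) le_rfl

theorem h_mem_lx (h : Rg U) {F : Type} [Field F] [Fintype F] {x y : F → G} {X : Set G} {a b : Ω}
    (hab : a ≠ b) (hX : X ⊆ St G a b) (ld : LD x y (CU U X a) (CU U X b) a b) (c : F) :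
    sl2h x y c ∈ LX U X := by
  rw [H3.HK2.kit2.lx h hab hX ld]
  have hx : ∀ c, x c ∈ CU U X a ⊔ CU U X b := fun c => mem_sup_left ((ld.rx _).2 ⟨c, rfl⟩)
  have hy : ∀ c, y c ∈ CU U X a ⊔ CU U X b := fun c => mem_sup_right ((ld.ry _).2 ⟨c, rfl⟩)
  exact mul_mem (mul_mem (mul_mem (hx _) (hy _)) (hx _)) (mul_mem (mul_mem (hx _) (hy _)) (hx _))

theorem jobPSc (k3 : Kit3.{u}) : JobPSc.{u} := by
  intro G Ω _ _ _ U a b t h hab ht tl h3 sl one m8 hS uq cU semi
  obtain ⟨S, S8, S2, So⟩ := hS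
  obtain ⟨F, _, _, x, y, ld⟩ := tl
  have k1 := H72.HKS.kit1.{u}
  have k2 := H3.HK2.kit2.{u}
  have hX : ({t} : Set G) ⊆ St G a b := by simpa using ht.1
  have t2 : t * t = 1 := by rw [← pow_two, ← ht.2, pow_orderOf_eq_one]
  obtain ⟨o, c, -, hst, -⟩ := k2.bas h.toRg.sr hab inf_le_left inf_le_left ld
  generalize hq : Nat.card (CU U {t} a) = q at h3 m8 cU
  have cF : Fintype.card F = q := by rw [← hq]; exact c.symm
  have z1 : sl2h x y (-1) = 1 := by
    by_contra z1
    have n1 : (-1 : F) ≠ 0 := neg_ne_zero.2 one_ne_zero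
    have sq : sl2h x y (-1) * sl2h x y (-1) = 1 := by
      rw [ld.rel.h_mul' n1 n1, neg_mul_neg, one_mul, ld.rel.h_one]
    have e := uq _ ⟨hst _ n1, orderOf_eq_prime (by rw [pow_two, sq]) z1⟩
    exact sl (by rw [SLt, ← e]; exact e ▸ h_mem_lx h.toRg hab hX ld (-1))
  obtain ⟨-, -, cT, -, perf, -⟩ := k3.sy1 h.toRg hab hX ld
  obtain ⟨M, hM⟩ := k1.soc h.pre
  haveI := hM.normal
  have LM : LX U {t} ≤ M := perfect_le (hM.sup a) (h.nil a) (perf (by omega))
  have aF : a ∈ Fx Ω ({t} : Set G) := by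
    intro g hg; rw [Set.mem_singleton_iff.1 hg]; exact ht.1.1
  have UM : U a ≤ M := by
    refine le_of_cent t2 (hM.inv t t2) (h.odd a) (fun u hu => ?_) fun u hu e => LM ?_
    · have := h.conj t a u hu
      rwa [show t • a = a from ht.1.1] at this
    · refine le_iSup₂_of_le (f := fun c (_ : c ∈ Fx Ω ({t} : Set G)) => CU U {t} c) a aF le_rfl
        ⟨hu, fun g hg => ?_⟩
      rw [Set.mem_singleton_iff.1 hg]; exact e
  have Mt : M = ⊤ := by rw [← hM.sup a, sup_of_le_left UM]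
  haveI : IsSimpleGroup G := by
    have := hM.simple
    rw [Mt] at this
    exact (topEquiv (G := G)).isSimpleGroup_congr.1 this
  have dv : q ^ 3 ∣ Nat.card G := cU ▸ card_subgroup_dvd_card (U a)
  have small : ∀ N, 0 < N → N ≤ 175560 → q ^ 3 ∣ N → q ≤ 55 := fun N h0 h1 h2 => by
    have := Nat.le_of_dvd h0 h2
    by_contra hc
    have : 56 ^ 3 ≤ q ^ 3 := Nat.pow_le_pow_left (by omega) 3
    omega
  rcases H73.HKS.jobMR G S S8 S2 So with e | e | ⟨ree, m, r, -, hr, -, nI', hP⟩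
  · rw [e] at dv
    have := small _ (by norm_num) (by norm_num) dv
    interval_cases q <;> first | omega | (norm_num at dv)
  · rw [e] at dv
    have := small _ (by norm_num) (by norm_num) dv
    interval_cases q <;> first | omega | (norm_num at dv)
  refine ⟨Or.inr (Or.inr (Or.inr ⟨q, t, ?_⟩)), fun _ => Or.inr (Or.inr (Or.inr ree))⟩
  have ne : CU U {t} a ≠ ⊥ := fun e => by rw [e, card_bot] at hq; omega
  obtain ⟨-, -, -, cnt, -⟩ := k1.cnt h.toRg hab ht.1 ht.2 ne hq
  have j1 : Jst t a b = {t} := by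
    ext v
    refine ⟨fun hv => uq v ⟨hv.2, ?_⟩, fun hv => ?_⟩
    · obtain ⟨g, rfl⟩ := isConj_iff.1 hv.1
      rw [← ht.2]; exact (MulAut.conj g).orderOf_eq t
    · rw [Set.mem_singleton_iff.1 hv]; exact ⟨IsConj.refl t, ht.1⟩
  have j2 : {x : G | IsConj t x} = {u : G | orderOf u = 2} := by
    ext v
    refine ⟨fun hv => ?_, fun hv => one t v ht.2 hv⟩
    obtain ⟨g, rfl⟩ := isConj_iff.1 hv
    show orderOf _ = 2
    rw [← ht.2]; exact (MulAut.conj g).orderOf_eq t
  rw [j1, j2, Set.ncard_singleton, k1.card h.toRg a, cU] at cnt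
  have rq : r = q := ree_inj (nI'.symm.trans (ree_num (by omega) cnt))
  subst rq
  obtain ⟨⟨g, hg, g', hg', ngg⟩, cz⟩ := hP (U a) t cU
  have lx := lx_empty h.gen
  refine ⟨by rw [lx]; trivial, ht.1, ht.2, ⟨m, hr⟩, fun v _ h1 h2 => uq v ⟨h1, h2⟩, ?_, ?_, ?_, ?_,
    ?_, ?_, ⟨S, by rw [lx]; exact le_top, S8, S2, by rw [lx, relIndex_top_right]; exact So⟩,
    fun v _ hv => ?_⟩
  · rw [cu_empty, cU]
  · rw [cu_empty]; exact hq
  · rw [cu_empty]
    intro g hg g' hg'
    obtain ⟨c, rfl⟩ := (ld.rx g).1 hg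
    obtain ⟨d, rfl⟩ := (ld.rx g').1 hg'
    rw [ld.rel.x_add, ld.rel.x_add, add_comm]
  · rw [cu_empty]
    intro g hg
    obtain ⟨c, rfl⟩ := (ld.rx g).1 hg
    have h0 : (3 : F) = 0 := by
      have := FiniteField.cast_card_eq_zero F
      rw [cF, hr] at this
      push_cast at this
      exact pow_eq_zero_iff (by omega) |>.1 this
    have x0 : x 0 = 1 := by
      have := ld.rel.x_add 0 0
      rw [add_zero] at this
      exact mul_eq_left.1 this
    rw [pow_succ, pow_two, ld.rel.x_add, ld.rel.x_add, ← x0]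
    congr 1
    linear_combination c * h0
  · rw [ZU, cu_empty, eq_bot_iff]
    intro z hz
    exact cz ht.2 z hz.1 (hz.2 t rfl)
  · rw [cu_empty]
    have le : ⁅U a, U a⁆ ≤ U a := commutator_le.2 fun g hg h hh =>
      mul_mem (mul_mem (mul_mem hg hh) (inv_mem hg)) (inv_mem hh)
    have nb : ⁅U a, U a⁆ ≠ ⊥ := fun e => by
      have := commutator_mem_commutator hg hg'
      rw [e, mem_bot, commutatorElement_eq_one_iff_mul_comm] at this
      exact ngg this
    have nU : LX U {t} ⊓ St G a b ≤ normalizer (U a : Set G) := fun l hl => by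
      rw [mem_normalizer_iff]
      intro u
      refine ⟨fun hu => ?_, fun hu => ?_⟩
      · have := h.conj l a u hu
        rwa [show l • a = a from hl.2.1] at this
      · have := h.conj l⁻¹ a _ hu
        rw [show l⁻¹ • a = a from (inv_mem (mem_inf.1 hl).2).1] at this
        simpa [mul_assoc] using this
    have nD : LX U {t} ⊓ St G a b ≤ normalizer ((⁅U a, U a⁆ : Subgroup G) : Set G) := fun l hl => by
      have e := (mem_normalizer_iff_map_conj_eq).1 (nU hl)
      refine (mem_normalizer_iff_map_conj_eq).2 ?_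
      rw [map_commutator, e]
    have d := H22.card_dvd_sub_of_semiregular (LX U {t} ⊓ St G a b) ⁅U a, U a⁆ ⊥ bot_le nD
      (by rw [normalizer_eq_top]; exact le_top) fun l hl l1 z hz => by
        rcases semi l hl z (le hz.1) (hz.2 l rfl) with e | e
        · exact absurd e l1
        · exact e
    rw [card_bot] at d
    have c2 := cT z1
    have d3 : Nat.card ↥⁅U a, U a⁆ ∣ 3 ^ ((2 * m + 1) * 3) := by
      rw [pow_mul, ← hr, ← cU]; exact card_dvd_of_le le
    obtain ⟨j, -, hj⟩ := (Nat.dvd_prime_pow Nat.prime_three).1 d3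
    have j0 : j ≠ 0 := fun e => nb (card_eq_one.1 (by rw [hj, e, pow_zero]))
    by_contra hc
    rw [hj, hr, not_le, Nat.pow_lt_pow_iff_right (by norm_num)] at hc
    have l1 : 3 ^ j ≤ 3 ^ (2 * m) := Nat.pow_le_pow_right (by norm_num) (by omega)
    have l2 : 1 < 3 ^ j := Nat.one_lt_pow j0 (by norm_num)
    have l3 := Nat.le_of_dvd (by omega) d
    rw [cF, hr, pow_succ] at c2
    omega
  · obtain ⟨g, rfl⟩ := isConj_iff.1 (one t v ht.2 hv)
    exact ⟨g, by rw [lx]; trivial, rfl⟩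

end H96.HK
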