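import Cfsg.Agent.H54.YSSpec

/-! STD-SP (row S3129), endgame, symplectic model: slots `BI`, `MI`. -/

set_option autoImplicit false
set_option linter.unusedSectionVars false

namespace H96.YS

open H64.SG (O2 Syl Cz Cs Ns cjs Is2 Inv2 IsO2 fx mem_fx)
open Subgroup H67.SP H64.YE H54.YS
open H67.UA hiding Par Base FV FW
open H54 Matrix
open H86.SPI (hf_comm hf_smul_right')

theorem rank_map {F K ι : Type} [Field F] [Field K] [Fintype ι] [DecidableEq ι] (τ : F →+* K)
    (A : Matrix ι ι F) : (A.map τ).rank = A.rank := by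
  classical
  obtain ⟨L, L', D, rfl⟩ := Matrix.Pivot.exists_list_transvec_mul_diagonal_mul_list_transvec A
  have h1 := TransvectionStruct.det_toMatrix_prod L
  have h2 := TransvectionStruct.det_toMatrix_prod L'
  have h3 : ∀ M : Matrix ι ι F, M.det = 1 → IsUnit (M.map τ).det := fun M hM => by
    rw [← RingHom.mapMatrix_apply, ← RingHom.map_det, hM, map_one]; exact isUnit_one
  rw [Matrix.map_mul, Matrix.map_mul, rank_mul_eq_left_of_isUnit_det _ _ (h3 _ h2),
    rank_mul_eq_right_of_isUnit_det _ _ (h3 _ h1),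
    rank_mul_eq_left_of_isUnit_det _ _ (h2 ▸ isUnit_one),
    rank_mul_eq_right_of_isUnit_det _ _ (h1 ▸ isUnit_one), diagonal_map (map_zero τ),
    rank_diagonal, rank_diagonal]
  simp

variable {n : ℕ} {F : Type} [Field F] [StarRing F] [TrivialStar F] [CharP F 2] [Finite F] [Par n F]

theorem tr' : ∃ φ : XU n F ≃* symplecticGroup (Fin (kk n)) F,
    (∀ k, Module.finrank F (spMov (φ k)) = rk k) ∧ ∀ k, IsAltType (φ k) ↔ Alt k := by
  obtain ⟨φ, A, h1, h2, -⟩ := H54.SPF.tr (n := n) (F := F)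
  refine ⟨φ, fun k => ?_, fun k => ⟨fun a v => by rw [hf_comm, ← h2, ← h1]; exact a _, fun a v => by
      obtain ⟨v, rfl⟩ := A.surjective v
      rw [h1, h2, hf_comm]; exact a v⟩⟩
  have : spMov (φ k) = (LinearMap.range (mt k - 1).mulVecLin).map A.toLinearMap := by
    ext w
    constructor
    · rintro ⟨v, rfl⟩
      obtain ⟨v, rfl⟩ := A.surjective v
      exact ⟨_, ⟨v, rfl⟩, by
        rw [spN_apply, h1, mulVecLin_apply, sub_mulVec, one_mulVec, map_sub]; rfl⟩
    · rintro ⟨_, ⟨v, rfl⟩, rfl⟩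
      exact ⟨A v, by rw [spN_apply, h1, mulVecLin_apply, sub_mulVec, one_mulVec, map_sub]; rfl⟩
  rw [this, LinearEquiv.finrank_map_eq]; rfl

theorem alt_of_ev {y : XU n F} (h : y * y = 1) (h1 : ∀ i, hf (ac y (ev i)) (ev i) = 0) : Alt y := by
  let S : Submodule F (Vn n F) :=
    { carrier := {v | hf (ac y v) v = 0}
      add_mem' := fun {a b} ha hb => by
        have e : hf (ac y b) a = hf (ac y a) b := by
          rw [hf_ac_left, inv_eq_of_mul_eq_one_right h, hf_comm]
        simp only [Set.mem_ofPred_eq] at ha hb ⊢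
        rw [ac_add, hf_add_left, hf_add_right, hf_add_right, ha, hb, e, zero_add, add_zero,
          CharTwo.add_self_eq_zero]
      zero_mem' := by simp
      smul_mem' := fun c a ha => by
        simp only [Set.mem_ofPred_eq] at ha ⊢
        rw [ac_smul, hf_smul_left, hf_smul_right', ha, mul_zero, mul_zero] }
  intro v
  change v ∈ S
  rw [pi_eq_sum_univ v]
  refine S.sum_mem fun i _ => S.smul_mem _ ?_
  have : (fun j => if i = j then (1 : F) else 0) = ev i := funext fun j => by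
    rw [ev_apply]; exact if_congr eq_comm rfl rfl
  rw [this]
  exact h1 i

theorem jobMI : JobMI := by
  intro n F _ _ _ _ _ _ _ _ _ _ K _ _ _ _ _ _ _ _ _ _ x y hy
  obtain ⟨φ, r1, a1⟩ := tr' (n := n) (F := F)
  obtain ⟨ψ, r2, a2⟩ := tr' (n := n) (F := K)
  have h2 : ψ y ^ 2 = 1 := by rw [pow_two, ← map_mul, hy, map_one]
  have hle := (sqZero_iff_sq.2 h2).finrank_le
  obtain ⟨g, g2, gr, ga⟩ : ∃ g : symplecticGroup (Fin (kk n)) F, g ^ 2 = 1 ∧
      Module.finrank F (spMov g) = rk y ∧ (IsAltType g ↔ Alt y) := by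
    by_cases ha : Alt y
    · obtain ⟨j, hj⟩ := ((a2 y).2 ha).even_finrank
      obtain ⟨g, b1, b2, b3⟩ := exists_inv_alt (l := Fin (kk n)) (F := F) (k := j) (by omega)
      exact ⟨g, b1, by rw [b2, ← r2]; omega, iff_of_true b3 ha⟩
    · have h0 : 1 ≤ Module.finrank K (spMov (ψ y)) := by
        refine Nat.pos_of_ne_zero fun e => ha ((a2 y).1 fun v => ?_)
        have h3 := spN_mem (ψ y) v
        rw [Submodule.finrank_eq_zero.1 e, Submodule.mem_bot, spN_apply, sub_eq_zero] at h3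
        rw [h3]
        exact spB_isAlt v
      obtain ⟨g, b1, b2, b3⟩ := exists_inv_not_alt (l := Fin (kk n)) (F := F) h0 hle
      exact ⟨g, b1, by rw [b2, r2], iff_of_false b3 ha⟩
  obtain ⟨u, rfl⟩ := φ.surjective g
  have hu : u * u = 1 := φ.injective (by rw [map_mul, ← pow_two, g2, map_one])
  have hu' : iT n x u * iT n x u = 1 := by rw [← map_mul, hu, map_one]
  have e1 : rk (iT n x u) = rk u := by
    rw [rk, rk, ← rank_map x.φ (mt u - 1), mt_bc, Matrix.map_sub _ (map_sub x.φ),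
      Matrix.map_one _ (map_zero _) (map_one _)]
  have e2 : Alt (iT n x u) ↔ Alt u := by
    refine ⟨fun a v => x.φ.injective ?_, fun a => alt_of_ev hu' fun i => ?_⟩
    · rw [← hf_vx, ← ac_iT, a, map_zero]
    · rw [← vx_ev n x, ac_iT, hf_vx, a, map_zero]
  obtain ⟨w, hw⟩ := isConj_iff.1 ((FW.rkc _ _ hu' hy).2
    ⟨by rw [e1, ← r1, gr], by rw [e2, ← a1, ga]⟩)
  exact ⟨w, u, hw.symm⟩

theorem jobBI : JobBI := by
  intro n F _ _ _ _ _ p _ _ _ _ K _ _ _ _ _ _ _ _ _ _ x y hy
  obtain ⟨ψ, -, -⟩ := tr' (n := n) (F := K)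
  have h2 : ψ y ^ 2 = 1 := by rw [pow_two, ← map_mul, hy.1, map_one]
  have hle := (sqZero_iff_sq.2 h2).finrank_le
  have hc := (sqZero_iff_sq.2 h2).card_centralizer rfl
  rw [Fintype.card_fin] at hle hc
  generalize Module.finrank K (spMov (ψ y)) = s at hle hc
  obtain ⟨d, hd⟩ := Nat.exists_eq_add_of_le hle
  have h3 : 3 ≤ s + d := by have := p.five; rw [← hd, kk]; omega
  rw [show kk n - s = d by omega, spOrder] at hc
  letI := Fintype.ofFinite F
  obtain ⟨f, -, hf⟩ := FiniteField.card F 2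
  rw [← Nat.card_eq_fintype_card] at hf
  obtain ⟨a, ha⟩ : ∃ a, s * (s + 1) = 2 * a := (Nat.even_mul_succ_self s).two_dvd
  rw [ha, Nat.mul_div_cancel_left _ two_pos, x.card, hf] at hc
  have hdv : 2 ^ (f * (2 * (a + 2 * s * d + d ^ 2))) ∣ Nat.card (centralizer {ψ y}) := by
    rw [hc]
    refine Dvd.dvd.mul_right ?_ _
    rw [pow_mul, pow_mul, pow_add, ← mul_assoc]
    exact Dvd.intro _ rfl
  haveI : Fact (Nat.Prime 2) := ⟨Nat.prime_two⟩
  obtain ⟨P, hP⟩ := Sylow.exists_subgroup_card_pow_prime 2 hdv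
  have inj : Function.Injective (ψ.symm.toMonoidHom.comp (centralizer {ψ y}).subtype) :=
    ψ.symm.injective.comp Subtype.val_injective
  have hc' := (card_map_of_injective (K := P) inj).trans hP
  refine ⟨P.map (ψ.symm.toMonoidHom.comp (centralizer {ψ y}).subtype), ?_, IsPGroup.of_card hc', ?_⟩
  · rintro _ ⟨c, -, rfl⟩
    refine mem_fx.2 (ψ.injective ?_)
    have := mem_centralizer_singleton_iff.1 c.2
    simp only [MulAut.conj_apply, map_mul, map_inv, MonoidHom.comp_apply, MulEquiv.coe_toMonoidHom,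
      MulEquiv.apply_symm_apply, coe_subtype]
    rw [← this, mul_inv_cancel_right]
  · rw [hc', bq, hf, ← pow_mul, hd]
    refine Nat.pow_lt_pow_right one_lt_two (Nat.mul_lt_mul_of_pos_left ?_ f.2)
    rcases Nat.lt_or_ge d 2 with h | h
    · interval_cases d <;> nlinarith
    · nlinarith [Nat.zero_le s, Nat.zero_le (s * d)]

end H96.YS
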