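import Cfsg.Agent.H67.SWDef
import Cfsg.Agent.H67.SAJA

/-! STD-SP (row S3129), wreath endgame: slot `N2`. -/

set_option autoImplicit false

namespace H96.SW

open H64.SG (Cs Ns Is2 UF)
open H67.SA (cm)
open H59.SO Subgroup H98

universe u

variable {G : Type u} [Group G]

/-- The stabiliser of the chain `S > Z > 1`. -/
def ch (S Z : Subgroup G) : Subgroup G where
  carrier := {g | (∀ x ∈ S, cm g x ∈ Z) ∧ g ∈ Cs Z}
  one_mem' := ⟨fun x _ => by simp [cm], one_mem _⟩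
  mul_mem' := fun {g h} a b => ⟨fun x hx => by
    rw [show cm (g * h) x = g * cm h x * g⁻¹ * cm g x by unfold cm; group,
      ← a.2 _ (b.1 x hx), mul_inv_cancel_right]
    exact mul_mem (b.1 x hx) (a.1 x hx), mul_mem a.2 b.2⟩
  inv_mem' := fun {g} a => ⟨fun x hx => by
    rw [show cm g⁻¹ x = g⁻¹ * ((cm g x)⁻¹ * g) by unfold cm; group,
      a.2 _ (inv_mem (a.1 x hx)), inv_mul_cancel_left]
    exact inv_mem (a.1 x hx), inv_mem a.2⟩

theorem ch_odd {S Z : Subgroup G} (hZ : IsPGroup 2 Z) {g : G} (h : g ∈ ch S Z)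
    (ho : Odd (orderOf g)) : g ∈ Cs S := fun x hx => by
  have c := h.1 x hx
  have k : ∀ j : ℕ, g ^ j * x = cm g x ^ j * x * g ^ j := fun j => by
    induction j with
    | zero => simp
    | succ j ih =>
      have e : g * cm g x ^ j = cm g x ^ j * g := (h.2 _ (pow_mem c j)).symm
      rw [pow_succ', mul_assoc, ih, ← mul_assoc, ← mul_assoc, e, pow_succ (cm g x)]
      generalize cm g x ^ j = y
      generalize g ^ j = z
      unfold cm
      group
  have h1 := k (orderOf g)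
  rw [pow_orderOf_eq_one, one_mul, mul_one, eq_comm, mul_eq_right] at h1
  obtain ⟨j, hj⟩ := hZ ⟨_, c⟩
  have h2 : cm g x = 1 := H64.SG.Is2.eq_one ⟨j, congrArg Subtype.val hj⟩
    (ho.of_dvd_nat (orderOf_dvd_of_pow_eq_one h1))
  exact (mul_inv_eq_iff_eq_mul.1 (mul_inv_eq_one.1 h2)).symm

theorem ch_nor [Finite G] {S Z : Subgroup G} {t : G} (h1 : t ∈ Ns S) (h2 : t ∈ Ns Z) :
    t ∈ Ns (ch S Z) := mem_normalizer_of_cj_le (by
  rintro _ ⟨g, a, rfl⟩
  change t * g * t⁻¹ ∈ _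
  refine ⟨fun x hx => ?_,
    conj_mem_of_mem_normalizer (normalizer_le_normalizer_centralizer _ h2) a.2⟩
  rw [show cm (t * g * t⁻¹) x = t * cm g (t⁻¹ * x * t) * t⁻¹ by unfold cm; group]
  exact conj_mem_of_mem_normalizer h2 (a.1 _ (conj_mem_of_mem_normalizer' h1 hx)))

theorem jobN2 : H67.SW.JobN2.{u} := by
  intro X _ _ U D A w G _ _ e t b e₁ e₂ c g x x1 x2
  have tt := b.inv.1
  have hU : IsPGroup 2 U := w.syl.2.1
  have hZ := c.isP_two (hU.to_le (inf_le_left : U ⊓ Cs U ≤ U))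
  have tN := ch_nor (c.t_mem_Ns tt U) (c.t_mem_Ns tt (U ⊓ Cs U))
  refine ⟨H67.SA.jobK11 g.uf (IsConj.refl t) g.uf.mem (ch _ _ ⊔ zpowers t)
    (mem_sup_right (mem_zpowers t)) (fun h hh ho => ?_) (mem_sup_left ⟨x1, x2⟩),
    ch_odd hZ ⟨x1, x2⟩⟩
  refine g.cuD (centralizer_le (t := (two e₁ e₂ U : Set G))
    ((map_mono w.le.1).trans (c.map_le U)) (ch_odd hZ (H64.SG.mem_of_sq_mem ?_ ho) ho))
  rcases (H67.SA.mem_sup_zp tN tt).1 hh with k | k
  · exact mul_mem k k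
  · have := mul_mem k (conj_mem_of_mem_normalizer tN k)
    rwa [show h * t * (t * (h * t) * t⁻¹) = h * (t * t) * h by group, tt, mul_one] at this

end H96.SW
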