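import Cfsg.Agent.H78.YUDef
import Cfsg.Agent.H84.SpBD
import Cfsg.Agent.H9.SPGBN
import Cfsg.Agent.H54.SPFW

/-! STD-SP (row S3129), endgame, unitary model: slot `DC`. -/

set_option autoImplicit false
set_option linter.unusedSectionVars false

namespace H96.YU

open H67.UA hiding Par Base FV FW
open H67.SP Matrix
open H86.SPI (hf_comm hf_self)

theorem jobDC : H78.YU.JobDC := by
  intro n F _ _ _ _ _ p b _ _ u hu
  have hk := H54.SPF.two_kk n F
  have hr := H9.SPG.two_rk hu
  let W := LinearMap.range (mt u - 1).mulVecLin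
  have hW : ∀ w, w ∈ W ↔ ∃ y, ac u y + y = w := fun w => exists_congr fun y => by
    rw [mulVecLin_apply, sub_mulVec, one_mulVec, CharTwo.sub_eq_add]; rfl
  have hd : Module.finrank F W = rk u := rfl
  let B := Module.finBasisOfFinrankEq F W hd
  let ι : Fin (rk u) → Fin (n + 1) := fun i => ⟨i.val, by omega⟩
  obtain ⟨g, hg⟩ := FW.witt (rk u) (fun i => (B i : Vn n F)) (fun i => ev (ι i))
    (B.linearIndependent.map' W.subtype W.ker_subtype)
    (H54.SPF.li_ev fun i j e => Fin.ext (congrArg Fin.val e :)) fun i j => by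
      obtain ⟨y, h1⟩ := (hW _).1 (B i).2
      obtain ⟨y', h2⟩ := (hW _).1 (B j).2
      have e : hf (ac u y) y' = hf y (ac u y') := by
        rw [hf_ac_left, inv_eq_of_mul_eq_one_right hu]
      rw [← h1, ← h2, H9.SPG.hf_ev_ev (by simp only [ι]; omega), hf_add_left, hf_add_right,
        hf_add_right, hf_ac, e]
      linear_combination (hf y y' + hf y (ac u y')) * two0 F
  have hm : g * u * g⁻¹ ∈ Mk n F (kk n) := (FV.mem_M _ _).2 fun v => by
    have h1 : ac (g * u * g⁻¹) v + v = ac g (ac u (ac g⁻¹ v) + ac g⁻¹ v) := by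
      rw [ac_add, ac_ac_inv, ac_mul, ac_mul]
    have h2 : ∀ w : W, ac g w ∈ H54.SPF.WS n F (kk n) := fun w => by
      have h3 := B.mem_span w
      induction h3 using Submodule.span_induction with
      | mem x hx =>
        obtain ⟨i, rfl⟩ := hx
        rw [hg]
        intro j hj
        rw [ev_apply, if_neg]
        rintro rfl
        simp only [ι] at hj
        omega
      | zero => simp
      | add x y _ _ hx hy => rw [Submodule.coe_add, ac_add]; exact add_mem hx hy
      | smul a x _ hx => rw [Submodule.coe_smul, ac_smul]; exact Submodule.smul_mem _ _ hx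
    rw [h1]
    exact h2 ⟨_, (hW _).2 ⟨_, rfl⟩⟩
  have h1 : g * u * g⁻¹ * (g * u * g⁻¹) = 1 := by
    rw [conj_mul, hu, mul_one, mul_inv_cancel]
  obtain ⟨d, hd⟩ := H84.SpBD.bd.ex _ h1
  have hw := H84.SpBD.mk_dg (by omega) hm d hd
  have hT : TT d * TT d = (1 : XU n F) := Tc_mul_self (hf_self d) (star_one F)
  refine ⟨g⁻¹, g * u * g⁻¹ * TT d, d, ?_, (FV.mem_M _ _).1 (mul_mem hm (H84.SpBD.tt_mem _ d hw)),
    (H84.SpBD.dg_alt _ d h1 hd).1, hw, fun a => eq_of_hf fun z => ?_, fun h0 v => ?_⟩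
  · rw [mul_assoc _ (TT d), hT]; group
  · have := hd z
    rw [ac_mul, ac_mul, hf_ac_left, a] at this
    rw [hf_comm, hf_zero_left]
    exact (pow_eq_zero_iff two_ne_zero).1 this.symm
  · have := hd (ac g v)
    rwa [ac_mul, ac_mul, ac_inv_ac, hf_ac, h0, hf_zero_right, zero_pow two_ne_zero] at this

end H96.YU
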