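import Cfsg.Agent.H78.YUDef

/-! STD-SP (row S3129), endgame, unitary model: slot `H1`. -/

set_option autoImplicit false
set_option linter.unusedSectionVars false

namespace H96.YU

open H67 H67.UA H78.YU
open H67.SA (la)
open H59.SO (AutOn)
open H59.UM (hf0L exists_tr)

variable {m : ℕ} {K : Type} [Field K] [StarRing K] [CharP K 2] [Finite K] [Par m K]

theorem uq {x x' : Vn m K} {d d' : K} (h : Ok (ev 0) x d) (h' : Ok (ev 0) x' d')
    (e : hf x (ev (la m)) = 0) (e' : hf x' (ev (la m)) = 0)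
    (k : EE (ev 0) x d = EE (ev 0) x' d') : x = x' ∧ d = d' := by
  obtain ⟨a, h1, h2⟩ := EE_inj (ev_ne 0) h h' k
  have : a = 0 := by rwa [h1, hf_add_left, e, hf_smul_left, hf0L, zero_add, mul_one] at e'
  subst this
  exact ⟨by rw [h1, zero_smul, add_zero], by rw [h2]; simp⟩

theorem nf {g : XU m K} (hg : g ∈ Q0 m K) :
    ∃ x d, Ok (ev 0) x d ∧ hf x (ev (la m)) = 0 ∧ g = EE (ev 0) x d := by
  obtain ⟨x, c, h, rfl⟩ := (FV.mem_Q g).1 hg
  refine ⟨x + hf x (ev (la m)) • ev 0, c + tr (hf x (ev (la m))), ⟨h.iso, ?_, ?_⟩, ?_, ?_⟩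
  · rw [hf_add_left, h.perp, hf_smul_left, h.iso, mul_zero, add_zero]
  · have := h.tr
    simp only [hf_add_left, hf_add_right, hf_smul_left, hf_smul_right, h.perp, hf_symm h.perp,
      show hf (ev 0 : Vn m K) (ev 0) = 0 from h.iso, tr, star_add, star_star] at this ⊢
    linear_combination this + (hf x (ev (la m)) + star (hf x (ev (la m)))) * two0 K
  · rw [hf_add_left, hf_smul_left, hf0L, mul_one, CharTwo.add_self_eq_zero]
  · rw [EE_shift, add_assoc, CharTwo.add_self_eq_zero, add_zero]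

theorem exok {y : Vn m K} (h : hf y (ev 0) = 0) : ∃ c, Ok (ev 0) y c :=
  (exists_tr (star_hf y y)).imp fun _ hc => ⟨H59.UM.iso0, h, hc⟩

theorem jobH1 : JobH1 := by
  intro m K _ _ _ _ _ θ hθ hZ
  have mQ : ∀ {y : Vn m K} {c}, Ok (ev 0) y c → EE (ev 0) y c ∈ Q0 m K := fun h =>
    (FV.mem_Q _).2 ⟨_, _, h, rfl⟩
  have hT : ∀ {c : K}, star c = c → θ (Tc c (ev 0)) = Tc c (ev 0) := fun h =>
    hZ _ ((FV.mem_Z _).2 ⟨_, h, rfl⟩)
  obtain ⟨f, f0, fL, hf1⟩ : ∃ f : Vn m K → Vn m K, (∀ y, hf (f y) (ev 0) = 0) ∧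
      (∀ y, hf (f y) (ev (la m)) = 0) ∧ ∀ y c, Ok (ev 0) y c →
        ∃ d, Ok (ev 0) (f y) d ∧ θ (EE (ev 0) y c) = EE (ev 0) (f y) d := by
    have : ∀ y : Vn m K, ∃ x : Vn m K, hf x (ev 0) = 0 ∧ hf x (ev (la m)) = 0 ∧
        ∀ c, Ok (ev 0) y c → ∃ d, Ok (ev 0) x d ∧ θ (EE (ev 0) y c) = EE (ev 0) x d := fun y => by
      by_cases h : hf y (ev 0) = 0
      · obtain ⟨c0, h0⟩ := exok h
        obtain ⟨x, d, h1, h2, h3⟩ := nf (hθ.bij.mapsTo (mQ h0))
        refine ⟨x, h1.perp, h2, fun c hc => ?_⟩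
        have hs : star (c0 + c) = c0 + c := tr_eq_zero.1 (by
          have a := h0.tr
          have b := hc.tr
          simp only [tr, star_add] at a b ⊢
          linear_combination a + b + hf y y * two0 K)
        have o := ok_zero (H59.UM.iso0 (n := m) (K := K)) hs
        have e : EE (ev 0) y c = EE (ev 0) y c0 * Tc (c0 + c) (ev 0) := by
          rw [EE_mul h0 o, add_zero, hf_zero_left, add_zero, ← add_assoc, CharTwo.add_self_eq_zero,
            zero_add]
        have := h1.add o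
        rw [add_zero] at this
        exact ⟨_, this, by rw [e, hθ.mul _ (mQ h0) _ (mQ o), hT hs, h3, EE_mul h1 o, add_zero]⟩
      · exact ⟨0, by simp, by simp, fun c hc => absurd hc.perp h⟩
    choose f h1 h2 h3 using this
    exact ⟨f, h1, h2, h3⟩
  have sq : ∀ {y : Vn m K} {c}, Ok (ev 0) y c →
      EE (ev 0) y c * EE (ev 0) y c = Tc (hf y y) (ev 0) := fun h => by
    rw [EE_mul h h, v_add_self, CharTwo.add_self_eq_zero, zero_add]
  have nr : ∀ y, hf y (ev 0) = 0 → hf (f y) (f y) = hf y y := fun y h => by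
    obtain ⟨c, hc⟩ := exok h
    obtain ⟨d, h1, h2⟩ := hf1 y c hc
    have := hθ.mul _ (mQ hc) _ (mQ hc)
    rw [sq hc, hT (star_hf y y), h2, sq h1] at this
    exact (uq (ok_zero H59.UM.iso0 (star_hf _ _)) (ok_zero H59.UM.iso0 (star_hf _ _)) (by simp) (by simp)
      this).2.symm
  have ad : ∀ y y', hf y (ev 0) = 0 → hf y' (ev 0) = 0 → f (y + y') = f y + f y' :=
    fun y y' h h' => by
      obtain ⟨c, hc⟩ := exok h
      obtain ⟨c', hc'⟩ := exok h'
      obtain ⟨d, h1, h2⟩ := hf1 y c hc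
      obtain ⟨d', h1', h2'⟩ := hf1 y' c' hc'
      obtain ⟨d'', h3, h4⟩ := hf1 _ _ (hc.add hc')
      have := hθ.mul _ (mQ hc) _ (mQ hc')
      rw [EE_mul hc hc', h4, h2, h2', EE_mul h1 h1'] at this
      exact (uq h3 (h1.add h1') (fL _) (by rw [hf_add_left, fL, fL, add_zero]) this).1
  have tt : ∀ y y', hf y (ev 0) = 0 → hf y' (ev 0) = 0 → tr (hf (f y) (f y')) = tr (hf y y') :=
    fun y y' h h' => by
      have := nr (y + y') (by rw [hf_add_left, h, h', add_zero])
      rw [ad y y' h h'] at this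
      simp only [hf_add_left, hf_add_right, nr y h, nr y' h'] at this
      simp only [tr, star_hf]
      linear_combination this
  refine ⟨f, f0, fun y c h => ⟨nr y h.perp, hf1 y c h⟩,
    fun y y' h h' => ⟨ad y y' h h', tt y y' h h'⟩, fun a y ha h => ?_⟩
  have hay : hf (a • y) (ev 0) = 0 := by rw [hf_smul_left, h, mul_zero]
  obtain ⟨s, hs⟩ := H59.UM.dual (u := ev 0) (x := f (a • y) + a • f y) fun w hw => by
    obtain ⟨c, hc⟩ := exok hw
    obtain ⟨g, hg, e⟩ := hθ.bij.surjOn (mQ hc)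
    obtain ⟨y', c', h', rfl⟩ := (FV.mem_Q g).1 hg
    obtain ⟨d, h1, h2⟩ := hf1 y' c' h'
    obtain ⟨b, rfl, -⟩ := EE_inj (ev_ne 0) h1 hc (h2.symm.trans e)
    have t1 := tt y' _ h'.perp hay
    have t2 := tt y' _ h'.perp h
    simp only [hf_add_left, hf_add_right, hf_smul_left, hf_smul_right, hf_symm (f0 _), ha, tr,
      star_add, star_mul', mul_zero, add_zero] at t1 t2 ⊢
    linear_combination t1 + a * t2 + (a * hf y' y + a * star (hf y' y)) * two0 K
  have h0 : s = 0 := by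
    have := congrArg (hf · (ev (la m))) hs
    simp only [hf_add_left, hf_smul_left, fL, hf0L, mul_zero, add_zero, mul_one] at this
    exact this.symm
  rw [h0, zero_smul] at hs
  rw [← add_zero (f (a • y)), ← v_add_self (a • f y), ← add_assoc, hs, zero_add]

end H96.YU
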