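import Cfsg.Agent.H74.RESpec
import Cfsg.Agent.H14.FEKit
import Cfsg.Agent.S1910

/-! Tower NF (S1308), chapter RE: the local data of a non-full edge. -/

set_option autoImplicit false

namespace H96.RESet

open Cfsg Subgroup H14 H98 H1.Gold H31.S2 H14.GC H14.FE H14.NF H74.RE
open scoped commutatorElement

universe u

variable {G : Type u} [Group G]

theorem te [Finite G] {Q : Subgroup G} (hQ : IsTightlyEmbedded Q) {g t r : G} (ht : t ∈ cj g Q)
    (t1 : t ≠ 1) (t2 : t * t = 1) (c : r * t = t * r) : r ∈ normalizer (cj g Q : Set G) := by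
  by_contra h
  have h1 : g⁻¹ * r * g ∉ normalizer (Q : Set G) := fun k => h (by
    rw [← cj_normalizer]; exact mem_cj.2 k)
  have h2 := hQ.2 _ h1
  have m : g⁻¹ * t * g ∈ Q ⊓ cj (g⁻¹ * r * g) Q := ⟨mem_cj.1 ht, mem_cj.2 (by
    have : (g⁻¹ * r * g)⁻¹ * (g⁻¹ * t * g) * (g⁻¹ * r * g) = g⁻¹ * t * g := by
      calc _ = g⁻¹ * r⁻¹ * (t * r) * g := by group
        _ = g⁻¹ * t * g := by rw [← c]; group
    rw [this]; exact mem_cj.1 ht)⟩
  have o : orderOf (g⁻¹ * t * g) = 2 := by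
    have : Fact (Nat.Prime 2) := ⟨Nat.prime_two⟩
    refine orderOf_eq_prime ?_ fun e => t1 ?_
    · calc (g⁻¹ * t * g) ^ 2 = g⁻¹ * (t * t) * g := by rw [pow_two]; group
        _ = 1 := by rw [t2]; group
    · calc t = g * (g⁻¹ * t * g) * g⁻¹ := by group
        _ = 1 := by rw [e]; group
  have d := orderOf_dvd_natCard _ m
  rw [o] at d
  exact (Nat.not_even_iff_odd.2 h2) (even_iff_two_dvd.2 d)

theorem el_comm {R : Subgroup G} (h : El R) {a b : G} (ha : a ∈ R) (hb : b ∈ R) :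
    a * b = b * a := by
  have e1 : a⁻¹ = a := inv_eq_of_mul_eq_one_right (h a ha)
  have e2 : b⁻¹ = b := inv_eq_of_mul_eq_one_right (h b hb)
  have e3 : (a * b)⁻¹ = a * b := inv_eq_of_mul_eq_one_right (h _ (R.mul_mem ha hb))
  rw [mul_inv_rev, e1, e2] at e3
  exact e3.symm

theorem set : SET.{u} := by
  intro G _ _ K T g ne elT four hR
  have : Fact (Nat.Prime 2) := ⟨Nat.prime_two⟩
  have hQ : IsTightlyEmbedded (cen K) := ne.std.2.1
  have out := ne.out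
  have syl := ne.syl
  have nf := ne.nf
  have T1 := ne.ne
  generalize cen K = Q at hQ out syl nf hR
  have TQ1 : T ≤ cj g Q := syl.le.trans inf_le_left
  have TN : T ≤ nor Q := syl.le.trans inf_le_right
  obtain ⟨P, hP, TP, hS⟩ := exists_inv_syl syl.isPGroup TN
  obtain ⟨d1, -, d3, -, ⟨e⟩⟩ := Cfsg.Agent.S1910.result Q hQ g out T T1 syl.le
    ⟨syl.isPGroup, syl.not_dvd_relIndex⟩ P TP hP.le ⟨hP.isPGroup, hP.not_dvd_relIndex⟩
  have elR := hR _ hS
  have PN : P ≤ nor Q := hP.le.trans (sup_le le_normalizer TN)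
  have PT : P ⊓ cj g Q = T := syl.eq_of_le (hP.isPGroup.to_le inf_le_left) (le_inf TP TQ1)
    (le_inf inf_le_right (inf_le_left.trans PN))
  have c0 : P ⊓ normalizer (T : Set G) ⊓ Q ≤ cen T :=
    le_centralizer_iff.1 (commutator_eq_bot_iff_le_centralizer.1 d3)
  have c1 : ∀ t ∈ T, t ≠ 1 → ∀ r ∈ P ⊓ Q, r * t = t * r → r ∈ cen T := fun t ht t1 r hr c => by
    have k1 := te hQ (TQ1 ht) t1 (elT t ht) c
    have k2 : r ∈ normalizer ((P ⊓ cj g Q : Subgroup G) : Set G) :=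
      le_normalizer_inf (H := zpowers r) ((zpowers_le.2 hr.1).trans le_normalizer)
        (zpowers_le.2 k1) (mem_zpowers r)
    rw [PT] at k2
    exact c0 ⟨⟨hr.1, k2⟩, hr.2⟩
  have ce : P ⊓ Q ⊓ cen T = P ⊓ normalizer (T : Set G) ⊓ Q := le_antisymm
    (fun r hr => ⟨⟨hr.1.1, centralizer_le_normalizer _ hr.2⟩, hr.1.2⟩)
    fun r hr => ⟨⟨hr.1.1, hr.2⟩, c0 hr⟩
  have cd : Nat.card ↥(P ⊓ Q ⊓ cen T) = Nat.card T := by
    rw [ce]; exact Nat.card_congr e.toEquiv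
  have nR : T ≤ nor (P ⊓ Q) := le_normalizer_inf (TP.trans le_normalizer) TN
  have ex : ∃ y ∈ P ⊓ Q, y ∉ cen T := by
    by_contra h
    push Not at h
    rw [inf_eq_left.2 h] at cd
    have k := (hS.cj g).of_card_ge syl.isPGroup TQ1 (by rw [card_cj, cd])
    refine k.not_dvd_relIndex ?_
    rw [← relIndex_mul_relIndex T (cj g Q ⊓ nor Q) (cj g Q) syl.le inf_le_left]
    exact nf.mul_left _
  obtain ⟨y, hy, yc⟩ := ex
  have mem : ∀ t ∈ T, ⁅y, t⁆ ∈ P ⊓ Q ⊓ cen T := fun t ht => by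
    have m : ⁅y, t⁆ ∈ P ⊓ Q := comm_mem_left hy (nR ht)
    refine ⟨m, ?_⟩
    by_cases t1 : t = 1
    · rw [t1, commutatorElement_one_right]; exact one_mem _
    refine c1 t ht t1 _ m ?_
    have m' : t * y * t⁻¹ ∈ P ⊓ Q := conj_mem_of_mem_normalizer (nR ht) hy
    have e1 : y⁻¹ = y := inv_eq_of_mul_eq_one_right (elR y hy)
    have e2 : t⁻¹ = t := inv_eq_of_mul_eq_one_right (elT t ht)
    have e3 := el_comm elR hy m'
    rw [commutatorElement_def, e1]
    calc y * t * y * t⁻¹ * t = y * (t * y * t⁻¹) * t := by group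
      _ = t * y * t⁻¹ * y * t := by rw [e3]
      _ = t * (y * t * y * t⁻¹) := by rw [e2]; group
  refine ⟨P ⊓ Q, TN, hS, elR, elT, four, nR, fun t ht hq => ?_, c1, y, hy, yc, fun r hr hc => ?_⟩
  · exact mem_bot.1 (d1 ▸ (⟨ht, hq⟩ : t ∈ T ⊓ Q))
  · let f : T → ↥(P ⊓ Q ⊓ cen T) := fun t => ⟨⁅y, t⁆, mem t t.2⟩
    have inj : Function.Injective f := fun t s h => by
      have h1 : ⁅y, (t : G)⁆ = ⁅y, (s : G)⁆ := congrArg Subtype.val h
      by_contra hne
      refine yc (c1 ((s : G)⁻¹ * t) (T.mul_mem (T.inv_mem s.2) t.2)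
        (fun k => hne (Subtype.ext (inv_mul_eq_one.1 k).symm)) y hy ?_)
      rw [commutatorElement_def, commutatorElement_def] at h1
      calc y * ((s : G)⁻¹ * t) = (s : G)⁻¹ * (y * s * y⁻¹ * (s : G)⁻¹)⁻¹ * y * t := by group
        _ = (s : G)⁻¹ * t * y := by rw [← h1]; group
    obtain ⟨t, ht⟩ := (inj.bijective_of_nat_card_le cd.le).2 ⟨r, hr, hc⟩
    exact ⟨t, t.2, congrArg Subtype.val ht⟩

end H96.RESet
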