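import Cfsg.Agent.H96.QUTool
import Cfsg.Agent.H51.GoldHub
import Cfsg.Agent.H86.GUse
import Cfsg.Agent.H11.QTC2
import Cfsg.Agent.H52.LocA

/-! Tower QU, job JKit: the standing facts. -/

set_option autoImplicit false
set_option linter.style.haveILetI false

namespace H96.H97.QU

universe u

section AG

open Cfsg Subgroup H14 _root_.H98 H1.Gold H86.G75

theorem se_of_ag {G : Type u} [Group G] [Finite G] [IsSimpleGroup G] (hn : ¬ IsMulCommutative G) (T : Sylow 2 G)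
    {M Q : Subgroup G} (hQ : IsPGroup 2 Q) (hQ1 : Q ≠ ⊥) (e : M = nor Q) (hM : M ≠ ⊤) (hT : (T : Subgroup G) ≤ M)
    (uq : ∀ X : Subgroup G, X ≠ ⊥ → X ≤ T → (T : Subgroup G) ≤ nor X → nor X ≤ M)
    (h : ∀ D ∈ agConjFamily (T : Subgroup G), nor D ≤ M) : ∃ H : Subgroup G, IsStronglyEmbedded H := by
  have h4 : M ≤ nor (Q ⊓ cen Q) := le_normalizer_inf e.le (le_normalizer_centralizer e.le)
  have h5 : IsStronglyClosed (Q ⊓ cen Q) (T : Subgroup G) := by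
    have hUT : Q ⊓ cen Q ≤ T := (isSyl_sylow T).le_of_le_normalizer hQ.to_inf_left le_top (hT.trans h4)
    refine ⟨hUT, fun x hx g hg => ?_⟩
    obtain ⟨m, hm, e⟩ := ag_fusion T h (X := zpowers x) (zpowers_le.2 (hUT hx)) (g := g)
      (by rw [cj, MonoidHom.map_zpowers]; exact zpowers_le.2 hg)
    rw [← e x (mem_zpowers x)]
    exact conj_mem_of_mem_normalizer (h4 hm) hx
  rcases H51.thmG _ G hn (Nat.lt_succ_self _) _ (sc_of_stronglyClosed T h5)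
    ⟨⟨fun a b => Subtype.ext (mem_centralizer_iff.1 b.2.2 _ a.2.1)⟩⟩
    (inf_centralizer_ne_bot hQ hQ le_normalizer hQ1) with h6 | ⟨T', hT', he, hc⟩
  · exact h6
  obtain ⟨g, -, e1⟩ := hT'.exists_cj_eq (isSyl_sylow T)
  have h7 : (T : Subgroup G) ≤ cen (T : Subgroup G) := by
    rw [← e1, cen, ← cj_centralizer]
    exact cj_mono g (le_cen_self_of_elem he)
  have h8 : ∀ X : Subgroup G, X ≠ ⊥ → X ≤ T → nor X ≤ M := fun X e1 e2 =>
    uq X e1 e2 (le_normalizer_of_le_centralizer (h7.trans (centralizer_anti e2)))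
  have h9 : (T : Subgroup G) ≠ ⊥ := by
    rw [← e1, Ne, cj_eq_bot_iff]
    rintro rfl
    simp at hc
  refine ⟨M, H31.S2.se_of_syl (isSyl_sylow T) h9 (h8 _ h9 le_rfl) (fun x hx h2 => ?_) hM⟩
  rw [cen1_eq]
  exact (centralizer_le_normalizer _).trans (h8 _ (by
    rw [Ne, zpowers_eq_bot]; rintro rfl; simp at h2) (zpowers_le.2 hx))

end AG

open Subgroup Cfsg _root_.H98 _root_.H96 _root_.H96.CG H98.H96.CG _root_.H97.QU
open H52 (Vv Cv zc)
open scoped commutatorElement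

variable {G : Type u} [Group G] [Finite G] {D H K M P Q S T T₁ U X Y : Subgroup G} {g m z : G}

omit [Finite G] in
theorem o2_nor (h : IsPGroup 2 D) (h' : D ≠ ⊥) : pCoreOf 2 (nor D) ≠ ⊥ := fun e =>
  h' (eq_bot_iff.2 ((le_pCoreOf h le_normalizer le_rfl).trans e.le))

/-- a subgroup that is Sylow in `Y ⊓ M` and has its normaliser in `M` -/
theorem syl_of_nor (h : IsSyl 2 Q (Y ⊓ M)) (h' : Y ⊓ nor Q ≤ M) : IsSyl 2 Q Y :=
  isSyl_of_isSyl_normalizer (h.of_le (le_inf (h.le.trans inf_le_left) le_normalizer) (le_inf inf_le_left h'))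

theorem two_inf_odd (h : IsPGroup 2 P) (h' : (Nat.card Q).Coprime 2) : P ⊓ Q = ⊥ := by
  obtain ⟨n, e⟩ := IsPGroup.iff_card.1 h
  exact inf_eq_bot_of_coprime (e ▸ (h'.pow_right n).symm)

omit [Finite G] in
theorem Good.up (h : Good M U) (hP : IsPGroup 2 P) (h1 : U ≤ P) (h2 : P ≤ M) : Good M P :=
  ⟨hP, h2, (inf_le_inf_left _ (centralizer_anti h1)).trans (h.cq.trans h1)⟩

omit [Finite G] in
theorem Good.cj (h : Good M U) (hm : m ∈ M) : Good M (cj m U) :=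
  ⟨isPGroup_cj m h.two, cj_le_of_le_of_mem h.le hm, by
    rw [← cj_eq_self (self_le_normalizer_pCoreOf (p := 2) M hm), cen, ← cj_centralizer, ← cj_inf]
    exact cj_mono m h.cq⟩

omit [Finite G] in
theorem Wit.cj (h : Wit M U X) (hm : m ∈ M) : Wit M (cj m U) (cj m X) :=
  ⟨h.good.cj hm, h.syl.cj m, h.ch.cj m, fun e => h.nM ((cj_le_iff.1 e).trans (cj_eq_self_of_mem (inv_mem hm)).le)⟩

omit [Finite G] in
theorem Wit.gam (h : Wit M U X) : Gam M X :=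
  ⟨h.ch.pCoreOf_ne_bot fun e => h.nM (e.le.trans bot_le), U, X, h, le_rfl⟩

omit [Finite G] in
theorem Gam.nor (h : Gam M H) : Gam M (nor (pCoreOf 2 H)) :=
  let ⟨U, X, w, e⟩ := h.wit
  ⟨o2_nor (isPGroup_pCoreOf H) h.o2, U, X, w, e.trans (self_le_normalizer_pCoreOf H)⟩

namespace Hy

variable (h : Hy T M)
include h

theorem not_two : ¬ IsPGroup 2 (⊤ : Subgroup G) := fun e => by
  haveI := h.simple
  haveI := (isPGroup_top_iff.1 e).isNilpotent
  exact h.nab ⟨⟨IsSimpleGroup.comm_iff_isSolvable.2 inferInstance⟩⟩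

theorem res_top : res 2 (⊤ : Subgroup G) = ⊤ :=
  haveI := h.simple
  (normal_of_top_le_normalizer (self_le_normalizer_res ⊤)).eq_bot_or_eq_top.resolve_left fun e =>
    h.not_two (res_eq_bot_iff.1 e)

theorem eqM : M = nor (pCoreOf 2 M) := le_antisymm (self_le_normalizer_pCoreOf M)
  (h.uq _ (le_normalizer_pCoreOf_of_le h.le) (o2_nor (isPGroup_pCoreOf M) h.o2))

theorem ne_top : M ≠ ⊤ := fun e => by
  haveI := h.simple
  exact h.not_two ((normal_of_top_le_normalizer (e.ge.trans h.eqM.le)).eq_bot_or_eq_top.resolve_left h.o2 ▸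
    isPGroup_pCoreOf M)

theorem loc (hT : IsSyl 2 T₁ ⊤) (h1 : IsPGroup 2 D) (h2 : D ≠ ⊥) (h3 : T₁ ≤ nor D) : CharP 2 (nor D) :=
  charP_iff.2 (h.qt.2.2 _ ⟨D, h1, h2, rfl⟩ ⟨hT.toSylowTop, h3⟩)

theorem chM : CharP 2 M :=
  h.eqM.symm ▸ h.loc h.syl (isPGroup_pCoreOf M) h.o2 (le_normalizer_pCoreOf_of_le h.le)

theorem up (hP : IsPGroup 2 P) (h1 : P ≤ M) : ∃ T, IsSyl 2 T ⊤ ∧ P ≤ T ∧ T ≤ M :=
  let ⟨g, hg, e⟩ := (h.syl.of_le h.le le_top).exists_le_cj hP h1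
  ⟨_, h.syl.cj_of_mem (mem_top g), e, cj_le_of_le_of_mem h.le hg⟩

theorem uq' (hT : IsSyl 2 T₁ ⊤) (h1 : T₁ ≤ M) (h2 : T₁ ≤ H) (h3 : pCoreOf 2 H ≠ ⊥) : H ≤ M := by
  obtain ⟨g, hg, rfl⟩ := (h.syl.of_le h.le le_top).exists_cj_eq (hT.of_le h1 le_top)
  exact (le_cj_iff.2 (h.uq _ (cj_le_iff.1 h2) (by rwa [← cj_pCoreOf, Ne, cj_eq_bot_iff]))).trans
    (cj_eq_self_of_mem hg).le

theorem zO (hT : IsSyl 2 T₁ ⊤) (h1 : T₁ ≤ M) : zc T₁ ≤ pCoreOf 2 M :=
  h.chM.le_pCoreOf (inf_le_left.trans h1) (inf_le_right.trans (centralizer_anti (hT.of_le h1 le_top).pCoreOf_le))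

theorem cz (hT : IsSyl 2 T₁ ⊤) (h1 : T₁ ≤ M) (hz : z ∈ zc T₁) (z1 : z ≠ 1) : cen1 z ≤ M :=
  (cen1_eq z).le.trans ((centralizer_le_normalizer _).trans (h.uq' hT h1
    ((cen_symm (zpowers_le.2 hz.2)).trans (centralizer_le_normalizer _))
    (o2_nor (hT.isPGroup.to_le (zpowers_le.2 hz.1)) (mt zpowers_eq_bot.1 z1))))

theorem tc1 (hz : TC z) : CharP 2 (cen1 z) :=
  let ⟨h1, h2, _, h3, h4⟩ := hz
  nor_zpowers h1 ▸ h.loc h3 (two_zpowers h1) (mt zpowers_eq_bot.1 h2)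
    ((cen_symm (zpowers_le.2 h4.2)).trans (centralizer_le_normalizer _))

theorem sq (h1 : pCoreOf 2 H ≠ ⊥) : _root_.H97.QT.SQTK H :=
  haveI := h.simple
  H11.QT.sqtk_of_calH h.nab h.qt fun e => h1 (pCoreOf_eq_bot_iff.2 e)

theorem good_z (hU : Good M U) (hT : IsSyl 2 T₁ ⊤) (h1 : U ≤ T₁) (h2 : T₁ ≤ M) : zc T₁ ≤ U :=
  (le_inf (h.zO hT h2) (inf_le_right.trans (centralizer_anti h1))).trans hU.cq

theorem good_ne (hU : Good M U) : U ≠ ⊥ := fun e =>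
  h.o2 (eq_bot_iff.2 ((le_inf le_rfl (by rw [e, cen, centralizer_bot']; exact le_top)).trans (hU.cq.trans e.le)))

theorem good_cen (hU : Good M U) : IsPGroup 2 (cen U) ∧ cen U ≤ M := by
  obtain ⟨T₁, hT, h1, h2⟩ := h.up hU.two hU.le
  obtain ⟨z, hz, z1⟩ := (bot_or_exists_ne_one _).resolve_left (inf_centralizer_ne_bot hT.isPGroup hT.isPGroup
    le_normalizer fun e => h.good_ne hU (eq_bot_iff.2 (h1.trans e.le)))
  have h3 : cen U ≤ M := fun x hx => h.cz hT h2 hz z1 (mem_cen1.2 (com hx (h.good_z hU hT h1 h2 hz)).symm)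
  have h4 := cen_symm (res_le (p := 2) (cen U))
  exact ⟨res_eq_bot_iff.1 (h.chM.eq_bot_of_AB hU.two (le_normalizer_of_le hU.le) ((res_le _).trans h3) (res_res _)
    (commutator_eq_bot_iff_le_centralizer.2 h4) (hU.cq.trans h4)), h3⟩

theorem good_ch (hU : Good M U) (h1 : U ≤ Y) (h2 : Y ≤ nor U) : CharP 2 Y :=
  charP_of_normal hU.two h1 h2 ((h.good_cen hU).1.to_le inf_le_right)

/-- descent to a witness -/
theorem desc (hyp : ∀ D, Good M D → IsSyl 2 D (H ⊓ M) → H ⊓ nor D ≤ M) (hD : Good M D) (h1 : D ≤ H)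
    (h2 : ¬ H ⊓ nor D ≤ M) : ∃ U X, Wit M U X ∧ X ≤ H ∧ D < U := by
  obtain ⟨E, ⟨e1, e2, e3, e4⟩, hm⟩ := Set.exists_max_image
    {E : Subgroup G | Good M E ∧ D ≤ E ∧ E ≤ H ∧ ¬ H ⊓ nor E ≤ M} (fun E => Nat.card E) (Set.toFinite _)
    ⟨D, hD, le_rfl, h1, h2⟩
  obtain ⟨U, hU, f⟩ := exists_isSyl_le e1.two (le_inf (le_inf e3 le_normalizer) e1.le)
  have f1 : E < U := lt_of_le_of_ne f fun e => e4 (hyp E e1 (isSyl_of_isSyl_normalizer (by
    rw [inf_right_comm]; exact e ▸ hU)))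
  have f2 := e1.up hU.isPGroup f (hU.le.trans inf_le_right)
  refine ⟨U, _, ⟨f2, syl_of_nor hU (by_contra fun n => (card_lt_of_lt f1).not_ge (hm U ⟨f2, e2.trans f,
    hU.le.trans (inf_le_left.trans inf_le_left), fun e => n ((inf_le_inf_right _ inf_le_left).trans e)⟩)),
    h.good_ch e1 (le_inf e3 le_normalizer) inf_le_right, e4⟩, inf_le_left, e2.trans_lt f1⟩

theorem exists_wit (n : ¬ SE G) : ∃ U X, Wit M U X := by
  haveI := h.simple
  by_contra! w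
  refine n (se_of_ag h.nab h.syl.toSylowTop (isPGroup_pCoreOf M) h.o2 h.eqM h.ne_top h.le
    (fun X h1 h2 h3 => h.uq _ h3 (o2_nor (h.syl.isPGroup.to_le h2) h1)) fun D hD => by_contra fun n => ?_)
  obtain ⟨-, h2, ⟨P, h3⟩, h4, h5, h6⟩ := hD
  have h7 : Good M D := ⟨h.syl.isPGroup.to_le h2, h2.trans h.le, fun x hx => by
    obtain ⟨o, ho, d, hd, rfl⟩ := (mem_sup_left_norm ((commutator_eq_bot_iff_le_centralizer.1 h5).trans
      (centralizer_le_normalizer _))).1 (h6.ge (h4 hx.2))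
    have := (two_inf_odd h.syl.isPGroup (H14.coprime_card_opp (nor D))).le ⟨by
      simpa using mul_mem ((h.syl.of_le h.le le_top).pCoreOf_le hx.1) (inv_mem (h2 hd)), ho⟩
    rwa [mem_bot.1 this, one_mul]⟩
  exact w _ _ ⟨h7.up (h.syl.isPGroup.to_le inf_le_left) (le_inf h2 le_normalizer) (inf_le_left.trans h.le),
    isSyl_of_sylow_eq_subgroupOf inf_le_right P h3, h.good_ch h7 le_normalizer le_rfl, n⟩

variable {s : ℕ} (mx : ∀ H P : Subgroup G, Gam M H → IsPGroup 2 P → P ≤ H → P ≤ M → Nat.card P ≤ s)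
include mx

theorem good_nor (hU : Good M U) (h1 : s ≤ Nat.card U) : nor U ≤ M := by_contra fun n => by
  obtain ⟨U₁, X, w, -, e⟩ := h.desc (H := ⊤) (fun D f1 f2 => by
    rw [top_inf_eq] at f2 ⊢
    exact h.uq' (h.syl.of_card_ge f1.two le_top (f2.card_le h.syl.isPGroup h.le)) f1.le le_normalizer
      (o2_nor f1.two (h.good_ne f1))) hU le_top (by rwa [top_inf_eq])
  exact (h1.trans_lt (card_lt_of_lt e)).not_ge (mx X U₁ w.gam w.good.two w.syl.le w.good.le)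

theorem wit_of (hP : Good M P) (h1 : s ≤ Nat.card P) (h2 : P ≤ Y) (h3 : CharP 2 Y) (h4 : ¬ Y ≤ M) :
    Wit M P Y ∧ Nat.card P = s := by
  obtain ⟨Q, hQ, e⟩ := exists_isSyl_le hP.two (le_inf h2 hP.le)
  have f := hP.up hQ.isPGroup e (hQ.le.trans inf_le_right)
  have w : Wit M Q Y := ⟨f, syl_of_nor hQ (inf_le_right.trans (h.good_nor mx f (h1.trans (card_le_of_le e)))), h3, h4⟩
  have c := mx Y Q w.gam f.two w.syl.le f.le
  obtain rfl := eq_of_le_of_card_ge e (c.trans h1)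
  exact ⟨w, le_antisymm c h1⟩

theorem gam_syl (hH : Gam M H) (hS : Good M S) (h1 : s ≤ Nat.card S) (h2 : S ≤ H) : IsSyl 2 S H := by
  obtain ⟨Q, hQ, e⟩ := exists_isSyl_le hS.two (le_inf h2 hS.le)
  obtain rfl := eq_of_le_of_card_ge e ((mx H Q hH hQ.isPGroup (hQ.le.trans inf_le_left)
    (hQ.le.trans inf_le_right)).trans h1)
  exact syl_of_nor hQ (inf_le_right.trans (h.good_nor mx hS h1))

end Hy

theorem jobKit : JKit.{u} := fun G _ _ T M h => by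
  by_cases n1 : SE G
  · exact .inl n1
  by_cases n2 : Four G
  · exact .inr (.inl n2)
  obtain ⟨U₀, X₀, w₀⟩ := h.exists_wit n1
  obtain ⟨P₀, ⟨H₀, g0, p1, p2, p3⟩, hm⟩ := Set.exists_max_image
    {P : Subgroup G | ∃ H, Gam M H ∧ IsPGroup 2 P ∧ P ≤ H ∧ P ≤ M} (fun E => Nat.card E) (Set.toFinite _)
    ⟨U₀, X₀, w₀.gam, w₀.good.two, w₀.syl.le, w₀.good.le⟩
  have mx : ∀ H P : Subgroup G, Gam M H → IsPGroup 2 P → P ≤ H → P ≤ M → Nat.card P ≤ Nat.card P₀ :=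
    fun H P h1 h2 h3 h4 => hm P ⟨H, h1, h2, h3, h4⟩
  have ex : ∃ S : Subgroup G, Good M S ∧ S ≤ H₀ ∧ Nat.card S = Nat.card P₀ := by
    obtain ⟨U, X, w, e⟩ := g0.wit
    obtain ⟨S, hS, f⟩ := exists_isSyl_le w.good.two (le_inf (w.syl.le.trans e) w.good.le)
    exact ⟨S, w.good.up hS.isPGroup f (hS.le.trans inf_le_right), hS.le.trans inf_le_left, le_antisymm
      (mx H₀ S g0 hS.isPGroup (hS.le.trans inf_le_left) (hS.le.trans inf_le_right)) (hS.card_le p1 (le_inf p2 p3))⟩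
  obtain ⟨S₀, s1, s2, s3⟩ := ex
  refine .inr (.inr ⟨Nat.card P₀, h.simple, h.nab, h.qt, n2, h.res_top, h.chM, h.o2, fun _ => h.up, fun _ _ => h.uq',
    fun _ => h.zO, fun _ _ => h.cz, fun _ => h.tc1, fun j D h1 h2 h3 => H52.Loc.charP_nor_of_cen h2 h3 (h.tc1 h1),
    fun _ => h.sq, fun D E p h1 h2 h3 h4 h5 h6 => ?_, fun H K h1 h2 => ?_, mx, ⟨H₀, S₀, g0, s1, s2, s3⟩,
    fun T₁ h1 => ?_, fun _ _ => Good.up, fun _ _ => h.good_z, fun _ => h.good_cen, fun _ _ => h.good_ch,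
    fun _ _ => Good.cj, fun _ _ _ => Wit.cj, fun H m h1 h2 => ?_, fun _ _ => Wit.gam, fun _ => h.good_nor mx,
    fun _ _ => h.wit_of mx, fun P D H h1 h2 h3 h4 h5 h6 => ?_, fun U X P D h1 h2 h3 h4 h5 h6 h7 => ?_,
    fun _ _ => h.gam_syl mx, fun H S Y Y₁ h1 h2 h3 h4 h5 h6 h7 => ?_, fun H S D h1 h2 h3 h4 h5 h6 h7 => ?_⟩)
  · have := h.qt.1 p h4 h5 _ ⟨D, h1, h2, rfl⟩ (E.subgroupOf (nor D))
      ⟨⟨fun a b => Subtype.ext (Subtype.ext (mem_centralizer_iff.1 (H12.ea_le_centralizer h6 b.2) _ a.2))⟩⟩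
      fun a ha => Subtype.ext (h6.2 a ha)
    rwa [Nat.card_congr (subgroupOfEquivOfLe h3).toEquiv] at this
  · by_cases e : (K.subgroupOf H).Normal
    · exact .inl ((normal_subgroupOf_iff_le_normalizer h2.1).1 e)
    · have := H11.QT.C.index_eq_two (h.sq h1).1 (H11.QT.C.of_comp h2.2) e
      rw [← subgroupOf_normalizer_eq h2.1] at this
      exact .inr this
  · by_contra! e
    obtain ⟨U, X, w, f⟩ := g0.wit
    exact w.nM (f.trans (h.uq' (h1.of_card_ge s1.two le_top (s3 ▸ e)) s1.le s2 g0.o2))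
  · obtain ⟨U, X, w, f⟩ := h1.wit
    exact ⟨by rw [← cj_pCoreOf, Ne, cj_eq_bot_iff]; exact h1.o2, _, _, w.cj h2, cj_mono m f⟩
  · obtain ⟨U, X, w, f, -⟩ := h.desc (fun D f1 f2 => inf_le_right.trans (h.good_nor mx f1
      (h2.trans (f2.card_le h1.two (le_inf h3 h1.le))))) h4 h5 h6
    exact ⟨U, X, w, f⟩
  · exact by_contra fun e => h4.not_ge (mx _ P ⟨o2_nor h5 e, U, X, h1, h6⟩ h2 h7 h3)
  · have e1 := h.gam_syl mx h1 h2 h3 (h4.trans h5)
    have e2 := h.gam_syl mx h1.nor h2 h3 (le_normalizer_pCoreOf_of_le e1.le)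
    exact (h7.inf_normalizer (isPGroup_pCoreOf H) (e1.pCoreOf_le.trans (h4.trans h6))).of_isSyl_le
      (e2.of_le (le_inf (h4.trans h6) e2.le) inf_le_right) h4 (le_inf h6 (le_normalizer_pCoreOf_of_le h5))
  · have e1 := h.gam_syl mx h1 h2 h3 h4
    have e2 := h.gam_syl mx h1.nor h2 h3 (le_normalizer_pCoreOf_of_le e1.le)
    have e3 : pCoreOf 2 M ⊓ nor (pCoreOf 2 H) ≤ S := e2.le_of_le_normalizer ((isPGroup_pCoreOf M).to_le inf_le_left)
      inf_le_right (le_normalizer_inf (le_normalizer_pCoreOf_of_le h2.le) (le_normalizer_of_le e2.le))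
    exact ⟨h2.two.to_le inf_le_left, inf_le_left.trans h2.le, le_inf ((inf_le_inf_left _ ((centralizer_anti
      (le_inf e1.pCoreOf_le h7)).trans (centralizer_le_normalizer _))).trans e3)
      (inf_le_right.trans (centralizer_anti (le_inf h5 h6)))⟩

end H96.H97.QU
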