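import Cfsg.Agent.H96.GWrap
import Cfsg.Agent.H98.CGJ
import Cfsg.Agent.H58.CGD
import Cfsg.Agent.H57.CGL
import Cfsg.Agent.H57.CGQ

/-! The reduction with its local sections filled in. -/

set_option autoImplicit false

namespace H96.CG

open Subgroup Cfsg H98 MatrixGroups
open H52 (Vv Cv zc)

universe u

variable {G : Type u} [Group G] [Finite G] {T M : Subgroup G}

theorem out (h : Amb G) (hT : IsSyl 2 T ⊤) (c : Cst T M) (hM : M ≠ ⊤) : Out M :=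
  main jobCo H58.CGD.jobD H57.CGL.jobL jobJ H57.CGQ.jobQ2 G T M h hT c hM

theorem s3052 (jt : JobTB.{u}) (h : Amb G) (hT : IsSyl 2 T ⊤) (hC : cStarOf 2 T ≠ ⊤) [Group.IsNilpotent T] :
    (∃ H : Subgroup G, IsStronglyEmbedded H) ∨
      ((∃ m : ℕ, Nonempty (T ≃* DihedralGroup m)) ∨ IsQuasiDihedral T) ∨ Nat.card T ≤ 2 ^ 10 ∨
      (baumannSubgroupOf 2 T = T ∧ Group.nilpotencyClass T = 2 ∧
        ∃ (E : Subgroup G) (_ : ((pCoreOf 2 E).subgroupOf E).Normal) (F : Type) (_ : Field F) (_ : Fintype F)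
          (n : ℕ), 3 ≤ n ∧ Fintype.card F = 2 ^ n ∧ IsBaumannBlock 2 T E ∧ ¬ E ≤ cStarOf 2 T ∧
          Nonempty (E ⧸ (pCoreOf 2 E).subgroupOf E ≃* SL(2, F))) := by
  rcases out h hT (cst_cStar T) hC with e | e | ⟨q, B, R, R', A, A', hq, tb, tm⟩ | ⟨B, R, A, A', T', nb, hD, -⟩
  · exact Or.inl e
  · exact Or.inr (Or.inl (e.syl hT))
  · rcases tb.l.bk.four_le hq with rfl | h4
    · exact Or.inr (Or.inr (Or.inl (jobSz jobCo G B R A A' T h hT (Or.inr ⟨R', tb⟩))))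
    obtain ⟨m, hm, rfl⟩ := ((jt jobCo G q B R R' A A' h tb h4).of_le (le_normalizer.trans tm.nB)
      le_top).exists_cj_eq (hT.of_le ((cst_cStar T).le hT.isPGroup hC) le_top)
    have u := tb.l.cj m
    obtain ⟨F, _, _, hF, ⟨c⟩⟩ := jobCo G q _ _ _ _ u.bk hq
    obtain ⟨n, rfl⟩ := u.bk.pow
    have hN : ((pCoreOf 2 (cj m R)).subgroupOf (cj m R)).Normal := pCoreOf_subgroupOf (p := 2) (cj m R) ▸ inferInstance
    refine Or.inr (Or.inr (Or.inr ⟨u.bmP _ u.tri.two le_rfl u.bk.nR, u.cls, cj m R, hN, F, _, _, n, ?_, hF, u.bk.blk,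
      fun e => tm.nR ((cj_le_iff.1 e).trans (cj_eq_self_of_mem (inv_mem hm)).le),
      c.iso.map (QuotientGroup.quotientMulEquivOfEq (pCoreOf_subgroupOf _)).trans⟩))
    exact (Nat.pow_lt_pow_iff_right one_lt_two).1 (h4 : 2 ^ 2 < _)
  · exact Or.inr (Or.inr (Or.inl (jobSz jobCo G B R A A' T h hT (Or.inl ⟨T', nb, hD⟩))))

end H96.CG
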