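import Cfsg.Agent.H96.GMain
import Cfsg.Agent.S3224

/-! Small lemmas for the statements of the global `C*(G,T)` theorem. -/

set_option autoImplicit false

namespace H96.CG

open Subgroup Cfsg H98
open H52 (Vv Cv zc)
open scoped commutatorElement

universe u

variable {G : Type u} [Group G] [Finite G] {q : ℕ} {B R A A' M T : Subgroup G}

theorem Four.syl (h : Four G) (hT : IsSyl 2 T ⊤) :
    (∃ m : ℕ, Nonempty (T ≃* DihedralGroup m)) ∨ IsQuasiDihedral T := by
  obtain ⟨E, h1, h2, h3, h4⟩ : ∃ E : Subgroup G, IsElementaryAbelian 2 E ∧ Nat.card E = 4 ∧ cen E ≤ E ∧ E ≤ T := by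
    obtain ⟨E, h1, h2, h3⟩ := h
    obtain ⟨g, -, h4⟩ := hT.exists_cj_le (H12.ea_isPGroup h1) le_top
    exact ⟨cj g E, H12.ea_map h1 _, (card_cj g E).trans h2, by rw [cen, ← cj_centralizer]; exact cj_mono g h3, h4⟩
  by_cases e : E ≤ cen T
  · obtain rfl := le_antisymm h4 ((cen_symm e).trans h3)
    have : Nontrivial E := Finite.one_lt_card_iff_nontrivial.1 (by omega)
    have : IsKleinFour E := ⟨h2, (Monoid.exponent_eq_prime_iff Nat.prime_two).2 fun x hx =>
      orderOf_eq_prime (Subtype.ext (h1.2 x x.2)) hx⟩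
    exact Or.inl ⟨2, IsKleinFour.nonempty_mulEquiv⟩
  obtain ⟨x, hx, h5⟩ := SetLike.not_le_iff_exists.1 e
  have h6 : oz 2 T ≤ E := ((oz_le_centralizer T).trans (centralizer_anti h4)).trans h3
  have h7 : oz 2 T ⊔ zpowers x = E := by
    have k1 : oz 2 T ⊔ zpowers x ≤ E := sup_le h6 (zpowers_le.2 hx)
    have k2 := card_lt_of_lt (left_lt_sup.2 fun e : zpowers x ≤ oz 2 T => h5 (oz_le_centralizer T (e (mem_zpowers x))))
    have k3 := (one_lt_card_iff_ne_bot _).2 (oz_ne_bot hT.isPGroup fun e' => e (h4.trans (e'.le.trans bot_le)))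
    obtain ⟨n, k4⟩ := h2 ▸ card_dvd_of_le k1
    refine eq_of_le_of_card_ge k1 (h2 ▸ not_lt.1 fun k5 => ?_)
    rw [show Nat.card ↥(oz 2 T ⊔ zpowers x) = 3 by omega] at k4
    omega
  have h8 : centralizer {(⟨x, h4 hx⟩ : T)} = E.subgroupOf T := by
    ext t
    rw [mem_centralizer_singleton_iff, mem_subgroupOf, Subtype.ext_iff]
    refine ⟨fun e => h3 ?_, fun e => (ea_com h1 e hx).eq⟩
    rw [← h7, cen, centralizer_sup]
    exact ⟨le_centralizer_oz T t.2, (cen1_eq x).le (mem_cen1.2 e)⟩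
  rcases Cfsg.Agent.S3224.result hT.isPGroup ⟨x, h4 hx⟩ (orderOf_eq_prime (Subtype.ext (h1.2 x hx))
    fun e => h5 (by rw [show x = 1 from congrArg Subtype.val e]; exact one_mem _))
    (by rw [h8, Nat.card_congr (subgroupOfEquivOfLe h4).toEquiv, h2]) with e' | e' | e'
  exacts [Or.inl e', Or.inr e', (e ((eq_of_le_of_card_ge h4 (by rw [e', h2])) ▸ H12.ea_le_centralizer h1)).elim]

omit [Finite G] in
theorem cst_cStar (T : Subgroup G) : Cst T (cStarOf 2 T) :=
  ⟨le_sup_left, fun C h1 h2 h3 => (le_iSup (fun C : {C : Subgroup G // C ≤ bm 2 T ∧ C ≠ ⊥ ∧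
    (C.subgroupOf (bm 2 T)).Characteristic} => normalizer ((C : Subgroup G) : Set G)) ⟨C, h1, h2, h3⟩).trans
    le_sup_right⟩

theorem Bk.four_le (k : Bk q B R A A') (h : 2 < q) : q = 4 ∨ 4 < q := by
  have h4 : q ≠ 3 := fun e => by
    obtain ⟨n, hn⟩ := IsPGroup.iff_card.1 (H12.ea_isPGroup k.tri.eA)
    exact absurd (Nat.prime_three.dvd_of_dvd_pow (hn ▸ k.tri.card_A ▸ e ▸ dvd_mul_right _ _ : 3 ∣ 2 ^ n))
      (by decide)
  omega

theorem Bk.pow (k : Bk q B R A A') : ∃ n, q = 2 ^ n := by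
  obtain ⟨n, hn⟩ := IsPGroup.iff_card.1 (H12.ea_isPGroup k.tri.eA)
  obtain ⟨m, -, e⟩ := (Nat.dvd_prime_pow Nat.prime_two).1 (hn ▸ k.tri.card_A ▸ dvd_mul_right _ _ : q ∣ 2 ^ n)
  exact ⟨m, e⟩

theorem Uno.cls (u : Uno q B R A A') [Group.IsNilpotent B] : Group.nilpotencyClass B = 2 := by
  refine le_antisymm (Subgroup.upperCentralSeries_eq_top_iff_nilpotencyClass_le.1 (eq_top_iff.2 fun x _ =>
    Subgroup.mem_upperCentralSeries_succ_iff.2 fun y => ?_)) (not_lt.1 fun h => u.tri.not_le_cen fun a ha => ?_)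
  · rw [Subgroup.upperCentralSeries_one, mem_center_iff]
    exact fun z => Subtype.ext (zcom ((u.comm_B.le.trans ((commutator_mono le_rfl u.tri.AB').trans u.tri.comm_le))
      (commutator_mem_commutator x.2 y.2)) z.2).eq
  · have h1 := Subgroup.upperCentralSeries_eq_top_iff_nilpotencyClass_le.2 (Nat.lt_succ_iff.1 h)
    rw [Subgroup.upperCentralSeries_one] at h1
    exact fun b hb => congrArg Subtype.val (mem_center_iff.1 (h1.ge (mem_top ⟨a, u.tri.AB ha⟩)) ⟨b, u.tri.AB' hb⟩)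

end H96.CG
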