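import Cfsg.Agent.H41.LDKit2
import Cfsg.Agent.H93.S2BA2
import Cfsg.Agent.H14.Quasi

/-! Tower LD5, job FA, part 1: a class of reflections with two-cycles `0`, `1`. -/

set_option autoImplicit false

open Matrix Cfsg Cfsg.Geo H41.LD
open H19 hiding cj
open scoped MatrixGroups commutatorElement

namespace H96.LD

universe u

/-- A perfect group acts trivially on at most four points. -/
theorem perf_fix {Γ β : Type*} [Group Γ] (act : Γ → β → β) (h1 : ∀ b, act 1 b = b)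
    (hm : ∀ g h b, act (g * h) b = act g (act h b)) {A : Subgroup Γ} (hp : ⁅A, A⁆ = A) {S : Set β}
    (hf : S.Finite) (h4 : S.ncard ≤ 4) (hS : ∀ g ∈ A, ∀ b ∈ S, act g b ∈ S) :
    ∀ g ∈ A, ∀ b ∈ S, act g b = b := by
  letI : MulAction A S :=
    { smul := fun g b => ⟨act g b, hS g g.2 b b.2⟩
      one_smul := fun b => Subtype.ext (h1 b)
      mul_smul := fun g h b => Subtype.ext (hm g h b) }
  haveI := hf.to_subtype
  haveI : Group.IsSolvable (Equiv.Perm S) := H93.S2B.solvable_of_card_lt _ _ rfl (by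
    rw [Nat.card_perm]
    exact (Nat.factorial_le (show Nat.card S ≤ 4 from h4)).trans_lt (by decide))
  have t : ⁅(⊤ : Subgroup A), ⊤⁆ = ⊤ := Subgroup.map_injective A.subtype_injective (by
    rw [Subgroup.map_commutator, ← MonoidHom.range_eq_map, Subgroup.range_subtype, hp])
  have e : (⊤ : Subgroup A).map (MulAction.toPermHom A S) = ⊥ :=
    H14.eq_bot_of_perfect_of_le_solvable (H := ⊤) (by rw [← Subgroup.map_commutator, t]) le_top
      inferInstance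
  intro g hg b hb
  have : MulAction.toPermHom A S ⟨g, hg⟩ = 1 :=
    Subgroup.mem_bot.1 (e ▸ Subgroup.mem_map_of_mem _ (Subgroup.mem_top _))
  exact congrArg Subtype.val (congrArg (fun σ : Equiv.Perm S => σ ⟨b, hb⟩) this)

variable {K : Type u} [Field K] {G : Subgroup (GL (Fin 5) K)} {s x y : R 5 K} {w : K}

/-- An invariant family of matrices centralised by a non-scalar element consists of scalars. -/
theorem scalar_of_inv (hG : RS G) {D : Set (R 5 K)} (hD : ∀ x ∈ D, x.2 ⬝ᵥ x.1 = 2)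
    (hle : G ≤ Gen D ⊔ scalars (Fin 5) K) {S : Set (Matrix (Fin 5) (Fin 5) K)}
    (hS : ∀ x ∈ D, ∀ A ∈ S, (1 - N x) * A * (1 - N x) ∈ S) {g₀ : GL (Fin 5) K} (h0 : g₀ ∈ G)
    (h1 : g₀ ∉ scalars (Fin 5) K) (h2 : ∀ A ∈ S, A * g₀.val = g₀.val * A) :
    ∀ A ∈ S, ∃ c : K, A = c • 1 := by
  let L : Subgroup (GL (Fin 5) K) :=
    { carrier := {g | g ∈ G ∧ ∀ A ∈ S, A * g.val = g.val * A}
      one_mem' := ⟨G.one_mem, by simp⟩
      mul_mem' := fun {a b} ha hb => ⟨G.mul_mem ha.1 hb.1, fun A hA => by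
        rw [Units.val_mul, ← mul_assoc, ha.2 A hA, mul_assoc, hb.2 A hA, mul_assoc]⟩
      inv_mem' := fun {a} ha => ⟨G.inv_mem ha.1, fun A hA => by
        rw [Units.mul_inv_eq_iff_eq_mul, mul_assoc, ha.2 A hA, Units.inv_mul_cancel_left]⟩ }
  have key : ∀ g ∈ G, ∀ A ∈ S, ∃ A' ∈ S, A * g.val = g.val * A' := fun g hg => by
    obtain ⟨k, hk, c, rfl⟩ := mem_sup_scalars (hle hg)
    have := gen_induction hD (p := fun B => ∀ A ∈ S, ∃ A' ∈ S, A * B = B * A')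
      (fun A hA => ⟨A, hA, by simp⟩) (fun x hx B hB A hA => by
        obtain ⟨A', h1, h2⟩ := hB _ (hS x hx A hA)
        refine ⟨A', h1, ?_⟩
        rw [mul_assoc (1 - N x), ← h2, ← mul_assoc, ← mul_assoc, ← mul_assoc, ← mul_assoc,
          rf_mul_self (hD x hx), one_mul]) hk
    intro A hA
    obtain ⟨A', h1, h2⟩ := this A hA
    exact ⟨A', h1, by simp [h2]⟩
  rcases hG.qp L (fun g hg => hg.1) (fun g hg l hl => ⟨G.mul_mem (G.mul_mem hg hl.1) (G.inv_mem hg),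
    fun A hA => by
      obtain ⟨A', h1, h2⟩ := key g hg A hA
      have h3 : (g⁻¹).val * A = A' * (g⁻¹).val := by
        rw [Units.inv_mul_eq_iff_eq_mul, ← mul_assoc, ← h2, Units.mul_inv_cancel_right]
      simp only [Units.val_mul]
      rw [← mul_assoc, ← mul_assoc, h2, mul_assoc _ A', hl.2 A' h1, mul_assoc _ _ A, h3]
      simp only [mul_assoc]⟩) with h | h
  · exact absurd (h ⟨h0, h2⟩) h1
  · exact fun A hA => exists_smul_of_commute_gspan h.1 fun l hl => hl.2 A hA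

theorem ent_congr {n : ℕ} {x y : R n K} (h : N x = N y) (φ v : Fin n → K) :
    (φ ⬝ᵥ x.1) * (x.2 ⬝ᵥ v) = (φ ⬝ᵥ y.1) * (y.2 ⬝ᵥ v) := by
  have := congrArg (fun A => φ ⬝ᵥ A *ᵥ v) h
  simpa [N_mulVec, mul_comm] using this

theorem Cl_of_N (h : Cl G s x) (e : N y = N x) : Cl G s y := ⟨h.1.of_N e, e ▸ h.2⟩

theorem Cl_cg (h : Cl G s x) {g : GL (Fin 5) K} (hg : g ∈ G) : Cl G s (cg g x) := by
  obtain ⟨h1, k, hk, e⟩ := h
  refine ⟨h1.conj hg, g * k, G.mul_mem hg hk, ?_⟩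
  rw [N_cg, e]; simp [mul_assoc]

theorem Cl_cj (hx : Rf G x) (h : Cl G s y) : Cl G s (cj x y) := cg_rf hx.1 y ▸ Cl_cg h hx.mem

/-- The standing hypothesis. -/
structure C3 (G : Subgroup (GL (Fin 5) K)) (s : R 5 K) (w : K) : Prop where
  rs : RS G
  two : (2 : K) ≠ 0
  three : (3 : K) ≠ 0
  om : w ^ 2 + w + 1 = 0
  rf : Rf G s
  cv : ∀ x, Rf G x → cc s x = 0 ∨ cc s x = 1 ∨ N x = N s

theorem inv_cube {η : K} (h : η ^ 3 = 1) : η⁻¹ = η ^ 2 :=
  inv_eq_of_mul_eq_one_right (by linear_combination h)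

theorem ne_cube {η : K} (h : η ^ 3 = 1) : η ≠ 0 := fun e => by simp [e] at h

namespace C3
variable (h : C3 G s w)
include h

theorem self : Cl G s s := ⟨h.rf, 1, G.one_mem, by simp⟩

theorem w3 : w ^ 3 = 1 := by linear_combination (w - 1) * h.om

theorem w1 : w ≠ 1 := fun e => h.three (by have := h.om; rw [e] at this; linear_combination this)

theorem cube {η : K} (e : η ^ 3 = 1) : η = 1 ∨ η = w ∨ η = w ^ 2 := by
  have : (η - 1) * ((η - w) * (η - w ^ 2)) = 0 := by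
    linear_combination e + (η - η ^ 2 + (η - 1) * (w - 1)) * h.om
  rcases mul_eq_zero.1 this with e | e
  · exact Or.inl (sub_eq_zero.1 e)
  · exact Or.inr ((mul_eq_zero.1 e).imp sub_eq_zero.1 sub_eq_zero.1)

theorem cv2 (hy : Cl G s y) (hx : Rf G x) : cc y x = 0 ∨ cc y x = 1 ∨ N x = N y := by
  obtain ⟨-, g, hg, e⟩ := hy
  have e1 : cc y x = cc s (cg g⁻¹ x) := by
    rw [← cc_cg g s, cg_cg_inv]; exact cc_congr (e.trans (N_cg g s).symm) rfl
  rw [e1]
  refine (h.cv _ (hx.conj (G.inv_mem hg))).imp_right (Or.imp_right fun e2 => ?_)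
  rw [e, ← e2, ← N_cg, cg_cg_inv]

theorem gen : gspan (Gen {x | Cl G s x}) = ⊤ ∧ G ≤ Gen {x | Cl G s x} ⊔ scalars (Fin 5) K :=
  h.rs.gen (fun _ hx => hx.1) ⟨s, h.self⟩ fun _ hg _ hx => ⟨_, Cl_cg hx hg, rfl⟩

theorem pair {m : ℕ} {e ε : Fin m → Fin 5 → K} {i j : Fin m}
    (hR : ∀ η, η ^ 3 = 1 → Cl G s (sw e ε i j η)) (hy : Rf G y) :
    (∃ η, η ^ 3 = 1 ∧ N y = N (sw e ε i j η)) ∨ (X e ε y i = 0 ∧ X e ε y j = 0) ∨
      (X e ε y i = 1 ∧ X e ε y j = 0) ∨ (X e ε y i = 0 ∧ X e ε y j = 1) ∨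
      (3 * X e ε y i = 1 ∧ 3 * X e ε y j = 1) := by
  refine or_iff_not_imp_left.2 fun hn => ?_
  have key : ∀ η, η ^ 3 = 1 → (ε i ⬝ᵥ y.1 = η ^ 2 * (ε j ⬝ᵥ y.1) ∧ y.2 ⬝ᵥ e i = η * (y.2 ⬝ᵥ e j)) ∨
      (ε i ⬝ᵥ y.1 - η ^ 2 * (ε j ⬝ᵥ y.1)) * (y.2 ⬝ᵥ e i - η * (y.2 ⬝ᵥ e j)) = 1 := fun η hη => by
    rcases h.cv2 (hR η hη) hy with c | c | c
    · have := h.rs.thin.of_cc (hR η hη).1 hy c
      simp only [sw, sub_dotProduct, smul_dotProduct, dotProduct_sub, dotProduct_smul, smul_eq_mul,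
        inv_cube hη, sub_eq_zero] at this
      exact Or.inl this
    · simp only [cc, sw, sub_dotProduct, smul_dotProduct, dotProduct_sub, dotProduct_smul,
        smul_eq_mul, inv_cube hη] at c
      exact Or.inr c
    · exact absurd ⟨η, hη, c⟩ hn
  simp only [X]
  generalize ε i ⬝ᵥ y.1 = a at key
  generalize ε j ⬝ᵥ y.1 = a' at key
  generalize y.2 ⬝ᵥ e i = b at key
  generalize y.2 ⬝ᵥ e j = b' at key
  have w3 := h.w3
  have om := h.om
  have z : ∀ η, η ^ 3 = 1 → a = η ^ 2 * a' ∧ b = η * b' →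
      (a * b = 0 ∧ a' * b' = 0) ∨ (a * b = 1 ∧ a' * b' = 0) ∨ (a * b = 0 ∧ a' * b' = 1) ∨
        (3 * (a * b) = 1 ∧ 3 * (a' * b') = 1) := fun η hη ⟨e1, e2⟩ => by
    rcases key (w * η) (by rw [mul_pow, w3, hη, one_mul]) with ⟨-, e3⟩ | e3
    · have : (w - 1) * (η * b') = 0 := by linear_combination e2 - e3
      have b0 : b' = 0 := (mul_eq_zero.1 ((mul_eq_zero.1 this).resolve_left
        (sub_ne_zero.2 h.w1))).resolve_left (ne_cube hη)
      exact Or.inl ⟨by rw [e2, b0]; simp, by rw [b0]; simp⟩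
    · subst e1 e2
      refine Or.inr (Or.inr (Or.inr ⟨?_, ?_⟩))
      · linear_combination e3 + (η ^ 3 * a' * b' * (2 - w)) * om
      · linear_combination e3 + (η ^ 3 * a' * b' * (2 - w)) * om - 3 * a' * b' * hη
  rcases key 1 (by simp) with e1 | e1
  · exact z 1 (by simp) e1
  rcases key w w3 with e2 | e2
  · exact z w w3 e2
  have w6 : (w ^ 2) ^ 3 = 1 := by rw [← pow_mul, mul_comm, pow_mul, w3, one_pow]
  rcases key (w ^ 2) w6 with e3 | e3
  · exact z _ w6 e3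
  have s1 : a * b + a' * b' = 1 := mul_left_cancel₀ h.three (by
    linear_combination e1 + e2 + e3 + (a * b' + a' * b) * om +
      (a' * b * w - a' * b' * (w ^ 3 + 2)) * w3)
  have s2 : a * b' = a' * b := mul_left_cancel₀ (mul_ne_zero (ne_cube w3) (sub_ne_zero.2 h.w1)) (by
    linear_combination e2 - e3 + (a' * b' * w ^ 3 - a' * b * w) * w3)
  have s3 : a' * b = 0 := mul_left_cancel₀ h.two (by linear_combination s1 - e1 - s2)
  have s4 : a * b * (a' * b') = 0 := by linear_combination (a * b') * s3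
  rcases mul_eq_zero.1 s4 with e | e
  · exact Or.inr (Or.inr (Or.inl ⟨e, by linear_combination s1 - e⟩))
  · exact Or.inr (Or.inl ⟨by linear_combination s1 - e, e⟩)

/-- There is no monomial frame of rank five. -/
theorem no5 {e ε : Fin 5 → Fin 5 → K} (hd : Dual e ε)
    (hR : ∀ i j, i ≠ j → ∀ η, η ^ 3 = 1 → Cl G s (sw e ε i j η)) : False := by
  have all : ∀ y, Rf G y → ∃ i j η, i ≠ j ∧ η ^ 3 = 1 ∧ N y = N (sw e ε i j η) := fun y hy => by
    by_contra hn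
    have p : ∀ i j, i ≠ j → (X e ε y i = 0 ∧ X e ε y j = 0) ∨ (X e ε y i = 1 ∧ X e ε y j = 0) ∨
        (X e ε y i = 0 ∧ X e ε y j = 1) ∨ (3 * X e ε y i = 1 ∧ 3 * X e ε y j = 1) :=
      fun i j hij => (h.pair (hR i j hij) hy).resolve_left fun ⟨η, h1, h2⟩ => hn ⟨i, j, η, hij, h1, h2⟩
    have sm : ∑ i, X e ε y i = 2 := by
      rw [← hy.1, ← one_mulVec y.1, ← hd.sum_eq_one, sum_mulVec, dotProduct_sum]
      exact Finset.sum_congr rfl fun i _ => by simp [N_mulVec, X]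
    have t2 := h.two
    by_cases h1 : ∃ i, X e ε y i = 1
    · obtain ⟨i, hi⟩ := h1
      rw [Finset.sum_eq_single i (fun j _ hj => ?_) (by simp), hi] at sm
      · exact one_ne_zero (by linear_combination -sm : (1 : K) = 0)
      · rcases p i j hj.symm with e | e | e | e
        exacts [e.2, e.2, absurd (hi.symm.trans e.1) one_ne_zero,
          absurd (by linear_combination e.1 - 3 * hi) t2]
    push Not at h1
    have q : ∀ j, j ≠ 0 → (X e ε y 0 = 0 ∧ X e ε y j = 0) ∨ (3 * X e ε y 0 = 1 ∧ 3 * X e ε y j = 1) :=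
      fun j hj => by
        rcases p 0 j hj.symm with e | e | e | e
        exacts [Or.inl e, absurd e.1 (h1 _), absurd e.2 (h1 _), Or.inr e]
    rw [Fin.sum_univ_five] at sm
    by_cases h0 : X e ε y 0 = 0
    · have q' : ∀ j, j ≠ 0 → X e ε y j = 0 := fun j hj =>
        ((q j hj).resolve_right fun e => by simpa [h0] using e.1).2
      rw [h0, q' 1 (by decide), q' 2 (by decide), q' 3 (by decide), q' 4 (by decide)] at sm
      exact t2 (by linear_combination -sm)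
    · have q' := fun j hj => (q j hj).resolve_left fun e => h0 e.1
      exact one_ne_zero (by
        linear_combination (q' 1 (by decide)).1 + (q' 1 (by decide)).2 + (q' 2 (by decide)).2 +
          (q' 3 (by decide)).2 + (q' 4 (by decide)).2 - 3 * sm : (1 : K) = 0)
  have w0 := ne_cube h.w3
  obtain ⟨g, hg, eg⟩ := (hR 0 1 (by decide) 1 (by simp)).1.isIn.mul (hR 0 1 (by decide) w h.w3).1.isIn
  rw [sw_mul_sw hd (by decide) w0 one_ne_zero, inv_one, mul_one, mul_one] at eg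
  obtain ⟨c, hc⟩ := scalar_of_inv h.rs (fun _ hx => hx.1.1) h.gen.2
    (S := Set.range fun i => N (e i, ε i)) (fun x hx A ⟨k, hk⟩ => by
      obtain ⟨i, j, η, hij, hη, e1⟩ := all x hx.1
      have η0 := ne_cube hη
      rw [← hk, e1, ← N_cj]
      by_cases hi : k = i
      · refine ⟨j, ?_⟩
        simp only [H41.LD.cj, sw, hi, sub_dotProduct, smul_dotProduct, dotProduct_sub, dotProduct_smul,
          hd.same, hd.ne hij, hd.ne hij.symm, smul_zero, sub_zero, one_smul, sub_sub_cancel]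
        exact (N_scale η0 (e j, ε j)).symm
      by_cases hj : k = j
      · refine ⟨i, ?_⟩
        rw [show cj (sw e ε i j η) (e k, ε k) = (η⁻¹ • e i, η⁻¹⁻¹ • ε i) by
          simp [H41.LD.cj, sw, hj, hd.same, hd.ne hij, hd.ne hij.symm, smul_sub, smul_smul, η0]]
        exact (N_scale (inv_ne_zero η0) (e i, ε i)).symm
      · refine ⟨k, ?_⟩
        simp [H41.LD.cj, sw, hd.ne hi, hd.ne hj, hd.ne (Ne.symm hi), hd.ne (Ne.symm hj)]) hg
    (fun hs => by
      obtain ⟨d, hd'⟩ := (mem_scalars_iff g).1 hs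
      have f := fun i => congrArg (fun A => ε i ⬝ᵥ A *ᵥ e i) (eg.symm.trans hd')
      have f0 := f 0
      have f2 := f 2
      simp [add_mulVec, smul_mulVec, N_mulVec, hd _ _] at f0 f2
      exact h.w1 (f0.trans f2.symm))
    (by
      rintro _ ⟨k, rfl⟩
      rw [eg]
      simp only [mul_add, add_mul, mul_one, one_mul, Matrix.mul_smul, Matrix.smul_mul, N_mk_mul, hd _ _]
      fin_cases k <;> simp) _ ⟨0, rfl⟩
  exact N_ne_smul_one (x := (e 0, ε 0)) (by norm_num) (fun e0 => by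
    have := trace_N (e 0, ε 0)
    rw [e0, hd.same] at this
    simp at this) c hc

omit h in
theorem rsym {m : ℕ} {e ε : Fin m → Fin 5 → K} {i j : Fin m}
    (hR : ∀ η, η ^ 3 = 1 → Cl G s (sw e ε i j η)) : ∀ η, η ^ 3 = 1 → Cl G s (sw e ε j i η) :=
  fun η hη => Cl_of_N (hR η⁻¹ (by rw [inv_pow, hη, inv_one])) (by
    have := N_sw_symm e ε i j (inv_ne_zero (ne_cube hη))
    rwa [inv_inv] at this)

omit h in
theorem rstep {m : ℕ} {e ε : Fin m → Fin 5 → K} (hd : Dual e ε) {i j k : Fin m} (hij : i ≠ j)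
    (hik : i ≠ k) (hjk : j ≠ k) (hR : ∀ η, η ^ 3 = 1 → Cl G s (sw e ε i j η))
    (h1 : Rf G (sw e ε j k 1)) : ∀ η, η ^ 3 = 1 → Cl G s (sw e ε i k η) := fun η hη => by
  have := Cl_cj h1 (hR η hη)
  rwa [cj_sw_right hd hij hik hjk, mul_one] at this

/-- Two reflections over the same line of a frame have the same outer part. -/
theorem same0 {e ε : Fin 3 → Fin 5 → K} (hd : Dual e ε)
    (h01 : ∀ η, η ^ 3 = 1 → Cl G s (sw e ε 0 1 η)) (h12 : Rf G (sw e ε 1 2 1))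
    (hx : Cl G s x) (hy : Cl G s y) (x0 : Z e ε x 0) (x1 : Z e ε x 1) (x2 : X e ε x 2 = 1)
    (y0 : Z e ε y 0) (y1 : Z e ε y 1) (y2 : X e ε y 2 = 1) :
    (x.2 ⬝ᵥ y.1 - (x.2 ⬝ᵥ e 2) * (ε 2 ⬝ᵥ y.1)) * (y.2 ⬝ᵥ x.1 - (y.2 ⬝ᵥ e 2) * (ε 2 ⬝ᵥ x.1)) = 1 := by
  have d1 : x.2 ⬝ᵥ (cj (sw e ε 1 2 1) y).1 = x.2 ⬝ᵥ y.1 - (x.2 ⬝ᵥ e 2) * (ε 2 ⬝ᵥ y.1) := by
    rw [cj_dot_right]; simp [sw, y1.1, x1.2, mul_comm]
  have d2 : (cj (sw e ε 1 2 1) y).2 ⬝ᵥ x.1 = y.2 ⬝ᵥ x.1 - (y.2 ⬝ᵥ e 2) * (ε 2 ⬝ᵥ x.1) := by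
    rw [cj_dot_left]; simp [sw, y1.2, x1.1]
  have hy' := h12.cj hy.1
  rcases h.cv2 hx hy' with c | c | c
  · exfalso
    obtain ⟨c1, c2⟩ := h.rs.thin.of_cc hx.1 hy' c
    rw [d1, sub_eq_zero] at c1
    rw [d2, sub_eq_zero] at c2
    have xx := hx.1.1
    have yy := hy.1.1
    simp only [X] at x2 y2
    have D : Dual ![e 0, e 1, e 2, e 2 - (x.2 ⬝ᵥ e 2) • x.1, e 2 - (y.2 ⬝ᵥ e 2) • y.1]
        ![ε 0, ε 1, ε 2, ε 2 - (ε 2 ⬝ᵥ x.1) • x.2, ε 2 - (ε 2 ⬝ᵥ y.1) • y.2] := by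
      intro i j
      fin_cases i <;> fin_cases j <;>
        simp [hd _ _, x0.1, x0.2, x1.1, x1.2, y0.1, y0.2, y1.1, y1.2, xx, yy, c1, c2] <;>
        first
          | ring1
          | linear_combination x2 | linear_combination -x2 | linear_combination y2
          | linear_combination -y2
          | linear_combination ((y.2 ⬝ᵥ e 2) * (ε 2 ⬝ᵥ y.1) - 1) * x2
    generalize hE : ![e 0, e 1, e 2, e 2 - (x.2 ⬝ᵥ e 2) • x.1, e 2 - (y.2 ⬝ᵥ e 2) • y.1] = E at D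
    generalize hΕ : ![ε 0, ε 1, ε 2, ε 2 - (ε 2 ⬝ᵥ x.1) • x.2, ε 2 - (ε 2 ⬝ᵥ y.1) • y.2] = Ε at D
    have r01 : ∀ η, η ^ 3 = 1 → Cl G s (sw E Ε 0 1 η) := by subst hE hΕ; exact h01
    have s12 : Rf G (sw E Ε 1 2 1) := by subst hE hΕ; exact h12
    have s23 : Rf G (sw E Ε 2 3 1) := hx.1.of_N (by
      subst hE hΕ
      simp [sw, N_smul_left, N_smul_right, smul_smul, x2])
    have s24 : Rf G (sw E Ε 2 4 1) := hy.1.of_N (by
      subst hE hΕ
      simp [sw, N_smul_left, N_smul_right, smul_smul, y2])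
    have r02 := rstep D (by decide) (by decide) (by decide) r01 s12
    have r03 := rstep D (by decide) (by decide) (by decide) r02 s23
    have r04 := rstep D (by decide) (by decide) (by decide) r02 s24
    have r0 : ∀ j, j ≠ 0 → ∀ η, η ^ 3 = 1 → Cl G s (sw E Ε 0 j η) := fun j hj => by
      fin_cases j
      exacts [absurd rfl hj, r01, r02, r03, r04]
    refine h.no5 D fun i j hij => ?_
    by_cases hi : i = 0
    · exact hi ▸ r0 j (hi ▸ hij.symm)
    by_cases hj : j = 0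
    · exact hj ▸ rsym (r0 i hi)
    exact rstep D hi hij (Ne.symm hj) (rsym (r0 i hi)) (r0 j hj 1 (by simp)).1
  · rwa [cc, d1, d2] at c
  · have := ent_congr c (ε 2) (e 2)
    rw [dot_cj_sw_one hd, Equiv.swap_apply_right, y1.1, zero_mul] at this
    exact absurd (this.trans x2) zero_ne_one

end C3

end H96.LD
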