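import Cfsg.Agent.H96.LDFA1

/-! Tower LD5, job FA, part 2: the reflections commuting with a given one. -/

set_option autoImplicit false

open Matrix Cfsg Cfsg.Geo H41.LD
open H19 hiding cj
open scoped MatrixGroups commutatorElement

namespace H96.LD

universe u

variable {K : Type u} [Field K] {G : Subgroup (GL (Fin 5) K)} {x y z : R 5 K} {w κ κ' ω : K}
  {e ε : Fin 3 → Fin 5 → K}

/-- The part of the pairing coming from the frame. -/
def al (e ε : Fin 3 → Fin 5 → K) (φ v : Fin 5 → K) : K :=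
  (φ ⬝ᵥ e 0) * (ε 0 ⬝ᵥ v) + (φ ⬝ᵥ e 1) * (ε 1 ⬝ᵥ v) + (φ ⬝ᵥ e 2) * (ε 2 ⬝ᵥ v)

/-- The rest of the pairing. -/
def be (e ε : Fin 3 → Fin 5 → K) (φ v : Fin 5 → K) : K := φ ⬝ᵥ v - al e ε φ v

/-- The projection onto the span of the frame. -/
def pr (e ε : Fin 3 → Fin 5 → K) : Matrix (Fin 5) (Fin 5) K :=
  N (e 0, ε 0) + N (e 1, ε 1) + N (e 2, ε 2)

/-- Conjugation by the scalar `ω` on the span of the frame. -/
def zc (e ε : Fin 3 → Fin 5 → K) (ω : K) (x : R 5 K) : R 5 K :=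
  ((1 + (ω - 1) • pr e ε) *ᵥ x.1, x.2 ᵥ* (1 + (ω ^ 2 - 1) • pr e ε))

theorem dot_pr (φ v : Fin 5 → K) : φ ⬝ᵥ pr e ε *ᵥ v = al e ε φ v := by
  simp [pr, al, add_mulVec, N_mulVec, mul_comm]

theorem dot_zc (φ : Fin 5 → K) : φ ⬝ᵥ (zc e ε ω x).1 = φ ⬝ᵥ x.1 + (ω - 1) * al e ε φ x.1 := by
  simp [zc, add_mulVec, smul_mulVec, dot_pr]

theorem zc_dot (v : Fin 5 → K) : (zc e ε ω x).2 ⬝ᵥ v = x.2 ⬝ᵥ v + (ω ^ 2 - 1) * al e ε x.2 v := by
  simp [zc, ← dotProduct_mulVec, add_mulVec, smul_mulVec, dot_pr]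

theorem a_zc (hd : Dual e ε) (i : Fin 3) : ε i ⬝ᵥ (zc e ε ω x).1 = ω * (ε i ⬝ᵥ x.1) := by
  rw [dot_zc]; fin_cases i <;> simp [al, hd _ _] <;> ring

theorem b_zc (hd : Dual e ε) (i : Fin 3) : (zc e ε ω x).2 ⬝ᵥ e i = ω ^ 2 * (x.2 ⬝ᵥ e i) := by
  rw [zc_dot]; fin_cases i <;> simp [al, hd _ _] <;> ring

theorem cc_zc (y x : R 5 K) : cc y (zc e ε ω x) =
    (be e ε y.2 x.1 + ω * al e ε y.2 x.1) * (be e ε x.2 y.1 + ω ^ 2 * al e ε x.2 y.1) := by
  rw [cc, dot_zc, zc_dot, be, be]; ring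

theorem gram3 (hd : Dual e ε) (φ₁ φ₂ φ₃ v₁ v₂ v₃ : Fin 5 → K) :
    be e ε φ₁ v₁ * (be e ε φ₂ v₂ * be e ε φ₃ v₃ - be e ε φ₂ v₃ * be e ε φ₃ v₂) -
      be e ε φ₁ v₂ * (be e ε φ₂ v₁ * be e ε φ₃ v₃ - be e ε φ₂ v₃ * be e ε φ₃ v₁) +
      be e ε φ₁ v₃ * (be e ε φ₂ v₁ * be e ε φ₃ v₂ - be e ε φ₂ v₂ * be e ε φ₃ v₁) = 0 := by
  obtain ⟨E, h0, h1⟩ := hd.exists_ext (by norm_num)
  obtain ⟨E', -, -, h2⟩ := exists_compl (hd.snoc h0 h1)
  have : ∀ φ v, be e ε φ v = (φ ⬝ᵥ E.1) * (E.2 ⬝ᵥ v) + (φ ⬝ᵥ E'.1) * (E'.2 ⬝ᵥ v) := fun φ v => by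
    have := congrArg (fun A => φ ⬝ᵥ A *ᵥ v) h2
    rw [Fin.sum_univ_castSucc] at this
    simp only [Fin.snoc_castSucc, Fin.snoc_last] at this
    simp only [Fin.sum_univ_three, sub_mulVec, add_mulVec,
      one_mulVec, N_mulVec, dotProduct_sub, dotProduct_add, dotProduct_smul, smul_eq_mul] at this
    rw [be, al]
    linear_combination this
  simp only [this]
  ring

/-- The reflections commuting with the first swap, by type. -/
structure Ty (e ε : Fin 3 → Fin 5 → K) (κ : K) (x : R 5 K) : Prop where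
  a : ε 1 ⬝ᵥ x.1 = ε 0 ⬝ᵥ x.1
  b : x.2 ⬝ᵥ e 1 = x.2 ⬝ᵥ e 0
  c : (κ = 0 ∧ ε 0 ⬝ᵥ x.1 = 0 ∧ x.2 ⬝ᵥ e 0 = 0 ∧ (ε 2 ⬝ᵥ x.1) * (x.2 ⬝ᵥ e 2) = 1) ∨
    (κ ^ 3 = 1 ∧ ε 2 ⬝ᵥ x.1 = κ * (ε 0 ⬝ᵥ x.1) ∧ x.2 ⬝ᵥ e 2 = κ ^ 2 * (x.2 ⬝ᵥ e 0) ∧
      3 * ((ε 0 ⬝ᵥ x.1) * (x.2 ⬝ᵥ e 0)) = 1)

theorem Ty.kap (h : Ty e ε κ x) : 3 * ((ε 2 ⬝ᵥ x.1) * (x.2 ⬝ᵥ e 0)) = κ := by
  rcases h.c with ⟨h1, -, h2, -⟩ | ⟨-, h1, -, h2⟩
  · rw [h1, h2]; simp
  · rw [h1]; linear_combination κ * h2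

theorem Ty.eq (h : Ty e ε κ x) (h' : Ty e ε κ' y) (e1 : N x = N y) : κ = κ' := by
  rw [← h.kap, ← h'.kap, ent_congr e1]

theorem Ty.same (h : Ty e ε κ x) (h' : Ty e ε κ y) : al e ε x.2 y.1 * al e ε y.2 x.1 = 1 := by
  rw [al, al, h.a, h.b, h'.a, h'.b]
  rcases h.c with ⟨h1, h2, h3, h4⟩ | ⟨h1, h2, h3, h4⟩ <;>
    rcases h'.c with ⟨k1, k2, k3, k4⟩ | ⟨k1, k2, k3, k4⟩
  · rw [h2, h3, k2, k3]; linear_combination (ε 2 ⬝ᵥ y.1) * (y.2 ⬝ᵥ e 2) * h4 + k4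
  · simp [h1] at k1
  · simp [k1] at h1
  · rw [h2, h3, k2, k3]
    generalize ε 0 ⬝ᵥ x.1 = a at *
    generalize x.2 ⬝ᵥ e 0 = b at *
    generalize ε 0 ⬝ᵥ y.1 = a' at *
    generalize y.2 ⬝ᵥ e 0 = b' at *
    linear_combination (a * b * a' * b' * (κ ^ 3 + 5)) * h1 + 3 * (a' * b') * h4 + k4

theorem Ty.one (h : Ty e ε κ x) : al e ε x.2 x.1 = 1 := by
  rw [al, h.a, h.b]
  rcases h.c with ⟨h1, h2, h3, h4⟩ | ⟨h1, h2, h3, h4⟩
  · rw [h2]; linear_combination h4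
  · rw [h2, h3]; linear_combination h4 + (ε 0 ⬝ᵥ x.1) * (x.2 ⬝ᵥ e 0) * h1

theorem Ty.zc (hd : Dual e ε) (h : Ty e ε κ x) (hω : ω ^ 3 = 1) : Ty e ε κ (zc e ε ω x) := by
  refine ⟨by rw [a_zc hd, a_zc hd, h.a], by rw [b_zc hd, b_zc hd, h.b], ?_⟩
  simp only [a_zc hd, b_zc hd]
  rcases h.c with ⟨h1, h2, h3, h4⟩ | ⟨h1, h2, h3, h4⟩
  · exact Or.inl ⟨h1, by simp [h2], by simp [h3], by
      linear_combination h4 + (ε 2 ⬝ᵥ x.1) * (x.2 ⬝ᵥ e 2) * hω⟩
  · exact Or.inr ⟨h1, by rw [h2]; ring, by rw [h3]; ring, by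
      linear_combination h4 + 3 * (ε 0 ⬝ᵥ x.1) * (x.2 ⬝ᵥ e 0) * hω⟩

theorem Ty.cc (h : Ty e ε κ x) : cc (sw e ε 0 1 1) x = 0 := by simp [H41.LD.cc, sw, h.a]

theorem N_of_smul {n : ℕ} {x y : R n K} {c d : K} (h1 : y.1 = c • x.1) (h2 : y.2 = d • x.2)
    (h : c * d = 1) : N y = N x := by
  rw [show y = (c • x.1, d • x.2) from Prod.ext h1 h2, N_smul_left, N_smul_right, smul_smul, h,
    one_smul]

theorem cj_cj {n : ℕ} {t : R n K} (h : t.2 ⬝ᵥ t.1 = 2) (x : R n K) : cj t (cj t x) = x := by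
  rw [← cg_rf h, ← cg_rf h]; exact cg_inv_cg (rf t h) x

/-- The final configuration. -/
structure Cx (G : Subgroup (GL (Fin 5) K)) (e ε : Fin 3 → Fin 5 → K) (w : K) : Prop
    extends C3 G (sw e ε 0 1 1) w where
  f3 : Fin3 G e ε w

namespace Cx
variable (h : Cx G e ε w)
include h

theorem hd : Dual e ε := h.f3.fr.dual

theorem rfs {i j : Fin 3} (hij : i ≠ j) (hω : ω ^ 3 = 1) : Rf G (sw e ε i j ω) :=
  h.f3.fr.sw ((h.f3.mu ω).2 hω) hij

theorem cls {i j : Fin 3} (hij : i ≠ j) : ∀ η, η ^ 3 = 1 → Cl G (sw e ε 0 1 1) (sw e ε i j η) := by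
  have r02 : ∀ η, η ^ 3 = 1 → Cl G (sw e ε 0 1 1) (sw e ε 0 2 η) := fun η hη => by
    have := Cl_cj (h.rfs (i := 1) (j := 2) (by decide) hη) h.self
    rwa [cj_sw_right h.hd (by decide) (by decide) (by decide), one_mul] at this
  have r0 : ∀ j, j ≠ 0 → ∀ η, η ^ 3 = 1 → Cl G (sw e ε 0 1 1) (sw e ε 0 j η) := fun j hj => by
    fin_cases j
    exacts [absurd rfl hj, C3.rstep h.hd (by decide) (by decide) (by decide) r02
      (h.rfs (by decide) (by simp)), r02]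
  by_cases hi : i = 0
  · exact hi ▸ r0 j (hi ▸ hij.symm)
  by_cases hj : j = 0
  · rw [hj]; exact C3.rsym (r0 i hi)
  exact C3.rstep h.hd hi hij (Ne.symm hj) (C3.rsym (r0 i hi)) (r0 j hj 1 (by simp)).1

theorem in_z (hω : ω ^ 3 = 1) : In G (1 + (ω - 1) • pr e ε) := by
  have h2 : (ω ^ 2) ^ 3 = 1 := by rw [← pow_mul, mul_comm, pow_mul, hω, one_pow]
  have := (h.f3.fr.diag ((h.f3.mu ω).2 hω) (i := 0) (j := 1) (by decide)).mul
    (h.f3.fr.diag ((h.f3.mu _).2 h2) (i := 1) (j := 2) (by decide))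
  convert this using 1
  simp only [pr, inv_cube hω, inv_cube h2, mul_add, add_mul, mul_one, one_mul, Matrix.mul_smul,
    Matrix.smul_mul, N_mk_mul, h.hd _ _]
  simp only [Fin.isValue, ↓reduceIte, Fin.reduceEq, zero_smul, one_smul, smul_zero]
  match_scalars <;> first | ring1 | linear_combination (-ω) * hω

theorem cl_zc (hω : ω ^ 3 = 1) (hx : Cl G (sw e ε 0 1 1) x) : Cl G (sw e ε 0 1 1) (zc e ε ω x) := by
  obtain ⟨g, hg, e1⟩ := h.in_z hω
  have e2 : (g⁻¹).val = 1 + (ω ^ 2 - 1) • pr e ε := Units.inv_eq_of_mul_eq_one_right (by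
    rw [e1]
    simp only [pr, mul_add, add_mul, mul_one, one_mul, Matrix.mul_smul, Matrix.smul_mul, N_mk_mul,
      h.hd _ _, smul_add]
    simp only [Fin.isValue, ↓reduceIte, Fin.reduceEq, zero_smul, one_smul, smul_zero]
    match_scalars <;> first | ring1 | linear_combination hω)
  have := Cl_cg hx hg
  rwa [cg, e1, e2] at this

theorem pat (hx : Rf G x) : (∀ i, Z e ε x i) ∨
    (∃ i j η, i ≠ j ∧ η ^ 3 = 1 ∧ N x = N (sw e ε i j η)) ∨
    (∃ i, X e ε x i = 1 ∧ ∀ j, j ≠ i → Z e ε x j) ∨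
    ((∀ i, 3 * X e ε x i = 1) ∧ ∀ i j, (ε i ⬝ᵥ x.1) ^ 3 = (ε j ⬝ᵥ x.1) ^ 3) := by
  rcases h.f3.pat x hx with p | p | ⟨i, j, η, h1, h2, h3⟩ | ⟨i, -, p⟩ | p | p | p
  · exact Or.inl p
  · exact Or.inr (Or.inr (Or.inl p))
  · exact Or.inr (Or.inl ⟨i, j, η, h1, (h.f3.mu η).1 h2, h3⟩)
  · exfalso
    obtain ⟨j, hj⟩ := exists_ne i
    have := (hx.of_N p.symm).cj (h.rfs hj (ω := 1) (by simp))
    rw [show cj (dg e ε i) (sw e ε j i 1) = sw e ε j i (-1) by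
      simp [H41.LD.cj, sw, dg, h.hd.same, h.hd.ne hj, h.hd.ne hj.symm, inv_neg]
      constructor <;> module] at this
    exact h.two (by linear_combination -(h.f3.mu _).1 (h.f3.fr.mu_of (by simp) hj this))
  · exact absurd p.1 h.two
  · exact Or.inr (Or.inr (Or.inr p.2))
  · exact absurd (by linear_combination p.1 w ((h.f3.mu w).2 h.w3) - w * h.w3) h.w1

theorem diff0 (hx : Ty e ε κ x) (hy : Ty e ε κ' y) (hk : κ ≠ κ') :
    3 * (al e ε x.2 y.1 * al e ε y.2 x.1) = 1 := by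
  rw [al, al, hx.a, hx.b, hy.a, hy.b]
  rcases hx.c with ⟨h1, h2, h3, h4⟩ | ⟨h1, h2, h3, h4⟩ <;>
    rcases hy.c with ⟨k1, k2, k3, k4⟩ | ⟨k1, k2, k3, k4⟩
  · exact absurd (h1.trans k1.symm) hk
  · rw [h2, h3, k2, k3]
    linear_combination (3 * (ε 0 ⬝ᵥ y.1) * (y.2 ⬝ᵥ e 0) * κ' ^ 3) * h4 + k4 +
      3 * (ε 0 ⬝ᵥ y.1) * (y.2 ⬝ᵥ e 0) * k1
  · rw [h2, h3, k2, k3]
    linear_combination (3 * (ε 0 ⬝ᵥ x.1) * (x.2 ⬝ᵥ e 0) * κ ^ 3) * k4 + h4 +
      3 * (ε 0 ⬝ᵥ x.1) * (x.2 ⬝ᵥ e 0) * h1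
  · rw [h2, h3, k2, k3]
    have s : κ ^ 2 + κ * κ' + κ' ^ 2 = 0 := mul_left_cancel₀ (sub_ne_zero.2 hk) (by
      linear_combination h1 - k1)
    generalize ε 0 ⬝ᵥ x.1 = a at *
    generalize x.2 ⬝ᵥ e 0 = b at *
    generalize ε 0 ⬝ᵥ y.1 = a' at *
    generalize y.2 ⬝ᵥ e 0 = b' at *
    have s' : κ ^ 2 * κ' + κ * κ' ^ 2 = -1 := by linear_combination κ * s - h1
    linear_combination 3 * (a' * b') * h4 + k4 + 6 * a * b * a' * b' * s' +
      3 * a * b * a' * b' * κ' ^ 3 * h1 + 3 * a * b * a' * b' * k1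

theorem same (cx : Cl G (sw e ε 0 1 1) x) (cy : Cl G (sw e ε 0 1 1) y) (hx : Ty e ε κ x)
    (hy : Ty e ε κ y) : ∃ ω, ω ^ 3 = 1 ∧ N (zc e ε ω x) = N y := by
  have om := h.om
  have w3 := h.w3
  have b1 : be e ε x.2 y.1 * be e ε y.2 x.1 = 1 := by
    rcases hx.c with ⟨h1, h2, h3, h4⟩ | ⟨h1, h2, h3, h4⟩ <;>
      rcases hy.c with ⟨k1, k2, k3, k4⟩ | ⟨k1, k2, k3, k4⟩
    · have := h.same0 h.hd (h.cls (by decide)) (h.rfs (by decide) (by simp)) cx cy ⟨h2, h3⟩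
        ⟨hx.a.trans h2, hx.b.trans h3⟩ h4 ⟨k2, k3⟩ ⟨hy.a.trans k2, hy.b.trans k3⟩ k4
      simpa [be, al, hx.b, hy.b, h3, k3] using this
    · simp [h1] at k1
    · simp [k1] at h1
    obtain ⟨t, ht⟩ : ∃ t : K, 3 * t = 1 := ⟨3⁻¹, mul_inv_cancel₀ h.three⟩
    have D : Dual ![w • e 0 + w ^ 2 • e 1 + κ • e 2, w ^ 2 • e 0 + w • e 1 + κ • e 2,
        e 0 + e 1 + κ • e 2] ![t • (w ^ 2 • ε 0 + w • ε 1 + κ ^ 2 • ε 2),
        t • (w • ε 0 + w ^ 2 • ε 1 + κ ^ 2 • ε 2), t • (ε 0 + ε 1 + κ ^ 2 • ε 2)] := by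
      intro i j
      fin_cases i <;> fin_cases j <;> simp [h.hd _ _] <;>
        first
          | linear_combination ht + 2 * t * w3 + t * h1
          | linear_combination ht + t * h1
          | linear_combination t * (om + h1)
          | linear_combination t * (om + h1 + w * w3)
          | (right; linear_combination om + h1)
          | (right; linear_combination om + h1 + w * w3)
    have w2 : (w ^ 2)⁻¹ = w := inv_eq_of_mul_eq_one_right (by linear_combination w3)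
    have := h.same0 D (fun η hη => by
        rcases h.cube hη with rfl | rfl | rfl
        · exact Cl_of_N h.self (N_of_smul (c := w - w ^ 2) (d := t * (w ^ 2 - w))
            (by simp [sw]; module) (by simp [sw]; module)
            (by linear_combination ht + t * (2 - w) * w3 - t * om))
        · exact Cl_of_N (h.cls (i := 0) (j := 2) (by decide) κ h1)
            (N_of_smul (c := η - 1) (d := t * (η ^ 2 - 1))
            (by simp [sw]; match_scalars <;> first | ring1 | linear_combination -w3)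
            (by simp [sw, inv_cube h1, inv_cube w3]
                match_scalars <;> first | ring1 | linear_combination (-t) * w3 |
                  linear_combination (-t * η) * w3)
            (by linear_combination ht + t * w3 - t * om))
        · exact Cl_of_N (h.cls (i := 1) (j := 2) (by decide) κ h1)
            (N_of_smul (c := w ^ 2 - 1) (d := t * (w - 1))
            (by simp [sw]
                match_scalars <;> first | ring1 | linear_combination -w3 |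
                  linear_combination (-w) * w3)
            (by simp [sw, inv_cube h1, w2]
                match_scalars <;> first | ring1 | linear_combination (-t) * w3)
            (by linear_combination ht + t * w3 - t * om)))
      ((h.rfs (i := 0) (j := 1) (by decide) w3).of_N (N_of_smul (c := w ^ 2 - 1) (d := t * (w - 1))
        (by simp [sw]; match_scalars <;> first | ring1 | linear_combination w3)
        (by simp [sw, inv_cube w3]; match_scalars <;> first | ring1 | linear_combination t * w3)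
        (by linear_combination ht + t * w3 - t * om))) cx cy
      ⟨by simp [hx.a, h2]; linear_combination t * (ε 0 ⬝ᵥ x.1) * (om + h1),
        by simp [hx.b, h3]; linear_combination (x.2 ⬝ᵥ e 0) * (om + h1)⟩
      ⟨by simp [hx.a, h2]; linear_combination t * (ε 0 ⬝ᵥ x.1) * (om + h1),
        by simp [hx.b, h3]; linear_combination (x.2 ⬝ᵥ e 0) * (om + h1)⟩
      (by
        simp [X, hx.a, h2, hx.b, h3]
        linear_combination (t * (ε 0 ⬝ᵥ x.1) * (x.2 ⬝ᵥ e 0) * (κ ^ 3 + 5)) * h1 + 3 * t * h4 + ht)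
      ⟨by simp [hy.a, k2]; linear_combination t * (ε 0 ⬝ᵥ y.1) * (om + h1),
        by simp [hy.b, k3]; linear_combination (y.2 ⬝ᵥ e 0) * (om + h1)⟩
      ⟨by simp [hy.a, k2]; linear_combination t * (ε 0 ⬝ᵥ y.1) * (om + h1),
        by simp [hy.b, k3]; linear_combination (y.2 ⬝ᵥ e 0) * (om + h1)⟩
      (by
        simp [X, hy.a, k2, hy.b, k3]
        linear_combination (t * (ε 0 ⬝ᵥ y.1) * (y.2 ⬝ᵥ e 0) * (κ ^ 3 + 5)) * h1 + 3 * t * k4 + ht)
    convert this using 2 <;> simp [be, al, hx.a, hx.b, hy.a, hy.b, h2, h3, k2, k3]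
    · linear_combination (-(ε 0 ⬝ᵥ y.1) * (x.2 ⬝ᵥ e 0) * (κ ^ 3 + 2)) * ht -
        (t * (ε 0 ⬝ᵥ y.1) * (x.2 ⬝ᵥ e 0) * (κ ^ 3 + 2)) * h1
    · linear_combination (-(ε 0 ⬝ᵥ x.1) * (y.2 ⬝ᵥ e 0) * (κ ^ 3 + 2)) * ht -
        (t * (ε 0 ⬝ᵥ x.1) * (y.2 ⬝ᵥ e 0) * (κ ^ 3 + 2)) * h1
  have a1 := hx.same hy
  by_contra hn
  have key : ∀ ω, ω ^ 3 = 1 → cc y (zc e ε ω x) = 0 ∨ cc y (zc e ε ω x) = 1 := fun ω hω =>
    (h.cv2 cy (h.cl_zc hω cx).1).imp_right fun c => c.resolve_right fun c => hn ⟨ω, hω, c⟩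
  simp only [cc_zc] at key
  generalize be e ε x.2 y.1 = β at *
  generalize be e ε y.2 x.1 = β' at *
  generalize al e ε x.2 y.1 = α at *
  generalize al e ε y.2 x.1 = α' at *
  have p : (α' * β) * (α * β') = 1 := by linear_combination (β * β') * a1 + b1
  have k : ∀ ω, ω ^ 3 = 1 → 2 + ω * (α' * β) + ω ^ 2 * (α * β') = 0 ∨
      2 + ω * (α' * β) + ω ^ 2 * (α * β') = 1 := fun ω hω => (key ω hω).imp
    (fun c => by linear_combination c - b1 - a1 - α * α' * hω)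
    fun c => by linear_combination c - b1 - a1 - α * α' * hω
  generalize α' * β = ρ at *
  generalize α * β' = σ at *
  rcases k 1 (by simp) with c | c
  · have r : ρ = -1 := by
      have : (ρ + 1) ^ 2 = 0 := by linear_combination ρ * c - p
      linear_combination pow_eq_zero_iff (two_ne_zero) |>.1 this
    have s : σ = -1 := by linear_combination c - r
    rcases k w w3 with c | c <;> rw [r, s] at c
    · exact h.three (by linear_combination c + om)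
    · exact h.two (by linear_combination c + om)
  · have r : ρ ^ 3 = 1 := by linear_combination (ρ - 1) * (ρ * c - p)
    have s : σ = ρ ^ 2 := by linear_combination ρ ^ 2 * p - σ * r
    rcases k (ρ ^ 2) (by linear_combination (ρ ^ 3 + 1) * r) with c | c <;> rw [s] at c
    · exact mul_ne_zero h.two h.two (by linear_combination c - (ρ ^ 3 + 2) * r)
    · exact h.three (by linear_combination c - (ρ ^ 3 + 2) * r)

theorem diff (cx : Cl G (sw e ε 0 1 1) x) (cy : Cl G (sw e ε 0 1 1) y) (hx : Ty e ε κ x)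
    (hy : Ty e ε κ' y) (hk : κ ≠ κ') : ∃ ρ, ρ ^ 3 = 1 ∧ be e ε x.2 y.1 = -(ρ * al e ε x.2 y.1) ∧
      be e ε y.2 x.1 = -(ρ ^ 2 * al e ε y.2 x.1) := by
  by_contra hn
  have key : ∀ ω, ω ^ 3 = 1 → cc x (zc e ε ω y) = 1 := fun ω hω => by
    rcases h.cv2 cx (h.cl_zc hω cy).1 with c | c | c
    · have := h.rs.thin.of_cc cx.1 (h.cl_zc hω cy).1 c
      rw [dot_zc, zc_dot] at this
      exact absurd ⟨ω, hω, by rw [be]; linear_combination this.1,
        by rw [be]; linear_combination this.2⟩ hn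
    · exact c
    · exact absurd (hx.eq (hy.zc h.hd hω) c.symm) hk
  simp only [cc_zc] at key
  have a1 := h.diff0 hx hy hk
  have om := h.om
  have w3 := h.w3
  have e1 := key 1 (by simp)
  have e2 := key w w3
  have e3 := key (w ^ 2) (by linear_combination (w ^ 3 + 1) * w3)
  generalize be e ε x.2 y.1 = β at *
  generalize be e ε y.2 x.1 = β' at *
  generalize al e ε x.2 y.1 = α at *
  generalize al e ε y.2 x.1 = α' at *
  have s1 : β * β' + α * α' = 1 := mul_left_cancel₀ h.three (by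
    linear_combination e1 + e2 + e3 - (α * β' + α' * β) * om -
      (α' * β * w + α * α' * (w ^ 3 + 2)) * w3)
  have s2 : α * β' = α' * β := mul_left_cancel₀ (mul_ne_zero (ne_cube w3) (sub_ne_zero.2 h.w1)) (by
    linear_combination e3 - e2 - (α * α' * w ^ 3 + α' * β * w) * w3)
  have s3 : α * β' = 0 := mul_left_cancel₀ h.two (by linear_combination e1 - s1 + s2)
  have s4 : β' = 0 := by linear_combination 3 * α' * s3 - β' * a1
  rw [s4] at s1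
  exact h.two (by linear_combination a1 - 3 * s1)

theorem cc_same (cx : Cl G (sw e ε 0 1 1) x) (cy : Cl G (sw e ε 0 1 1) y) (hx : Ty e ε κ x)
    (hy : Ty e ε κ y) : cc x y ≠ 0 := fun c => by
  obtain ⟨ω, hω, e1⟩ := h.same cx cy hx hy
  rw [cc_congr rfl e1.symm, cc_zc, be, cx.1.1, hx.one] at c
  rcases h.cube hω with rfl | rfl | rfl
  · exact mul_ne_zero h.two h.two (by linear_combination c)
  · exact one_ne_zero (by linear_combination c - h.om - hω : (1 : K) = 0)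
  · exact one_ne_zero (by linear_combination c - h.om - hω - w * h.w3 : (1 : K) = 0)

theorem be0 (cx : Cl G (sw e ε 0 1 1) x) (cy : Cl G (sw e ε 0 1 1) y) (c : cc x y = 0) :
    be e ε x.2 y.1 = -al e ε x.2 y.1 ∧ be e ε y.2 x.1 = -al e ε y.2 x.1 := by
  have := h.rs.thin.of_cc cx.1 cy.1 c
  simp [be, this.1, this.2]

/-- Commuting is transitive. -/
theorem trans {κ'' : K} (cx : Cl G (sw e ε 0 1 1) x) (cy : Cl G (sw e ε 0 1 1) y)
    (cz : Cl G (sw e ε 0 1 1) z) (hx : Ty e ε κ x) (hy : Ty e ε κ' y) (hz : Ty e ε κ'' z)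
    (c1 : cc x y = 0) (c2 : cc x z = 0) : N y = N z ∨ cc y z = 0 := by
  have n1 : κ ≠ κ' := fun e1 => h.cc_same cx cy hx (e1 ▸ hy) c1
  have n2 : κ ≠ κ'' := fun e1 => h.cc_same cx cz hx (e1 ▸ hz) c2
  obtain ⟨b1, b2⟩ := h.be0 cx cy c1
  obtain ⟨b3, b4⟩ := h.be0 cx cz c2
  have a1 := h.diff0 hx hy n1
  have a2 := h.diff0 hx hz n2
  by_cases n3 : κ' = κ''
  · obtain ⟨ω, hω, e1⟩ := h.same cy cz hy (n3 ▸ hz)
    rw [cc_congr rfl e1.symm, cc_zc, b1, b2] at c2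
    have : (ω - 1) * (ω ^ 2 - 1) = 0 := by
      linear_combination 3 * c2 - (ω - 1) * (ω ^ 2 - 1) * a1
    have o1 : ω = 1 := by
      rcases mul_eq_zero.1 this with e2 | e2
      · linear_combination e2
      · linear_combination hω - ω * e2
    refine Or.inl (Eq.trans ?_ e1)
    simp [zc, o1]
  obtain ⟨ρ, hρ, b5, b6⟩ := h.diff cy cz hy hz n3
  have a3 := h.diff0 hy hz n3
  have g := gram3 h.hd x.2 y.2 z.2 x.1 y.1 z.1
  have o : ∀ {u : R 5 K} {k : K}, Cl G (sw e ε 0 1 1) u → Ty e ε k u → be e ε u.2 u.1 = 1 :=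
    fun cu hu => by rw [be, cu.1.1, hu.one]; norm_num
  rw [b1, b2, b3, b4, b5, b6, o cx hx, o cy hy, o cz hz] at g
  have g' : al e ε x.2 x.1 * (al e ε y.2 y.1 * al e ε z.2 z.1 - al e ε y.2 z.1 * al e ε z.2 y.1) -
      al e ε x.2 y.1 * (al e ε y.2 x.1 * al e ε z.2 z.1 - al e ε y.2 z.1 * al e ε z.2 x.1) +
      al e ε x.2 z.1 * (al e ε y.2 x.1 * al e ε z.2 y.1 - al e ε y.2 y.1 * al e ε z.2 x.1) = 0 := by
    simp only [al, hx.a, hx.b, hy.a, hy.b, hz.a, hz.b]; ring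
  rw [hx.one, hy.one, hz.one] at g'
  have r : ρ = 1 := by
    generalize al e ε x.2 y.1 = a at *
    generalize al e ε y.2 x.1 = a' at *
    generalize al e ε x.2 z.1 = b at *
    generalize al e ε z.2 x.1 = b' at *
    generalize al e ε y.2 z.1 = c at *
    generalize al e ε z.2 y.1 = c' at *
    have t1 : a * c * b' + b * a' * c' = 0 := mul_left_cancel₀ h.three (by
      linear_combination 3 * g' + a1 + a2 + a3)
    have t2 : ρ * (a * c * b') + ρ ^ 2 * (b * a' * c') = 0 := mul_left_cancel₀ h.three (by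
      linear_combination -3 * g - a1 - a2 - a3 - 3 * c * c' * hρ)
    have t3 : (ρ - ρ ^ 2) * (a * c * b') = 0 := by linear_combination t2 - ρ ^ 2 * t1
    have t4 : ρ - ρ ^ 2 = 0 := by
      linear_combination 27 * (b * a' * c') * t3 -
        (ρ - ρ ^ 2) * (9 * (b * b') * (c * c') * a1 + 3 * (c * c') * a2 + a3)
    linear_combination (-ρ ^ 2) * t4 + (1 - ρ) * hρ
  right
  rw [be, r] at b5
  rw [H41.LD.cc, show y.2 ⬝ᵥ z.1 = 0 by linear_combination b5, zero_mul]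

theorem kill (cx : Cl G (sw e ε 0 1 1) x) (cy : Cl G (sw e ε 0 1 1) y) (hx : Ty e ε κ x)
    (hy : Ty e ε κ' y) (hk : κ ≠ κ') {φ : Fin 5 → K} (h0 : ∀ i, φ ⬝ᵥ e i = 0) (h1 : φ ⬝ᵥ x.1 = 0)
    (h2 : φ ⬝ᵥ y.1 = 0) : φ = 0 := by
  obtain ⟨ρ, hρ, b1, b2⟩ := h.diff cx cy hx hy hk
  have a1 := h.diff0 hx hy hk
  have o : ∀ {u : R 5 K} {k : K}, Cl G (sw e ε 0 1 1) u → Ty e ε k u → be e ε u.2 u.1 = 1 :=
    fun cu hu => by rw [be, cu.1.1, hu.one]; norm_num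
  refine dotProduct_eq_zero φ fun v => ?_
  have g := gram3 h.hd φ x.2 y.2 x.1 y.1 v
  have p : ∀ v, be e ε φ v = φ ⬝ᵥ v := fun v => by simp [be, al, h0]
  rw [p, p, p, h1, h2, b1, b2, o cx hx, o cy hy] at g
  exact mul_left_cancel₀ h.two (by
    linear_combination 3 * g + (φ ⬝ᵥ v) * a1 +
      3 * (φ ⬝ᵥ v) * (al e ε x.2 y.1 * al e ε y.2 x.1) * hρ)

end Cx

end H96.LD
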