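/- ND tower (S4780), job Ab2: the action of the complement on the linear characters of `N'`. -/
import Cfsg.Agent.H23.NDSpec

set_option autoImplicit false
open Cfsg H28 H32 H44 H93.DG H55.Nd MulAction H23.ND H23.Garr

namespace H96.NDAb2

universe u

variable {G : Type u} [Group G] [Finite G]

theorem nqp {M Γ : Subgroup G} [M.Normal] (h1 : Γ ⊓ M = ⊥) (h2 : Γ ⊔ M = ⊤) (h : NQP G) : NQP Γ := by
  have hb : Function.Bijective ((QuotientGroup.mk' M).comp Γ.subtype) := by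
    refine ⟨(injective_iff_map_eq_one _).2 fun a ha => Subtype.ext ?_, fun q => ?_⟩
    · exact Subgroup.mem_bot.1 (h1 ▸ ⟨a.2, (QuotientGroup.eq_one_iff _).1 ha⟩)
    · obtain ⟨g, rfl⟩ := QuotientGroup.mk_surjective q
      obtain ⟨a, ha, m, hm, rfl⟩ := Subgroup.mem_sup_of_normal_right.1 (h2 ▸ Subgroup.mem_top g)
      exact ⟨⟨a, ha⟩, QuotientGroup.eq.2 (by simpa using hm)⟩
  let π : G →* Γ := (MulEquiv.ofBijective _ hb).symm.toMonoidHom.comp (QuotientGroup.mk' M)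
  have hs : Function.Surjective π :=
    (MulEquiv.ofBijective _ hb).symm.surjective.comp (QuotientGroup.mk'_surjective M)
  intro r hr K _ hK
  have := h r hr (K.comap π) fun q => by
    obtain ⟨g, rfl⟩ := QuotientGroup.mk_surjective q
    obtain ⟨k, hk⟩ := hK (π g)
    refine ⟨k, ?_⟩
    rw [← QuotientGroup.mk_pow, QuotientGroup.eq_one_iff] at hk ⊢
    rwa [Subgroup.mem_comap, map_pow]
  rw [commutator_def, Subgroup.commutator_le]
  intro a _ b _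
  obtain ⟨a, rfl⟩ := hs a
  obtain ⟨b, rfl⟩ := hs b
  rw [← map_commutatorElement]
  exact this (Subgroup.commutator_mem_commutator (Subgroup.mem_top a) (Subgroup.mem_top b))

theorem jobAb2 (fq : JobFq.{u}) : JobAb2.{u} := by
  intro G _ _ p N Γ hN h b0 bf nq h1 h2
  classical
  have MN : ⁅N, N⁆ ≤ N := Subgroup.commutator_le_left N N
  have hM : (⁅N, N⁆ : Subgroup G).Normal := inferInstance
  have inj : ∀ x ∈ Γ, x ∈ ⁅N, N⁆ → x = 1 := fun x a b => Subgroup.mem_bot.1 (h1 ▸ ⟨a, b⟩)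
  have dec : ∀ g, ∃ a ∈ Γ, ∃ m ∈ ⁅N, N⁆, a * m = g := fun g =>
    Subgroup.mem_sup_of_normal_right.1 (h2 ▸ Subgroup.mem_top g)
  have cmΓ : ∀ a b : Γ, (a : G) * b * (a : G)⁻¹ * (b : G)⁻¹ ∈ ⁅N, N⁆ → a * b = b * a := fun a b k => by
    have := inj _ (Γ.mul_mem (Γ.mul_mem (Γ.mul_mem a.2 b.2) (Γ.inv_mem a.2)) (Γ.inv_mem b.2)) k
    refine Subtype.ext ?_
    rwa [mul_inv_eq_one, mul_inv_eq_iff_eq_mul] at this
  have ab : ∀ a ∈ N.subgroupOf Γ, ∀ b ∈ N.subgroupOf Γ, a * b = b * a := fun a ha b hb =>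
    cmΓ a b (cm_mem ha hb)
  have cc : ∀ b : Γ, (b : G) ∈ N → ((b : G) ∈ CC N ↔ b ∈ Subgroup.center Γ) := fun b hb => by
    rw [mem_CC, Subgroup.mem_center_iff]
    refine ⟨fun k g => cmΓ g b (k.2 g), fun k => ⟨hb, fun g => ?_⟩⟩
    obtain ⟨a, ha, m, hm, rfl⟩ := dec g
    have e : a * b = b * a := congrArg Subtype.val (k ⟨a, ha⟩)
    have := hM.conj_mem _ (mul_mem hm (hM.conj_mem _ (inv_mem hm) b)) a
    convert this using 1
    calc a * m * b * (a * m)⁻¹ * (b : G)⁻¹ = a * m * b * m⁻¹ * ((b : G) * a)⁻¹ := by group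
      _ = _ := by rw [← e]; group
  have onto : ∀ b : Γ, (b : G) ∈ N → b ∉ Subgroup.center Γ → ∀ y ∈ ⁅N, N⁆,
      ∃ m ∈ ⁅N, N⁆, (b : G)⁻¹ * m * b * m⁻¹ = y := fun b hb hc y hy => by
    obtain ⟨a, ha, e⟩ := bf.cl b hb (fun k => hc ((cc b hb).1 k)) y hy
    obtain ⟨c, hc, m, hm, e1⟩ := dec a
    have hcN : c ∈ N := by
      have := N.mul_mem ha (N.inv_mem (MN hm))
      rwa [← e1, mul_inv_cancel_right] at this
    have e2 : c * b = b * c := congrArg Subtype.val (ab ⟨c, hc⟩ hcN b hb)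
    refine ⟨c * m * c⁻¹, hM.conj_mem _ hm c, ?_⟩
    rw [← mul_right_inj (b : G), ← e, ← e1]
    calc (b : G) * ((b : G)⁻¹ * (c * m * c⁻¹) * b * (c * m * c⁻¹)⁻¹) =
        c * m * c⁻¹ * (b * c) * m⁻¹ * c⁻¹ := by group
      _ = _ := by rw [← e2]; group
  have fpf : ∀ b : Γ, (b : G) ∈ N → b ∉ Subgroup.center Γ → ∀ y ∈ ⁅N, N⁆,
      (b : G) * y = y * b → y = 1 := fun b hb hc y hy e => by
    let φ : (⁅N, N⁆ : Subgroup G) → (⁅N, N⁆ : Subgroup G) := fun m =>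
      ⟨(b : G)⁻¹ * m * b * (m : G)⁻¹, mul_mem (hM.conj_mem' _ m.2 _) (inv_mem m.2)⟩
    have hs : Function.Surjective φ := fun y => by
      obtain ⟨m, hm, e⟩ := onto b hb hc y y.2
      exact ⟨⟨m, hm⟩, Subtype.ext e⟩
    have := Finite.injective_iff_surjective.2 hs (a₁ := ⟨y, hy⟩) (a₂ := 1) (Subtype.ext (by
      show (b : G)⁻¹ * y * b * y⁻¹ = (b : G)⁻¹ * 1 * b * (1 : G)⁻¹
      rw [mul_assoc (b : G)⁻¹ y, ← e]; group))
    exact congrArg Subtype.val this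
  have fp : ∀ b ∈ N.subgroupOf Γ, b ∉ Subgroup.center Γ → ∀ l : Lin ↥⁅N, N⁆, b • l = l → l = 1 :=
    fun b hb hc l e => Lin.ext' fun y => by
      obtain ⟨m, hm, e1⟩ := onto b hb hc y y.2
      have h3 := hom_conj (l := l) (g := (b : G)⁻¹) (inv_mem (show (b : G) ∈ stabilizer G l from e)) ⟨m, hm⟩
      have : y = ⟨(b : G)⁻¹ * m * (b : G)⁻¹⁻¹, hM.conj_mem _ hm _⟩ * (⟨m, hm⟩ : ↥⁅N, N⁆)⁻¹ :=
        Subtype.ext (by rw [← e1]; simp)
      rw [this, map_mul, map_inv, h3, mul_inv_cancel, Lin.one_hom]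
  have ne : ¬ N.subgroupOf Γ ≤ Subgroup.center Γ := fun k => by
    obtain ⟨x, hx, hc⟩ := bf.ne
    obtain ⟨a, ha, m, hm, rfl⟩ := dec x
    have haN : a ∈ N := by simpa using N.mul_mem hx (N.inv_mem (MN hm))
    exact hc (mul_mem ((cc ⟨a, ha⟩ haN).2 (k haN))
      (mem_CC.2 ⟨MN hm, fun g => mul_mem (hM.conj_mem _ hm g) (inv_mem hm)⟩))
  cases nonempty_fintype ↥⁅N, N⁆
  cases nonempty_fintype N
  have dg : ∀ l : Lin ↥⁅N, N⁆, Dg (ch l) (stabilizer Γ l).index := fun l => by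
    obtain ⟨μ, hμ⟩ := exists_ext (J := Γ) (by rw [sup_comm, h2]) (l := l) fun y hy => by
      rw [show y = 1 from Subtype.ext (inj _ hy y.2), map_one]
    have := dg_of_ext hμ isIrrCharacter_one (by rw [charKer_one]; exact le_top)
    rwa [show charDegree (fun _ : stabilizer G l => (1 : ℂ)) = 1 from charDegree_ch 1, mul_one,
      ← ix_stab h2] at this
  obtain ⟨h', hh, m, hm, e⟩ := dec h
  have gen : N.subgroupOf Γ ⊔ Subgroup.zpowers (⟨h', hh⟩ : Γ) = ⊤ := by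
    have g1 : N ⊔ Subgroup.zpowers h' = ⊤ := by
      rw [eq_top_iff, ← b0.gen, sup_le_iff, Subgroup.zpowers_le, ← e]
      exact ⟨le_sup_left, mul_mem (Subgroup.mem_sup_right (Subgroup.mem_zpowers _))
        (Subgroup.mem_sup_left (MN hm))⟩
    refine eq_top_iff.2 fun g _ => ?_
    obtain ⟨x, hx, _, ⟨k, rfl⟩, e1⟩ := dec_gen g1 (g : G)
    have : g = g * ((⟨h', hh⟩ : Γ) ^ k)⁻¹ * (⟨h', hh⟩ : Γ) ^ k := by simp
    rw [this]
    refine mul_mem (Subgroup.mem_sup_left ?_) (Subgroup.mem_sup_right ⟨k, rfl⟩)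
    rw [Subgroup.mem_subgroupOf]
    simpa [e1] using hx
  refine ⟨⟨⟨h', hh⟩, ab, gen, fq Γ _ _ (nqp h1 h2 nq) ab gen fun g hg b hb e1 => ?_, ne, fp,
    fun l l' hl _ hd => ?_, fun l hl hd => ?_⟩, fpf, fun l => (dg l).mem_cd⟩
  · refine (cc b hb).1 (bf.fr g hg b hb ?_)
    rw [show (g : G) * b = b * g from congrArg Subtype.val e1]
    simp
  · refine b0.nd.eq (dg l).mem_cd (dg l').mem_cd (fun e1 => ne fun b hb => by_contra fun hc => ?_) hd
    exact hl (fp b hb hc l (show b ∈ stabilizer Γ l from Subgroup.index_eq_one.1 e1 ▸ Subgroup.mem_top b))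
  · rw [ix_eq h2 MN] at hd
    have e1 := b0.nd.eq b0.cdf (dg l).mem_cd b0.one.ne' hd
    obtain ⟨χ, c1, c2, c3⟩ := dg l
    obtain ⟨θ, t1, t2⟩ := exists_constituent_res (H := N) c1.isCharacter c1.apply_one_ne_zero
    obtain ⟨k, -, hk⟩ := exists_degree_mul c1 t1 t2
    refine b0.np ?_
    rw [e1, ← c3, hk]
    exact (b0.dv _ (H44.mem_cd t1) fun e2 => not_le_of_dg hl c1 c2 ((deg_ne_one c1 t1 t2).2 e2)).mul_left _

end H96.NDAb2
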