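import Cfsg.Agent.H1.O7MU3
import Cfsg.Agent.H77.LDMU42
import Cfsg.Agent.H93.U33M

/-! O7, jobs MU33 and MS43: the configurations of `U₃(3)` and `PSp₄(3)`. -/

set_option autoImplicit false
set_option maxRecDepth 100000

namespace H96.O7MU

open Cfsg Matrix Subgroup H31.O7
open H20.LD (cp)

section kit

variable {M G Γ : Type*} [Monoid M] [DecidableEq M] [Group G] [Group Γ]

/-- A straight line program, up to the element number `n`. -/
def chk (dec : ℕ → M) (n : ℕ) : List ℕ → List (ℕ × ℕ × ℕ) → Bool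
  | _, [] => true
  | L, p :: P => decide (p.1 ∈ L ∧ p.2.1 ∈ L ∧ (dec p.1 * dec p.2.1 = dec p.2.2 ∨
      dec n * (dec p.1 * dec p.2.1) = dec p.2.2)) && chk dec n (p.2.2 :: L) P

/-- The matrix model. -/
structure Md (dec : ℕ → M) (n : ℕ) (φ : G →* M) (f : G →* Γ) : Prop where
  inj : Function.Injective φ
  ex : ∃ g, φ g = dec n ∧ f g = 1
  ker : ∀ x, f x = 1 → x ∈ center G

/-- The element number `a`. -/
noncomputable def E (dec : ℕ → M) (φ : G →* M) (f : G →* Γ) (a : ℕ) : Γ :=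
  f (Function.invFun φ (dec a))

variable {dec : ℕ → M} {n : ℕ} {φ : G →* M} {f : G →* Γ} (h : Md dec n φ f)
include h

omit [DecidableEq M] in
theorem Md.eq {g : G} {a : ℕ} (e : φ g = dec a) : E dec φ f a = f g := by
  rw [E, ← e, Function.leftInverse_invFun h.inj]

theorem Md.run (K : Subgroup Γ) : ∀ (P : List (ℕ × ℕ × ℕ)) (L : List ℕ), chk dec n L P = true →
    (∀ a ∈ L, (∃ g, φ g = dec a) ∧ E dec φ f a ∈ K) → ∀ p ∈ P,
      E dec φ f p.2.2 ∈ K ∧ E dec φ f p.1 * E dec φ f p.2.1 = E dec φ f p.2.2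
  | [], _, _, _ => by simp
  | p :: P, L, c, hL => by
    simp only [chk, Bool.and_eq_true, decide_eq_true_eq] at c
    obtain ⟨⟨a, ha⟩, ka⟩ := hL _ c.1.1
    obtain ⟨⟨b, hb⟩, kb⟩ := hL _ c.1.2.1
    obtain ⟨g, h1, h2⟩ : ∃ g, φ g = dec p.2.2 ∧ f g = f a * f b := by
      rcases c.1.2.2 with e | e
      · exact ⟨a * b, by rw [map_mul, ha, hb, e], map_mul _ _ _⟩
      · obtain ⟨z, h1, h2⟩ := h.ex
        exact ⟨z * (a * b), by rw [map_mul, map_mul, ha, hb, h1, e], by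
          rw [map_mul, h2, one_mul, map_mul]⟩
    have e : E dec φ f p.1 * E dec φ f p.2.1 = E dec φ f p.2.2 := by
      rw [h.eq ha, h.eq hb, h.eq h1, h2]
    exact List.forall_mem_cons.2 ⟨⟨e ▸ mul_mem ka kb, e⟩, Md.run K P _ c.2
      (List.forall_mem_cons.2 ⟨⟨⟨g, h1⟩, e ▸ mul_mem ka kb⟩, hL⟩)⟩

omit [DecidableEq M] in
theorem Md.ne {a b : ℕ} (ha : ∃ g, φ g = dec a) (hb : ∃ g, φ g = dec b)
    (c : dec b * dec a ≠ dec a * dec b) : E dec φ f a ≠ 1 := fun e => by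
  obtain ⟨x, hx⟩ := ha
  obtain ⟨y, hy⟩ := hb
  rw [h.eq hx] at e
  exact c (by rw [← hx, ← hy, ← map_mul, ← map_mul, mem_center_iff.1 (h.ker x e) y])

end kit

/-! ### `U₃(3)` -/

section U

open H55 (F9)
open H65.Phan

def cU : List ℕ :=
  [43053283, 4783779, 43086090, 50558292, 43048188, 258300010, 129146730, 56409282, 9566829,
   43059845, 43051149, 590499, 28700082, 14350122, 258286890, 56462868, 220968724, 56595290,
   174406168, 363574996, 225918416, 52048508, 120879280, 176544344, 77224760, 68176408, 110778968,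
   382714898, 9567477, 226290392, 226356739, 360355331, 104998434, 104970313, 374216239, 59614679,
   43078147, 43098547, 43095613, 43096333, 43066410, 43102895, 43104389, 43102175, 43083215,
   43105109, 43082495, 43085429, 43084709, 43075933, 43078867, 43048935, 43076653, 43097827,
   43047468]

def dU (n : ℕ) : Matrix (Fin 3) (Fin 3) F9 := Matrix.of fun i j =>
  ⟨(cU.getD n 0 / 9 ^ (3 * i.1 + j.1) % 3 : ℕ), (cU.getD n 0 / 9 ^ (3 * i.1 + j.1) / 3 % 3 : ℕ)⟩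

def TU : List (ℕ × ℕ × ℕ) :=
  [(2, 2, 9), (4, 4, 9), (4, 2, 10), (10, 4, 2), (1, 1, 11), (11, 1, 0), (1, 2, 12), (5, 1, 12),
   (1, 5, 13), (6, 1, 13), (2, 5, 14), (5, 2, 14), (14, 6, 0), (7, 3, 15), (9, 7, 15), (3, 1, 16),
   (16, 16, 17), (17, 17, 18), (18, 17, 19), (19, 16, 0), (8, 16, 20), (17, 8, 20)]

def PU1 : List (ℕ × ℕ × ℕ) :=
  [(1, 3, 21), (1, 21, 19), (3, 19, 22), (1, 22, 23), (1, 23, 24), (3, 24, 25), (1, 25, 26),
   (3, 26, 27), (1, 27, 7), (3, 7, 9)]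

def PU2 : List (ℕ × ℕ × ℕ) :=
  [(2, 2, 9), (1, 9, 28), (3, 28, 29), (2, 29, 30), (1, 30, 31), (3, 31, 32), (2, 32, 33),
   (3, 33, 34), (1, 34, 35), (3, 35, 36), (2, 36, 37), (36, 2, 38), (36, 36, 39), (2, 9, 40),
   (2, 37, 41), (2, 38, 42), (2, 39, 43), (36, 37, 44), (36, 38, 45), (9, 37, 46), (9, 38, 47),
   (9, 39, 48), (37, 37, 49), (38, 38, 50), (38, 39, 51), (39, 37, 4), (9, 42, 52), (9, 44, 53),
   (37, 43, 54), (39, 42, 10), (9, 9, 0), (0, 2, 2)]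

/-- the matrix of an element -/
def φU : SU 3 F9 3 →* Matrix (Fin 3) (Fin 3) F9 := ⟨⟨mat, mat_one⟩, mat_mul⟩

theorem okU {a : ℕ} (h : a < 10 := by decide) : ∃ g, φU g = dU a := by
  have := (by decide +kernel : ∀ a < 10, dU a 0 0 * dU a 1 1 * dU a 2 2 - dU a 0 0 * dU a 1 2 * dU a 2 1 -
    dU a 0 1 * dU a 1 0 * dU a 2 2 + dU a 0 1 * dU a 1 2 * dU a 2 0 + dU a 0 2 * dU a 1 0 * dU a 2 1 -
    dU a 0 2 * dU a 1 1 * dU a 2 0 = 1 ∧ ((dU a)ᵀ * (dU a).map fun a => a ^ 3) = 1) a h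
  exact ⟨H93.su33 _ (by rw [det_fin_three]; exact this.1) this.2, rfl⟩

theorem su2 : ∀ a c : F9, a * a ^ 3 + c * c ^ 3 = 1 → ∀ b d : F9, a * d - b * c = 1 →
    a * b ^ 3 + c * d ^ 3 = 0 → ∃ p ∈ PU2, !![a, b, 0; c, d, 0; 0, 0, 1] = dU p.2.2 := by
  decide +kernel

theorem u33 {Γ : Type} [Group Γ] (f : SU 3 F9 3 →* Γ) (hf : Function.Surjective f)
    (hk : ∀ x, f x = 1 → x ∈ center _) : U33 Γ := by
  have h : Md dU 0 φU f := ⟨fun _ _ => mat_ext, ⟨1, by decide +kernel, map_one f⟩, hk⟩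
  have r : ∀ a b c, (_ : (a, b, c) ∈ TU := by decide) → E dU φU f a * E dU φU f b = E dU φU f c :=
    fun a b c m => (h.run ⊤ TU (List.range 9) (by decide +kernel)
      (fun a ha => ⟨okU ((List.mem_range.1 ha).trans (by decide)), trivial⟩) _ m).2
  have e1 : E dU φU f 0 = 1 := (h.eq (g := 1) (by decide +kernel)).trans (map_one f)
  have c1 : cp (E dU φU f 1) 1 (E dU φU f 2) = E dU φU f 5 := by
    rw [cp_one, r 1 2 12, ← r 5 1 12, mul_inv_cancel_right]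
  have c2 : cp (E dU φU f 1) 2 (E dU φU f 2) = E dU φU f 6 := by
    rw [← cp_cp _ _ 1 1, c1, cp_one, r 1 5 13, ← r 6 1 13, mul_inv_cancel_right]
  refine ⟨E dU φU f 3, E dU φU f 1, E dU φU f 2, ⟨?_, ?_, ?_⟩,
    Q8.fr (j := E dU φU f 4) ⟨?_, ?_, ?_⟩, isConj_iff.2 ⟨E dU φU f 7, ?_⟩,
    Or.inl ⟨?_, isConj_iff.2 ⟨E dU φU f 8, ?_⟩⟩, ?_, ?_⟩
  · rw [pow_three', r 1 1 11, r 11 1 0, e1]
  · rw [c1]; exact (r 2 5 14).trans (r 5 2 14).symm
  · rw [c1, c2, r 2 5 14, r 14 6 0, e1]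
  · rw [r 4 4 9, r 2 2 9]
  · rw [mul_inv_eq_iff_eq_mul, eq_inv_mul_iff_mul_eq, ← mul_assoc, r 4 2 10, r 10 4 2]
  · rw [r 2 2 9]; exact h.ne okU (okU (a := 1)) (by decide +kernel)
  · rw [r 7 3 15, r 2 2 9, ← r 9 7 15, mul_inv_cancel_right]
  · rw [r 3 1 16, ← e1, ← r 19 16 0, ← r 18 17 19, ← r 17 17 18, ← r 16 16 17]
    simp only [pow_succ, pow_zero, one_mul, mul_assoc]
  · rw [r 3 1 16, pow_two, r 8 16 20, r 16 16 17, ← r 17 8 20, mul_inv_cancel_right]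
  · rw [r 2 2 9]
    exact (h.run _ PU1 [1, 3] (by decide +kernel) (by
      simp only [List.forall_mem_cons, List.not_mem_nil, false_imp_iff, implies_true, and_true]
      exact ⟨⟨okU, subset_closure (by simp)⟩, okU, subset_closure (by simp)⟩) (3, 7, 9) (by decide)).1
  · have k := h.run (closure {E dU φU f 3, E dU φU f 1, E dU φU f 2}) PU2 [1, 2, 3]
      (by decide +kernel) (by
      simp only [List.forall_mem_cons, List.not_mem_nil, false_imp_iff, implies_true, and_true]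
      exact ⟨⟨okU, subset_closure (by simp)⟩, ⟨okU, subset_closure (by simp)⟩, okU,
        subset_closure (by simp)⟩)
    refine comap_injective hf ((H1.O7U.gen_pw H93.card_F9' (by decide) (fun s => ?_) ?_).trans
      (comap_top f).symm)
    · have u := (H55.mem_SU_iff_transpose_mul (H59.frob H93.card_F9' : F9 →+* F9) (fun _ => rfl) _).1 s.2
      obtain ⟨p, hp, e⟩ := su2 (mat s 0 0) (mat s 1 0)
        (by simpa [mul_apply, Fin.sum_univ_two, H59.frob_apply] using congrFun₂ u 0 0) (mat s 0 1) (mat s 1 1)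
        ((det_fin_two _).symm.trans s.1.2)
        (by simpa [mul_apply, Fin.sum_univ_two, H59.frob_apply] using congrFun₂ u 0 1)
      exact mem_comap.2 (h.eq (g := b0 H93.card_F9' s) ((mat_b0 H93.card_F9' s).trans e) ▸ (k p hp).1)
    · rw [mem_comap, ← h.eq (a := 1) (g := H1.O7U.pw H93.card_F9')
        ((H1.O7U.mat_pw H93.card_F9').trans (by decide +kernel : _ = dU 1))]
      exact subset_closure (by simp)

theorem jobMU33 : JobMU33 := by
  intro K _ _ hK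
  let φ := H55.psuCongr (FiniteField.ringEquivOfCardEq (H93.card_F9'.trans hK.symm)) 3 3
  exact u33 (φ.toMonoidHom.comp (QuotientGroup.mk' _)) (φ.surjective.comp (QuotientGroup.mk'_surjective _))
    fun x hx => (QuotientGroup.eq_one_iff x).1 (φ.injective (hx.trans (map_one φ).symm))

end U

/-! ### `PSp₄(3)` -/

section S

open H77.MU42

def cS : List ℕ :=
  [14408200, 28816400, 14414771, 14355729, 14408209, 33257122, 14467250, 572292, 9920400, 10827222,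
   6221478, 31950127, 17596846, 42846962, 14421322, 14411152, 14421341, 14414778, 14473819,
   14355730, 32672546, 34749686, 552636, 7246762, 9743250, 40010082, 11024076, 33381752, 6064044,
   5886864, 5355261, 31956698, 31897656, 31950136, 17596855, 14408218, 9131572, 11432774, 3203964,
   42172073, 14467268, 33717392, 27875186, 27875222, 28163866, 572298, 38255888]

def ix : Fin 2 ⊕ Fin 2 → ℕ := Sum.elim (·.1) (·.1 + 2)

def dS (n : ℕ) : Matrix (Fin 2 ⊕ Fin 2) (Fin 2 ⊕ Fin 2) Z3 := Matrix.of fun i j =>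
  (cS.getD n 0 / 3 ^ (4 * ix i + ix j) % 3 : ℕ)

def TS : List (ℕ × ℕ × ℕ) :=
  [(2, 2, 6), (3, 3, 6), (3, 2, 16), (16, 3, 2), (4, 2, 17), (3, 4, 17), (2, 3, 18), (4, 3, 19),
   (18, 4, 19), (5, 6, 20), (7, 5, 20), (6, 6, 0), (5, 7, 21), (8, 5, 21), (6, 7, 22), (7, 6, 22),
   (5, 8, 23), (9, 5, 23), (6, 8, 24), (8, 6, 24), (5, 9, 25), (10, 5, 25), (6, 9, 26), (9, 6, 26),
   (5, 10, 27), (6, 5, 27), (6, 10, 28), (10, 6, 28), (7, 2, 29), (11, 7, 29), (7, 4, 30),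
   (12, 7, 30), (11, 2, 31), (2, 11, 31), (11, 3, 32), (3, 11, 32), (11, 4, 33), (4, 11, 33),
   (12, 4, 34), (4, 12, 34), (4, 4, 35), (35, 4, 0), (5, 5, 36), (36, 36, 37), (37, 5, 0),
   (22, 8, 38), (38, 9, 10), (10, 10, 0), (5, 2, 39), (13, 5, 39)]

def PS : List (ℕ × ℕ × ℕ) :=
  [(2, 2, 6), (4, 6, 40), (2, 40, 14), (2, 11, 31), (13, 31, 41), (11, 41, 42), (4, 42, 43),
   (2, 43, 44), (13, 44, 15), (13, 13, 7), (4, 7, 45), (13, 45, 46), (13, 46, 12)]

/-- the matrix of an element -/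
abbrev φS : Sp4 →* Matrix (Fin 2 ⊕ Fin 2) (Fin 2 ⊕ Fin 2) Z3 := Submonoid.subtype _

theorem okS {a : ℕ} (h : a < 23 := by decide) : ∃ g, φS g = dS a :=
  ⟨⟨_, SymplecticGroup.mem_iff.2 ((by decide +kernel :
    ∀ a < 23, dS a * J (Fin 2) Z3 * (dS a)ᵀ = J (Fin 2) Z3) a h)⟩, rfl⟩

theorem ps3 {Γ : Type} [Group Γ] (f : Sp4 →* Γ) (hf : Function.Surjective f)
    (hk : ∀ x, f x = 1 ↔ x ∈ center _) : PS3 Γ := by
  have h : Md dS 1 φS f := ⟨Subtype.val_injective, by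
    obtain ⟨g, hg⟩ := okS (a := 1)
    have e : g.1 = -1 := hg.trans (by decide +kernel)
    exact ⟨g, hg, (hk g).2 (mem_center_iff.2 fun x => Subtype.ext (by
      simp only [Submonoid.coe_mul, e, mul_neg, neg_mul, mul_one, one_mul]))⟩, fun x => (hk x).1⟩
  have r : ∀ a b c, (_ : (a, b, c) ∈ TS := by decide) → E dS φS f a * E dS φS f b = E dS φS f c :=
    fun a b c m => (h.run ⊤ TS (List.range 14) (by decide +kernel)
      (fun a ha => ⟨okS ((List.mem_range.1 ha).trans (by decide)), trivial⟩) _ m).2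
  have cj : ∀ a b b' c, (_ : (a, b, c) ∈ TS ∧ (b', a, c) ∈ TS := by decide) →
      E dS φS f a * E dS φS f b * (E dS φS f a)⁻¹ = E dS φS f b' := fun a b b' c m => by
    rw [r a b c m.1, ← r b' a c m.2, mul_inv_cancel_right]
  have cm : ∀ a b c, (_ : (a, b, c) ∈ TS ∧ (b, a, c) ∈ TS := by decide) →
      Commute (E dS φS f a) (E dS φS f b) := fun a b c m => (r a b c m.1).trans (r b a c m.2).symm
  have e1 : E dS φS f 0 = 1 := (h.eq (g := 1) (by decide +kernel)).trans (map_one f)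
  have st : ∀ m a, cp (E dS φS f 5) (m + 1) a = E dS φS f 5 * cp (E dS φS f 5) m a * (E dS φS f 5)⁻¹ :=
    fun m a => by rw [add_comm, ← cp_cp, cp_one]
  have c1 : cp (E dS φS f 5) 1 (E dS φS f 6) = E dS φS f 7 := by rw [cp_one, cj 5 6 7 20]
  have c2 : cp (E dS φS f 5) 2 (E dS φS f 6) = E dS φS f 8 := by rw [st 1, c1, cj 5 7 8 21]
  have c3 : cp (E dS φS f 5) 3 (E dS φS f 6) = E dS φS f 9 := by rw [st 2, c2, cj 5 8 9 23]
  have c4 : cp (E dS φS f 5) 4 (E dS φS f 6) = E dS φS f 10 := by rw [st 3, c3, cj 5 9 10 25]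
  refine ⟨E dS φS f 2, E dS φS f 3, E dS φS f 4, E dS φS f 5, 1, ?_⟩
  rw [r 2 2 6, c1, c2, c3, c4]
  refine ⟨⟨⟨?_, ?_, ?_⟩, cj 4 2 3 17, ?_, ?_, ?_, ?_, ?_⟩, ?_, ?_, ?_, fun m => ?_, fun e => ?_, ?_, ?_⟩
  · rw [r 3 3 6, r 2 2 6]
  · rw [mul_inv_eq_iff_eq_mul, eq_inv_mul_iff_mul_eq, ← mul_assoc, r 3 2 16, r 16 3 2]
  · rw [r 2 2 6]; exact h.ne okS (okS (a := 5)) (by decide +kernel)
  · rw [r 2 3 18, cj 4 3 18 19]
  · rw [r 2 2 6]; exact cm 7 6 22
  · rw [cj 7 2 11 29]; exact cm 11 2 31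
  · rw [cj 7 2 11 29]; exact cm 11 3 32
  · rw [cj 7 2 11 29]; exact cm 11 4 33
  · rw [pow_three', r 4 4 35, r 35 4 0, e1]
  · rw [cj 7 4 12 30]; exact cm 12 4 34
  · rw [← e1, ← r 37 5 0, ← r 36 36 37, ← r 5 5 36]
    simp only [pow_succ, pow_zero, one_mul, mul_assoc]
  · have : ∃ a ∈ [6, 7, 8, 9, 10], cp (E dS φS f 5) m (E dS φS f 6) = E dS φS f a := by
      induction m with
      | zero => exact ⟨6, by decide, cp_zero _ _⟩
      | succ m ih =>
        obtain ⟨a, ha, e⟩ := ih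
        rw [st, e]
        simp only [List.mem_cons, List.not_mem_nil, or_false] at ha
        rcases ha with rfl | rfl | rfl | rfl | rfl
        exacts [⟨7, by decide, cj 5 6 7 20⟩, ⟨8, by decide, cj 5 7 8 21⟩, ⟨9, by decide, cj 5 8 9 23⟩,
          ⟨10, by decide, cj 5 9 10 25⟩, ⟨6, by decide, cj 5 10 6 27⟩]
    obtain ⟨a, ha, e⟩ := this
    rw [e]
    simp only [List.mem_cons, List.not_mem_nil, or_false] at ha
    rcases ha with rfl | rfl | rfl | rfl | rfl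
    exacts [Commute.refl _, cm 6 7 22, cm 6 8 24, cm 6 9 26, cm 6 10 28]
  · exact h.ne (a := 22) okS (okS (a := 5)) (by decide +kernel) (by rw [← r 6 7 22, e, r 6 6 0, e1])
  · rw [r 6 7 22, r 22 8 38, r 38 9 10, r 10 10 0, e1]
  · set K := closure (_ : Set Γ)
    have k := h.run K PS [2, 4, 11, 13] (by decide +kernel) (by
      simp only [List.forall_mem_cons, List.not_mem_nil, false_imp_iff, implies_true, and_true]
      exact ⟨⟨okS, subset_closure (Or.inl ⟨1, by simp, by simp⟩)⟩, ⟨okS, subset_closure (Or.inr rfl)⟩,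
        ⟨okS, subset_closure (Or.inl ⟨_, Or.inl (cj 7 6 6 22), (cj 7 2 11 29).symm⟩)⟩, okS,
        subset_closure (Or.inl ⟨_, Or.inr (cj 5 6 7 20), (cj 5 2 13 39).symm⟩)⟩)
    refine comap_injective hf ((eq_top_iff.2 (closure_tt.ge.trans ((closure_le _).2 ?_))).trans
      (comap_top f).symm)
    rintro _ ⟨i, rfl⟩
    have e := h.eq (g := tt i) ((by decide +kernel :
      ∀ i, H54.tvMat (vec (vv i)) (1 : Z3) = dS (![4, 14, 15, 12] i)) i)
    refine mem_comap.2 (e ▸ ?_)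
    fin_cases i
    exacts [subset_closure (Or.inr rfl), (k (2, 40, 14) (by decide)).1, (k (13, 44, 15) (by decide)).1,
      (k (13, 46, 12) (by decide)).1]

theorem jobMS43 : JobMS43 := by
  intro K _ _ hK
  let φ := H55.pspCongr (FiniteField.ringEquivOfCardEq ((ZMod.card 3).trans hK.symm) : Z3 ≃+* K) 2
  exact ps3 (φ.toMonoidHom.comp (QuotientGroup.mk' _)) (φ.surjective.comp (QuotientGroup.mk'_surjective _))
    fun x => φ.map_eq_one_iff.trans (QuotientGroup.eq_one_iff x)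

end S

end H96.O7MU
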