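import Cfsg.Agent.H31.O7K
import Cfsg.Agent.H22.Weights
import Cfsg.Agent.H60.Geom

/-! O7, jobs DG and SP: semisimple elements are diagonal; spinor eigenvalue one. -/

set_option autoImplicit false
set_option linter.unusedSectionVars false

namespace H96.O7SP

open H56 QuadraticMap Module Polynomial H31.O7 H60

universe u

variable {K : Type u} [Field K] {V : Type u} [AddCommGroup V] [Module K V] {Q : QuadraticForm K V}
  {e : V} {v w : Fin 3 → V}

theorem lin_pow (g : O Q) (n : ℕ) : (g ^ n).lin = g.lin ^ n := by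
  induction n with
  | zero => rfl
  | succ n ih => rw [pow_succ, pow_succ, O.lin_mul, ih]; rfl

theorem pow_eig {g : O Q} {x : V} {c : K} (h : g x = c • x) (m : ℕ) : (g ^ m) x = c ^ m • x := by
  induction m with
  | zero => simp
  | succ m ih => rw [pow_succ, O.mul_apply, h, map_smul, ih, smul_smul, pow_succ, mul_comm]

theorem eig_ne {g : O Q} {x : V} {c : K} (h : g x = c • x) (hx : x ≠ 0) : c ≠ 0 := by
  rintro rfl
  exact hx (by simpa using h)

/-- the seven vectors -/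
def vec (e : V) (v w : Fin 3 → V) : Option (Fin 3 ⊕ Fin 3) → V
  | none => e
  | some i => Sum.elim v w i

theorem Hb.indep (h : Hb Q e v w) (h2 : (2 : K) ≠ 0) : LinearIndependent K (vec e v w) := by
  refine Fintype.linearIndependent_iff.2 fun c hc i => ?_
  have k : ∀ x, c none * polar Q e x + (∑ i, c (some (.inl i)) * polar Q (v i) x +
      ∑ i, c (some (.inr i)) * polar Q (w i) x) = 0 := fun x => by
    have := congrArg (fun y => Q.polarBilin y x) hc
    simpa [Fintype.sum_option, Fintype.sum_sum_type, vec, map_sum, LinearMap.sum_apply] using this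
  rcases i with _ | i | i
  · have := k e
    simp only [pc (h.ev _), pc (h.ew _), polar_self', mul_zero, Finset.sum_const_zero, add_zero] at this
    exact (mul_eq_zero.1 this).resolve_right (mul_ne_zero h2 h.ee)
  · simpa [h.ew, h.vw, h.ww] using k (w i)
  · simpa [h.ev, h.vv, fun j => (polar_comm Q (w j) (v i)).trans (h.vw i j)] using k (v i)

variable [FiniteDimensional K V]

theorem Hb.basis (h : Hb Q e v w) (h2 : (2 : K) ≠ 0) (hd : finrank K V = 7) :
    ∃ b : Basis (Option (Fin 3 ⊕ Fin 3)) K V, ∀ i, b i = vec e v w i :=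
  ⟨basisOfLinearIndependentOfCardEqFinrank (Hb.indep h h2) (by rw [hd]; rfl), fun i => by simp⟩

theorem Hb.charpoly (h : Hb Q e v w) (h2 : (2 : K) ≠ 0) (hd : finrank K V = 7) {g : O Q} {c : K}
    {l l' : Fin 3 → K} (he : g e = c • e) (hv : ∀ i, g (v i) = l i • v i)
    (hw : ∀ i, g (w i) = l' i • w i) :
    g.lin.charpoly = (X - C c) * ∏ i, ((X - C (l i)) * (X - C (l' i))) := by
  obtain ⟨b, hb⟩ := Hb.basis h h2 hd
  rw [SL2M.charpoly_of_eigenbasis b g.lin (fun i => i.elim c (Sum.elim l l')) fun i => by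
    rw [hb]; rcases i with _ | i | i <;> simp [vec, he, hv, hw]]
  simp [Fintype.prod_option, Fintype.prod_sum_type, Finset.prod_mul_distrib]

theorem Hb.perp (h : Hb Q e v w) (h2 : (2 : K) ≠ 0) (hQ : Q.polarBilin.Nondegenerate)
    (hd : finrank K V = 7) {x : V} (hv : ∀ i, polar Q (v i) x = 0) (hw : ∀ i, polar Q (w i) x = 0) :
    ∃ c : K, x = c • e := by
  obtain ⟨b, hb⟩ := Hb.basis h h2 hd
  refine ⟨polar Q e x / (2 * Q e), sub_eq_zero.1 (nondeg_top hQ _ trivial fun y _ => ?_)⟩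
  have : Q.polarBilin.flip (x - (polar Q e x / (2 * Q e)) • e) = 0 := b.ext fun i => by
    rw [hb]
    have := mul_ne_zero h2 h.ee
    rcases i with _ | i | i
    · simp only [vec, LinearMap.flip_apply, polarBilin_apply_apply, polar_sub_right, polar_smul_right,
        polar_self', smul_eq_mul, LinearMap.zero_apply]
      rw [div_mul_cancel₀ _ this, sub_self]
    · simp [vec, hv, pc (h.ev i)]
    · simp [vec, hw, pc (h.ew i)]
  exact LinearMap.congr_fun this y

variable [IsAlgClosed K] {g : O Q} {n : ℕ}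

theorem eig_le (hn : (n : K) ≠ 0) (hg : g ^ n = 1) {U W : Submodule K V} (hU : ∀ x ∈ U, g.lin x ∈ U)
    (h : ∀ x ∈ U, ∀ c : K, g x = c • x → x ∈ W) : U ≤ W := fun x hx => by
  have := H22.iSup_wt_eq_top (fun _ : Unit => g.lin.restrict hU) (fun _ _ => Commute.refl _)
    fun _ => ⟨n, hn, by
      rw [Module.End.pow_restrict]
      ext y
      simp [← lin_pow, hg]⟩
  have k : (⊤ : Submodule K U) ≤ W.comap U.subtype := by
    rw [← this]
    exact iSup_le fun χ y hy => h _ y.2 (χ ()) (congrArg Subtype.val (hy ()))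
  exact k (Submodule.mem_top : (⟨x, hx⟩ : U) ∈ _)

theorem exists_sing (h2 : (2 : K) ≠ 0) (W : Submodule K V) (h : 2 ≤ finrank K W) :
    ∃ x ∈ W, x ≠ 0 ∧ Q x = 0 := by
  obtain ⟨x, hx, h0⟩ := exists_mem_not_mem_of_finrank_lt (A := ⊥) (B := W) (by simp; omega)
  obtain ⟨y, hy, h1⟩ := exists_mem_not_mem_of_finrank_lt
    ((finrank_span_singleton_le (F := K) x).trans_lt h)
  by_cases e : Q x = 0
  · exact ⟨x, hx, h0, e⟩
  haveI : NeZero (2 : K) := ⟨h2⟩
  obtain ⟨s, hs⟩ := IsAlgClosed.exists_eq_mul_self (discrim (Q x) (polar Q y x) (Q y))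
  obtain ⟨t, ht⟩ := exists_quadratic_eq_zero e ⟨s, hs⟩
  refine ⟨y + t • x, add_mem hy (W.smul_mem _ hx), fun e => h1 ?_, ?_⟩
  · rw [eq_neg_of_add_eq_zero_left e]
    exact neg_mem (Submodule.smul_mem _ _ (Submodule.mem_span_singleton_self x))
  · rw [Q_add, Q_smul, polar_smul_right, smul_eq_mul]
    linear_combination ht

theorem step (h2 : (2 : K) ≠ 0) (hn : (n : K) ≠ 0) (hg : g ^ n = 1) {U : Submodule K V}
    (hU : ∀ x ∈ U, g.lin x ∈ U) (nd : Nondeg Q U) (d : 3 ≤ finrank K U) :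
    ∃ v ∈ U, ∃ w ∈ U, ∃ l : K, Q v = 0 ∧ Q w = 0 ∧ polar Q v w = 1 ∧
      (l ≠ 0 ∧ g v = l • v ∧ g w = l⁻¹ • w) ∧
      (∀ x ∈ U ⊓ ort Q v ⊓ ort Q w, g.lin x ∈ U ⊓ ort Q v ⊓ ort Q w) ∧
      Nondeg Q (U ⊓ ort Q v ⊓ ort Q w) ∧ finrank K U ≤ finrank K ↥(U ⊓ ort Q v ⊓ ort Q w) + 2 := by
  obtain ⟨v, hv, h0, qv, l, gv⟩ : ∃ v ∈ U, v ≠ 0 ∧ Q v = 0 ∧ ∃ l : K, g v = l • v := by
    by_contra! hc
    have k : ∀ c : K, finrank K ↥(U ⊓ End.eigenspace g.lin c) ≤ 1 := fun c => by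
      by_contra! h
      obtain ⟨x, hx, h1, h3⟩ := exists_sing (Q := Q) h2 _ h
      exact hc x hx.1 h1 h3 c (End.mem_eigenspace_iff.1 hx.2)
    have : U ≤ (U ⊓ End.eigenspace g.lin 1) ⊔ (U ⊓ End.eigenspace g.lin (-1)) :=
      eig_le hn hg hU fun x hx c e => by
        by_cases h1 : x = 0
        · exact h1 ▸ zero_mem _
        have h3 := g.map_Q x
        rw [e, Q_smul, mul_left_eq_self₀] at h3
        rcases mul_self_eq_one_iff.1 (h3.resolve_right fun h => hc x hx h1 h c e) with rfl | rfl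
        · exact Submodule.mem_sup_left ⟨hx, End.mem_eigenspace_iff.2 e⟩
        · exact Submodule.mem_sup_right ⟨hx, End.mem_eigenspace_iff.2 e⟩
    have h3 := (Submodule.finrank_mono this).trans (finrank_sup_le _ _)
    have := k 1
    have := k (-1)
    omega
  obtain ⟨y, hy, c, gy, py⟩ : ∃ y ∈ U, ∃ c : K, g y = c • y ∧ polar Q v y ≠ 0 := by
    by_contra! hc
    exact h0 (nd v hv fun y hy => pc (eig_le hn hg hU (W := ort Q v) hc hy))
  have lc : l * c = 1 := by
    have := g.map_polar v y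
    rw [gv, gy, polar_smul_left, polar_smul_right, smul_smul, smul_eq_mul] at this
    exact (mul_left_eq_self₀.1 this).resolve_right py
  have l0 := left_ne_zero_of_mul_eq_one lc
  obtain rfl : c = l⁻¹ := eq_inv_of_mul_eq_one_right lc
  set z := (polar Q v y)⁻¹ • y
  have pz : polar Q v z = 1 := by rw [polar_smul_right, smul_eq_mul, inv_mul_cancel₀ py]
  have gz : g z = l⁻¹ • z := by rw [map_smul, gy, smul_comm]
  have hw : z - Q z • v ∈ U := sub_mem (U.smul_mem _ hy) (U.smul_mem _ hv)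
  have gw : g (z - Q z • v) = l⁻¹ • (z - Q z • v) := by
    have h3 := g.map_Q z
    rw [gz, Q_smul] at h3
    have h4 : Q z * l = l⁻¹ * Q z := by
      field_simp at h3 ⊢
      linear_combination -h3
    rw [map_sub, gz, map_smul, gv, smul_sub, smul_smul (Q z), smul_smul _ (Q z), h4]
  have iv : ∀ {a x : V} {c : K}, c ≠ 0 → g a = c • a → x ∈ ort Q a → g.lin x ∈ ort Q a :=
    fun {a x c} h0 e hx => by
      have := g.map_polar a x
      rw [e, polar_smul_left, mem_ort.1 hx, smul_eq_mul] at this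
      exact mem_ort.2 ((mul_eq_zero.1 this).resolve_left h0)
  refine ⟨v, hv, _, hw, l, qv, partner_Q qv pz, partner_polar qv pz, ⟨l0, gv, gw⟩,
    fun x hx => ⟨⟨hU x hx.1.1, iv l0 gv hx.1.2⟩, iv (inv_ne_zero l0) gw hx.2⟩,
    nd.inf_ort_pair hv hw qv (partner_Q qv pz) (partner_polar qv pz), ?_⟩
  have := finrank_le_inf_ort (Q := Q) U v
  have := finrank_le_inf_ort (Q := Q) (U ⊓ ort Q v) (z - Q z • v)
  omega

theorem jobDG : JobDG.{u} := by
  intro K _ V _ _ _ Q _ h2 hQ hd g n hn hg det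
  obtain ⟨v0, -, w0, -, l0, a0, b0, c0, d0, i0, n0, f0⟩ :=
    step h2 hn hg (U := ⊤) (fun _ _ => trivial) (nondeg_top hQ) (by rw [finrank_top]; omega)
  rw [finrank_top] at f0
  obtain ⟨v1, p1, w1, q1, l1, a1, b1, c1, d1, i1, n1, f1⟩ := step h2 hn hg i0 n0 (by omega)
  obtain ⟨v2, p2, w2, q2, l2, a2, b2, c2, d2, i2, n2, f2⟩ := step h2 hn hg i1 n1 (by omega)
  obtain ⟨e, he, qe⟩ := n2.exists_Q_ne fun h => by
    rw [h, finrank_bot] at f2; omega
  have ge := i2 e he
  simp only [Submodule.mem_inf, mem_ort, Submodule.mem_top, true_and, O.lin_apply] at p1 q1 p2 q2 he ge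
  have hb : Hb Q e ![v0, v1, v2] ![w0, w1, w2] := by
    refine ⟨qe, fun i => ?_, fun i => ?_, fun i j => ?_, fun i j => ?_, fun i j => ?_⟩
    · fin_cases i <;> simp [polar_comm Q e, he]
    · fin_cases i <;> simp [polar_comm Q e, he]
    all_goals
      fin_cases i <;> fin_cases j <;>
        simp [p1, q1, p2, q2, c0, c1, c2, pself a0, pself a1, pself a2, pself b0, pself b1, pself b2,
          pc p1.1, pc p1.2, pc q1.1, pc q1.2, pc p2.1.1.1, pc p2.1.1.2, pc p2.1.2, pc p2.2,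
          pc q2.1.1.1, pc q2.1.1.2, pc q2.1.2, pc q2.2]
  obtain ⟨c, hc⟩ := Hb.perp hb h2 hQ hd (x := g e) (fun i => by fin_cases i <;> simp [ge])
    fun i => by fin_cases i <;> simp [ge]
  have dg : ∀ i, ![l0, l1, l2] i ≠ 0 ∧ g (![v0, v1, v2] i) = ![l0, l1, l2] i • ![v0, v1, v2] i ∧
      g (![w0, w1, w2] i) = (![l0, l1, l2] i)⁻¹ • ![w0, w1, w2] i := fun i => by
    fin_cases i <;> assumption
  refine ⟨e, _, _, _, hb, ?_, dg⟩
  rw [LinearMap.det_eq_sign_charpoly_coeff, Hb.charpoly hb h2 hd hc (fun i => (dg i).2.1)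
    (fun i => (dg i).2.2), hd, coeff_zero_eq_eval_zero] at det
  simp only [eval_mul, eval_prod, eval_sub, eval_X, eval_C, zero_sub, neg_mul_neg,
    mul_inv_cancel₀ (dg _).1, Finset.prod_const_one, mul_one] at det
  rw [hc, show c = 1 by linear_combination det, one_smul]

/-! ### The trace identity -/

/-- `x + x⁻¹` -/
def sg (x : K) : K := x + x⁻¹

/-- the Fricke expression -/
def Fk (s : Fin 3 → K) : K := ∑ i, s i ^ 2 - ∏ i, s i - 4

omit [IsAlgClosed K] in
theorem sg_eq {x y : K} (hx : x ≠ 0) (hy : y ≠ 0) : sg x = sg y ↔ x = y ∨ x * y = 1 := by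
  rw [← sub_eq_zero, ← sub_eq_zero (a := x), ← sub_eq_zero (a := x * y), ← mul_eq_zero,
    ← mul_eq_zero_iff_right (mul_ne_zero hx hy)]
  refine Eq.congr_left ?_
  simp only [sg]
  field_simp
  ring

omit [IsAlgClosed K] in
theorem Fk_id {l : Fin 3 → K} (h : ∀ i, l i ≠ 0) : (l 0 * l 1 * l 2) ^ 2 * Fk (fun i => sg (l i)) =
    -((l 0 * l 1 * l 2 - 1) * (l 1 * l 2 - l 0) * (l 0 * l 2 - l 1) * (l 0 * l 1 - l 2)) := by
  have := h 0
  have := h 1
  have := h 2
  simp only [Fk, sg, Fin.sum_univ_three, Fin.prod_univ_three]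
  field_simp
  ring

omit [IsAlgClosed K] in
theorem Fk_zero {a : Fin 3 → K} (h : a 0 * a 1 * a 2 = 1) : Fk (fun i => sg (a i)) = 0 := by
  have := Fk_id (l := a) fun i e => by fin_cases i <;> simp_all
  simpa [h] using this

theorem cub {a l : Fin 3 → K} (ha : ∀ i, a i ≠ 0) (hl : ∀ i, l i ≠ 0)
    (h : (X - C 1) * ∏ i, ((X - C (a i)) * (X - C (a i)⁻¹)) =
      (X - C 1) * ∏ i, ((X - C (l i)) * (X - C (l i)⁻¹))) (y : K) :
    ∏ i, (y - sg (a i)) = ∏ i, (y - sg (l i)) := by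
  obtain ⟨x, hx⟩ := IsAlgClosed.exists_root (C 1 * X ^ 2 + C (-y) * X + C 1 : K[X])
    (by rw [degree_quadratic one_ne_zero]; decide)
  simp only [IsRoot.def, eval_add, eval_mul, eval_C, eval_pow, eval_X] at hx
  have x0 : x ≠ 0 := by rintro rfl; simp at hx
  have k : ∀ u : K, u ≠ 0 → (x - u) * (x - u⁻¹) = x * (y - sg u) := fun u hu => by
    simp only [sg]
    linear_combination hx + mul_inv_cancel₀ hu
  have := congrArg (eval x) (mul_left_cancel₀ (X_sub_C_ne_zero 1) h)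
  simp only [eval_prod, eval_mul, eval_sub, eval_X, eval_C, k _ (ha _), k _ (hl _)] at this
  rw [Finset.prod_mul_distrib, Finset.prod_mul_distrib] at this
  exact mul_left_cancel₀ (Finset.prod_ne_zero_iff.2 fun _ _ => x0) this

omit [IsAlgClosed K] in
theorem Fk_congr (h2 : (2 : K) ≠ 0) {s t : Fin 3 → K} (h : ∀ y, ∏ i, (y - s i) = ∏ i, (y - t i)) :
    Fk s = Fk t := by
  have h0 := h 0
  have h1 := h 1
  have h3 := h (-1)
  simp only [Fk, Fin.sum_univ_three, Fin.prod_univ_three] at h0 h1 h3 ⊢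
  have e1 : s 0 + s 1 + s 2 = t 0 + t 1 + t 2 :=
    mul_left_cancel₀ h2 (by linear_combination 2 * h0 - h1 - h3)
  linear_combination (s 0 + s 1 + s 2 + t 0 + t 1 + t 2) * e1 - h1 + h3 + h0

omit [IsAlgClosed K] in
theorem Fk_pow {l : Fin 3 → K} {n m : ℕ} (hp : n.Prime) (hm : m ^ 0 + m ^ 1 + m ^ 2 = n)
    (hd : ∀ a b : Fin 3, a ≠ b → ¬ n ∣ m ^ a.1 + m ^ b.1 ∧ ¬ n ∣ m ^ a.1 + (n - 1) * m ^ b.1)
    (hl : ∀ i, l i ^ n = 1) (h : ∀ y, ∏ i, (y - sg (l i)) = ∏ i, (y - sg (l i ^ m))) :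
    Fk (fun i => sg (l i)) = 0 := by
  by_cases h1 : ∀ i, l i = 1
  · exact Fk_zero (by simp [h1])
  push Not at h1
  obtain ⟨j, hj⟩ := h1
  have l0 : ∀ i, l i ≠ 0 := fun i e => by simpa [e, hp.ne_zero] using hl i
  have k : ∀ a : ℕ, ∃ i, sg (l j ^ m ^ a) = sg (l i) := fun a => by
    induction a with
    | zero => exact ⟨j, by simp⟩
    | succ a ih =>
      obtain ⟨i, hi⟩ := ih
      have e : sg (l j ^ m ^ (a + 1)) = sg (l i ^ m) := by
        rw [sg_eq (pow_ne_zero _ (l0 _)) (pow_ne_zero _ (l0 _)), pow_succ, pow_mul, ← mul_pow]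
        exact ((sg_eq (pow_ne_zero _ (l0 _)) (l0 _)).1 hi).imp (fun e => by rw [e])
          fun e => by rw [e, one_pow]
      have := h (sg (l i ^ m))
      rw [Finset.prod_eq_zero (f := fun k => sg (l i ^ m) - sg (l k ^ m)) (Finset.mem_univ i)
        (sub_self _), Finset.prod_eq_zero_iff] at this
      obtain ⟨k, -, hk⟩ := this
      exact ⟨k, e.trans (sub_eq_zero.1 hk)⟩
  choose π hπ using k
  haveI := Fact.mk hp
  have ho := orderOf_eq_prime (hl j) hj
  have inj : Function.Injective fun a : Fin 3 => π a := fun a b e => by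
    by_contra ne
    have e1 : sg (l j ^ m ^ a.1) = sg (l j ^ m ^ b.1) := by rw [hπ, hπ]; exact congrArg (sg <| l ·) e
    rcases (sg_eq (pow_ne_zero _ (l0 _)) (pow_ne_zero _ (l0 _))).1 e1 with e2 | e2
    · refine (hd a b ne).2 (ho ▸ orderOf_dvd_of_pow_eq_one ?_)
      rw [pow_add, e2, ← pow_add, ho, show m ^ b.1 + (n - 1) * m ^ b.1 = n * m ^ b.1 by
        conv_rhs => rw [← Nat.sub_add_cancel hp.one_le]
        ring, pow_mul, hl, one_pow]
    · exact (hd a b ne).1 (ho ▸ orderOf_dvd_of_pow_eq_one (by rw [pow_add, e2]))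
  have := Fk_zero (a := fun a : Fin 3 => l j ^ m ^ a.1) (by
    rw [← pow_add, ← pow_add, ← hl j, ← hm]; rfl)
  let σ := Equiv.ofBijective _ (Finite.injective_iff_bijective.1 inj)
  rw [← this, Fk, Fk, ← σ.sum_comp, ← σ.prod_comp]
  simp only [hπ]
  rfl

theorem jobSP : JobSP.{u} := by
  intro sk dg K _ _ V _ _ _ Q S _ _ _ β γ sp z det
  have k := sk K V Q S β γ sp
  have h2 := sp.two
  have h1 : ∀ p k : ℕ, CharP K p → p ≠ 0 → z ^ p ^ k = 1 → Sp1 β γ z := fun p m hp h0 e => by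
    haveI := Fact.mk (CharP.char_prime_of_ne_zero K h0)
    have ho : Odd p := (Fact.out : p.Prime).odd_of_ne_two fun e => h2 (by
      subst e; exact_mod_cast CharP.cast_eq_zero K 2)
    obtain ⟨G, a, b⟩ := k.odd z _ ho.pow e
    haveI : Nontrivial S := Module.nontrivial_of_finrank_pos (R := K) (by rw [sp.dim]; omega)
    haveI : CharP (End K S) p := charP_of_injective_algebraMap' K p
    obtain ⟨s, hs⟩ := exists_ne (0 : S)
    obtain ⟨t, h3, h4⟩ := SL2M.exists_common_ker {()} (fun _ => (G.lin - 1 : End K S))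
      (fun _ => ⟨p ^ m, by
        rw [sub_pow_char_pow_of_commute _ _ (Commute.one_right _), ← lin_pow, b, one_pow]
        exact sub_self _⟩) (fun _ _ => Commute.refl _) hs
    exact ⟨G, a, t, h3, by simpa [sub_eq_zero] using h4 () (by simp)⟩
  have h3 : ∀ e v w l, Hb Q e v w → Dg z e v w l → Fk (fun i => sg (l i)) = 0 → Sp1 β γ z :=
    fun e v w l hb hd hF => by
      obtain ⟨G, a⟩ := k.lift z det
      obtain ⟨b, sb⟩ := k.bas e v w hb
      obtain ⟨μ, hμ, hG⟩ := sb.diag z l hd G a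
      have n0 := (hd.2 0).1
      have n1 := (hd.2 1).1
      have n2 := (hd.2 2).1
      obtain ⟨I, hI⟩ : ∃ I : Finset (Fin 3), (μ * ∏ i ∈ I, (l i)⁻¹) ^ 2 = 1 := by
        have := Fk_id fun i => (hd.2 i).1
        rw [hF, mul_zero, eq_comm, neg_eq_zero] at this
        simp only [mul_eq_zero, sub_eq_zero] at this
        rcases this with ((e | e) | e) | e
        · exact ⟨∅, by simp [hμ, e]⟩
        · exact ⟨{0}, by rw [Finset.prod_singleton, mul_pow, hμ]; field_simp; exact e⟩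
        · exact ⟨{1}, by rw [Finset.prod_singleton, mul_pow, hμ]; field_simp; exact e⟩
        · exact ⟨{2}, by rw [Finset.prod_singleton, mul_pow, hμ]; field_simp; exact e⟩
      rcases mul_self_eq_one_iff.1 ((pow_two _).symm.trans hI) with e | e
      · exact ⟨G, a, b I, b.ne_zero I, by rw [hG, e, one_smul]⟩
      · exact ⟨_, a.neg, b I, b.ne_zero I, by
          rw [O.mul_apply, O.negOne_apply, hG, e, neg_one_smul, neg_neg]⟩
  have h4 : ∀ n m : ℕ, n.Prime → m ^ 0 + m ^ 1 + m ^ 2 = n →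
      (∀ a b : Fin 3, a ≠ b → ¬ n ∣ m ^ a.1 + m ^ b.1 ∧ ¬ n ∣ m ^ a.1 + (n - 1) * m ^ b.1) →
      z ^ n = 1 → z.lin.charpoly = (z ^ m).lin.charpoly → Sp1 β γ z := fun n m hp hm hd e c => by
    by_cases hn : (n : K) = 0
    · exact h1 n 1 ((CharP.charP_iff_prime_eq_zero hp).2 hn) hp.ne_zero (by rwa [pow_one])
    obtain ⟨e', v, w, l, hb, dz⟩ := dg K V Q inferInstance h2 sp.ndV sp.dimV z n hn e det
    have ze : z e' = (1 : K) • e' := by rw [dz.1, one_smul]
    rw [Hb.charpoly hb h2 sp.dimV ze (fun i => (dz.2 i).2.1) fun i => (dz.2 i).2.2,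
      Hb.charpoly hb h2 sp.dimV (pow_eig ze m) (fun i => pow_eig (dz.2 i).2.1 m)
        fun i => pow_eig (dz.2 i).2.2 m] at c
    simp only [one_pow, inv_pow] at c
    refine h3 e' v w l hb dz (Fk_pow hp hm hd (fun i => ?_)
      (cub (fun i => (dz.2 i).1) (fun i => pow_ne_zero _ (dz.2 i).1) c))
    have := congrArg (polar Q · (w i)) (pow_eig (dz.2 i).2.1 n)
    simpa [e, hb.vw] using this.symm
  refine ⟨h1, fun n a hn e ha c => ?_, h4 7 2 (by norm_num) rfl (by decide),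
    h4 13 3 (by norm_num) rfl (by decide)⟩
  obtain ⟨e', v, w, l, hb, dz⟩ := dg K V Q inferInstance h2 sp.ndV sp.dimV z n hn e det
  rw [Hb.charpoly hb h2 sp.dimV (show z e' = (1 : K) • e' by rw [dz.1, one_smul])
    (fun i => (dz.2 i).2.1) fun i => (dz.2 i).2.2] at c
  exact h3 e' v w l hb dz ((Fk_congr h2 (cub (fun i => (dz.2 i).1)
    (fun i e => by fin_cases i <;> simp_all) c)).trans (Fk_zero ha))

end H96.O7SP
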