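/- PN tower (S3399), job C: the support of a commutator. -/
import Cfsg.Agent.H31.PnSpec

set_option autoImplicit false

namespace H96.PNC
open Equiv H2.Ln Finset H31.PN

theorem jobC : JobC := by
  intro α _ _ G K hK hD g hg u hu v hv hc
  set w : Perm α := g * v * g⁻¹ with hw
  have hwG : w ∈ G := G.mul_mem (G.mul_mem hg (hK hv)) (G.inv_mem hg)
  have hcG : (w * u)⁻¹ * (u * w) ∈ G :=
    G.mul_mem (G.inv_mem (G.mul_mem hwG (hK hu))) (G.mul_mem (hK hu) hwG)
  have hne : (w * u)⁻¹ * (u * w) ≠ 1 := fun e => hc (inv_mul_eq_one.1 e).symm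
  have h1 := hD _ hcG hne
  have wfix : ∀ d, g⁻¹ d ∉ sp K → w d = d := fun d hd => by
    simp only [hw, Perm.mul_apply]
    rw [fix_of hd hv]
    simp
  have sub : ((w * u)⁻¹ * (u * w)).support ⊆
      (((sp K).filter fun d => g⁻¹ d ∈ sp K) ∪
        ((sp K).filter fun d => g⁻¹ d ∉ sp K ∧ g⁻¹ (u d) ∈ sp K)) ∪
        (((sp K).filter fun d => g⁻¹⁻¹ d ∉ sp K ∧ g⁻¹⁻¹ (v d) ∈ sp K).image g) := by
    intro d hd
    have hd' : u (w d) ≠ w (u d) := fun e => Perm.mem_support.1 hd (by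
      rw [Perm.mul_apply, Perm.inv_eq_iff_eq]
      exact e)
    simp only [mem_union, mem_filter, mem_image, inv_inv]
    by_cases a : d ∈ sp K
    · by_cases b : g⁻¹ d ∈ sp K
      · exact Or.inl (Or.inl ⟨a, b⟩)
      · refine Or.inl (Or.inr ⟨a, b, by_contra fun c => hd' ?_⟩)
        rw [wfix d b, wfix _ c]
    · by_cases b : g⁻¹ d ∈ sp K
      · refine Or.inr ⟨g⁻¹ d, ⟨b, by simpa using a, by_contra fun c => hd' ?_⟩, by simp⟩
        have : w d = g (v (g⁻¹ d)) := rfl
        rw [fix_of a hu, this, fix_of c hu]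
      · exact absurd (by rw [wfix d b, fix_of a hu, wfix d b]) hd'
  have h2 := (card_le_card sub).trans ((card_union_le _ _).trans
    (Nat.add_le_add (card_union_le _ _) card_image_le))
  unfold X a1
  omega

end H96.PNC
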