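import Cfsg.Agent.H96.TwB
import Cfsg.Agent.H96.GLU

/-! Pushing up a rank one group `H` contained in a unique maximal `2`-local subgroup: the setup. -/

set_option autoImplicit false

namespace H96.PU

open Subgroup Cfsg H98 H96 H96.CG H98.H96.CG Equiv
open H52 (zc Vv)
open scoped commutatorElement

universe u

variable {G : Type u} [Group G]

/-- the hypotheses, with the Sylow normalizer outside `N(K)` -/
structure P0 (H K T : Subgroup G) : Prop where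
  loc : H57.L3.Loc G
  eK : res 2 H = K
  syl : IsSyl 2 T H
  uq : ∀ D : Subgroup G, IsPGroup 2 D → D ≠ ⊥ → H ≤ nor D → nor D ≤ nor K
  chM : CharP 2 (nor K)
  sy : ∀ S : Subgroup G, IsPGroup 2 S → pCoreOf 2 H ≤ S → S ≤ nor K → ⁅S, K⁆ ≤ pCoreOf 2 K →
    S = pCoreOf 2 H
  um : ∀ S, IsSyl 2 S K → ∃ X, UMax S X K
  sm : ∀ N ≤ K, K ≤ nor N → N ≤ pCoreOf 2 K ∨ K ≤ N ⊔ pCoreOf 2 K
  ct : ∀ x ∈ K, ∀ y ∈ K, ∀ z ∈ K, ⁅z, x⁆ ∈ pCoreOf 2 K → ⁅z, y⁆ ∈ pCoreOf 2 K →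
    ⁅x, y⁆ ∈ pCoreOf 2 K ∨ z ∈ pCoreOf 2 K
  out : ¬ nor T ≤ nor K

/-- a small block outside the maximal subgroup `X` -/
structure PV (H K T X : Subgroup G) (q : ℕ) (L Y : Subgroup G) : Prop extends P0 H K T where
  cx : CX 2 H T X
  y : YD 2 q (bm 2 T) L Y
  RK : res 2 L ≤ K
  nX : ¬ res 2 L ≤ X
  blk : IsBaumannBlock 2 T K

variable [Finite G] {q : ℕ} {H K T X L Y C D S W : Subgroup G} {g x : G}

namespace P0

variable (u : P0 H K T)
include u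

omit [Finite G] in
theorem KH : K ≤ H := u.eK ▸ res_le H

omit [Finite G] in
theorem HM : H ≤ nor K := u.eK ▸ self_le_normalizer_res H

omit [Finite G] in
theorem TM : T ≤ nor K := u.syl.le.trans u.HM

theorem gen : T ⊔ K = H := u.eK ▸ u.syl.sup_res

omit [Finite G] in
theorem resK : res 2 K = K := u.eK ▸ res_res H

omit [Finite G] in
theorem two : IsPGroup 2 T := u.syl.isPGroup

omit [Finite G] in
theorem UO : pCoreOf 2 K ≤ pCoreOf 2 H := pCoreOf_le_pCoreOf_of_normal u.KH u.HM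

omit [Finite G] in
theorem OK : ⁅pCoreOf 2 H, K⁆ ≤ pCoreOf 2 K := (le_inf (commutator_le_left' (le_normalizer_pCoreOf_of_le u.KH))
  (commutator_le_right' ((pCoreOf_le H).trans u.HM))).trans (pCoreOf_inf_le_of_le u.KH)

theorem nH (h1 : T ≤ nor C) (h2 : K ≤ nor C) : H ≤ nor C := u.gen ▸ sup_le h1 h2

theorem OM : pCoreOf 2 (nor K) ≤ pCoreOf 2 H := by
  have n := ((pCoreOf_le (p := 2) H).trans u.HM)
  have n' : ∀ X ≤ nor K, X ≤ nor (pCoreOf 2 K) := fun X h => le_normalizer_pCoreOf h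
  refine le_sup_left.trans (u.sy _ (two_sup (isPGroup_pCoreOf _) (isPGroup_pCoreOf H)
    (le_normalizer_pCoreOf_of_le n)) le_sup_right (sup_le (pCoreOf_le _) n)
    (commutator_sup_left_le (n' _ (pCoreOf_le _)) (n' _ n) ?_ u.OK)).le
  exact (le_inf (commutator_le_left' (le_normalizer_pCoreOf_of_le le_normalizer))
    (commutator_le_right' (pCoreOf_le _))).trans (pCoreOf_inf_le_of_le le_normalizer)

theorem chH : CharP 2 H := u.chM.of_pCoreOf_le (u.OM.trans (pCoreOf_le H)) u.HM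

omit [Finite G] in
theorem nc (h : IsPGroup 2 C) (h1 : H ≤ nor C) (h2 : nor T ≤ nor C) : C = ⊥ :=
  by_contra fun e => u.out (h2.trans (u.uq C h e h1))

theorem umax : ∃ X, UMax T X H := by
  obtain ⟨X, m⟩ := u.um _ (u.syl.inf_of_le_normalizer u.KH u.TM)
  have n : T ≤ nor X := fun t ht => by
    have := m.cj t
    rw [cj_inf, cj_eq_self_of_mem ht, cj_eq_self (u.TM ht)] at this
    exact cj_eq_self_iff.1 (this.eq_of_umax m)
  refine ⟨T ⊔ X, le_sup_left, lt_of_le_of_ne (sup_le u.syl.le (m.le'.trans u.KH)) fun e => m.not_le ?_,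
    fun Y h1 h2 => ?_⟩
  · intro k hk
    obtain ⟨t, ht, x, hx, rfl⟩ := (mem_sup_left_norm n).1 (e.ge (u.KH hk))
    exact mul_mem (m.le ⟨ht, (K.mul_mem_cancel_right (m.le' hx)).1 hk⟩) hx
  have e : T ⊔ K ⊓ Y = Y := by rw [← sup_inf_of_le_left u.TM h1, u.gen, inf_of_le_right h2]
  refine (m.uniq (K ⊓ Y) (le_inf inf_le_right (inf_le_left.trans h1)) inf_le_left).imp
    (fun h => e ▸ sup_le_sup_left h T) fun h => ?_
  rw [← e, h, u.gen]

theorem exists_pv : ∃ X q L Y, PV H K T X q L Y := by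
  obtain ⟨X, m⟩ := u.umax
  have T0 : T ≠ ⊥ := fun e => u.chH.pCoreOf_ne_bot (fun e' => m.not_le (e'.le.trans bot_le))
    (le_bot_iff.1 (e ▸ u.syl.pCoreOf_le))
  have k : ∀ C : Subgroup G, IsPGroup 2 C → C ≠ ⊥ → nor T ≤ nor C → H ⊓ nor C ≤ X := fun C h1 h2 h3 =>
    m.inf_le_of_not_le (le_normalizer.trans h3) fun e => h2 (u.nc h1 e h3)
  have c : CX 2 H T X := ⟨u.chH, u.syl, m.inf_le_of_not_le (le_centralizer_oz T) fun e =>
    oz_ne_bot u.two T0 (u.nc (isPGroup_oz T) (le_normalizer_of_le_centralizer e) (le_normalizer_oz le_rfl)),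
    fun C h1 h2 h3 => k C (u.two.to_le (h1.trans (bm_le T))) h2
      ((le_normalizer_bm le_rfl).trans (nor_le_of_char h1 h3))⟩
  obtain ⟨q, L, Y, h1, h2, y⟩ := c.exists_yd m.not_le
  have h3 := (res_le (p := 2) L).trans h1
  obtain ⟨E, hE, h4⟩ := inSB _ T X c _ h3 (c.block h3 y.blk h2) h2
  obtain ⟨_, _, s, _, d⟩ := block_bc' u.chH u.syl hE.sub.le (hE.block u.chH u.syl)
  have h5 : E ≤ K := d.res.ge.trans ((res_mono hE.sub.le).trans u.eK.le)
  have h6 : K ≤ ncl H (bm 2 T) := u.eK ▸ m.res_le u.two (ncl_le_of_le c.BH) (fun e => h2 (le_trans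
    (y.comm.ge.trans (commutator_le_of_norm (le_ncl _ _) (h3.trans (le_normalizer_ncl _ _)))) e))
    (u.syl.le.trans (le_normalizer_ncl _ _))
  have h7 := (u.sm E h5 (h6.trans (hE.ncl_le u.chH u.syl))).resolve_left
    fun e => d.not_isPGroup ((isPGroup_pCoreOf K).to_le e)
  obtain rfl : E = K := le_antisymm h5
    (u.resK.ge.trans ((res_mono (h7.trans (sup_le_sup_left u.UO E))).trans d.res_sup.le))
  exact ⟨X, q, L, Y, u, c, y, h4, h2, hE.block u.chH u.syl⟩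

end P0

namespace PV

variable (v : PV H K T X q L Y)
include v

theorem bk : Bk q (bm 2 T) (res 2 L) (Vv 2 L) (Y ⊔ zc (bm 2 T)) := ⟨L, Y, v.y, rfl, rfl, rfl⟩

theorem cl : Cl q (bm 2 T) := cl_of v.bk fun C h1 h2 h3 h4 =>
  v.nX ((le_inf (v.RK.trans v.KH) h4).trans (v.cx.h2 C h1 h2 h3))

theorem jtT : jt 2 T = bm 2 T := (jt_bm T).symm.trans v.cl.jt_B

theorem cZ : T ⊓ cen (zc (bm 2 T)) ≤ bm 2 T := by
  nth_rw 2 [bm_eq]
  rw [v.jtT]
  exact inf_le_inf_left _ (centralizer_anti (le_inf (oz_le _) (oz_le_centralizer _)))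

theorem facts : pCoreOf 2 K = bU 2 K ∧ pCoreOf 2 K ≤ bm 2 T ∧ pCoreOf 2 H ≤ cen (pCoreOf 2 K) ∧
    (∀ X ≤ nor K, X ≤ cen (pCoreOf 2 K) → ⁅K, X⁆ ≤ pCoreOf 2 K) ∧ pCoreOf 2 K ≠ ⊥ := by
  obtain ⟨_, _, s, _, d⟩ := block_bc' v.chH v.syl v.KH v.blk
  have e := d.Q_eq (d.typ.resolve_right fun ⟨_, _, _, _, _, x, _⟩ => absurd x.three (by norm_num))
  exact ⟨e, e ▸ d.U_le_bm, e ▸ d.O_cent, fun X h1 h2 => d.comm_le h1 (e ▸ h2), e ▸ d.U_ne⟩

theorem UB : pCoreOf 2 K ≤ bm 2 T := v.facts.2.1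

theorem Oc : pCoreOf 2 H ≤ cen (pCoreOf 2 K) := v.facts.2.2.1

theorem U_ne : pCoreOf 2 K ≠ ⊥ := v.facts.2.2.2.2

theorem eU : IsElementaryAbelian 2 (pCoreOf 2 K) := v.facts.1 ▸ ea_bU K

theorem nK (h0 : pCoreOf 2 K ≤ W) (h1 : W ≤ nor K) (h2 : W ≤ cen (pCoreOf 2 K)) : K ≤ nor W :=
  nor_of_comm (((commutator_comm _ _).le.trans (v.facts.2.2.2.1 W h1 h2)).trans h0)

theorem exists_x : ∃ x ∈ nor T, ¬ cj x (pCoreOf 2 K) ≤ cen (pCoreOf 2 K) := by
  by_contra! h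
  have h1 : ncl (nor T) (pCoreOf 2 K) ≤ T := ncl_le (v.UB.trans (bm_le T)) le_rfl
  have h2 := le_normalizer_ncl (nor T) (pCoreOf 2 K)
  have h3 := v.nc (v.two.to_le h1) (v.nH (le_normalizer.trans h2)
    (v.nK (le_ncl _ _) (h1.trans v.TM) (ncl_le_iff.2 h))) h2
  exact v.U_ne (le_bot_iff.1 (h3 ▸ le_ncl _ _))

variable (hx : x ∈ nor T) (h2 : x * x ∈ nor K) (h : x ∉ nor K)
include hx h2 h

theorem c1 : T ⊓ cen (pCoreOf 2 K) ⊓ cen (cj x (pCoreOf 2 K)) ≤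
    cen (T ⊓ cen (pCoreOf 2 K) ⊓ cen (cj x (pCoreOf 2 K))) := by
  have nU : T ≤ nor (pCoreOf 2 K) := le_normalizer_pCoreOf v.TM
  have e : x ∈ nor (T ⊓ cen (pCoreOf 2 K) ⊓ cen (cj x (pCoreOf 2 K))) := by
    rw [← cj_eq_self_iff, cj_inf, cj_inf, cj_centralizer, cj_centralizer, cj_cj, cj_eq_self hx,
      cj_eq_self (normalizer_le_normalizer_pCoreOf K h2), inf_right_comm]
  have nC : T ≤ nor (T ⊓ cen (pCoreOf 2 K) ⊓ cen (cj x (pCoreOf 2 K))) := le_normalizer_inf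
    (le_normalizer_inf le_normalizer (le_normalizer_centralizer nU)) (le_normalizer_centralizer (nor_cj nU hx))
  have c1 : _ ⊓ cen (pCoreOf 2 K) ⊓ cen (cj x (pCoreOf 2 K)) ≤ T := inf_le_left.trans inf_le_left
  have c2 : T ⊓ _ ⊓ cen (cj x (pCoreOf 2 K)) ≤ cen (pCoreOf 2 K) := inf_le_left.trans inf_le_right
  generalize T ⊓ cen (pCoreOf 2 K) ⊓ cen (cj x (pCoreOf 2 K)) = C at *
  have cU := H12.ea_le_centralizer v.eU
  have n1 := v.nK le_sup_right (sup_le (c1.trans v.TM) (le_normalizer_of_le (pCoreOf_le K))) (sup_le c2 cU)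
  have e1 : ⁅C ⊔ pCoreOf 2 K, C ⊔ pCoreOf 2 K⁆ = ⁅C, C⁆ := by
    have n := Or.inr (a := pCoreOf 2 K ≤ nor C) (c1.trans nU)
    rw [commutator_sup_centralizer_left (cen_symm (sup_le c2 cU)) n, commutator_comm,
      commutator_sup_centralizer_left (cen_symm c2) n]
  exact commutator_eq_bot_iff_le_centralizer.1 (by_contra fun e2 => h (v.uq _
    (v.two.to_le (commutator_le_of_le c1 c1)) e2 (v.nH (le_normalizer_commutator nC nC)
      (e1 ▸ le_normalizer_commutator n1 n1)) (le_normalizer_commutator le_rfl le_rfl e)))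

theorem c1B : T ⊓ cen (pCoreOf 2 K) ⊓ cen (cj x (pCoreOf 2 K)) ≤ bm 2 T :=
  le_trans (le_inf (inf_le_left.trans inf_le_left) ((v.c1 hx h2 h).trans (centralizer_anti (le_inf
    (le_inf (inf_le_left.trans (bm_le T)) (inf_le_right.trans (centralizer_anti v.UB)))
    (inf_le_right.trans (centralizer_anti (cj_le_of_le v.UB (le_normalizer_bm le_rfl hx)))))))) v.cZ

end PV

end H96.PU
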