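import Cfsg.Agent.H96.PuA
import Cfsg.Agent.H57.CGQ

/-! Pushing up a rank one group: the case that `K` is a minimal block. -/

set_option autoImplicit false

namespace H96.PU

open Subgroup Cfsg H98 H96 H96.CG H98.H96.CG Equiv
open H52 (zc Vv)
open H57.CGQ (idx2 comm2 mem_two)
open scoped commutatorElement

universe u

variable {G : Type u} [Group G] [Finite G] {q : ℕ} {H K T X L Y B R A A' D E P S : Subgroup G}
  {a c d g v t x : G}

theorem sec_four (hG : IsPGroup 2 G) (h4 : Nat.card A = 4) (hc : ∀ g : G, (∀ a ∈ A, g * a = a * g) → g ∈ A) :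
    SectionalPRankLE 2 4 G := by
  obtain ⟨z, -, z1, z2, z3⟩ := H9.Sec.exists_central_inv (N := ⊤) hG (lt_of_lt_of_le (by omega)
    (card_le_of_le (le_top : A ≤ ⊤)))
  have h1 : zpowers z ≤ A := zpowers_le.2 (hc z fun a _ => (mem_center_iff.1 z1 a).symm)
  have h2 : Nat.card (zpowers z) = 2 := by
    rw [Nat.card_zpowers, orderOf_eq_prime (p := 2) (by rw [sq, z3]) z2]
  obtain ⟨v, hv, e⟩ := SetLike.not_le_iff_exists.1 fun e : A ≤ zpowers z => by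
    have := card_le_of_le e; omega
  have h3 := zpowers_le.2 z1
  obtain ⟨r, hr, -⟩ := H9.Sec.exists_cyc_of_cent hG (x := v) (h4 ▸ card_le_of_le fun g hg => hc g fun a ha => by
    rcases H9.Sec.mem_or_of_card_le h1 (by omega) hv e ha with h | h
    · exact mem_center_iff.1 (h3 h) g
    · rw [← mul_inv_cancel_left v a, ← mul_assoc, mem_centralizer_singleton_iff.1 hg, mul_assoc,
        mem_center_iff.1 (h3 h) g, ← mul_assoc])
  refine H9.Sec.sec_of fun H K hs => (H9.Sec.le_mul_relIndex (zpowers r) K H).trans ?_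
  exact (Nat.mul_le_mul (H9.Sec.cyc_relIndex_le_two inf_le_left (hs.mono inf_le_right))
    (H9.Sec.relIndex_le_two' fun x _ y _ => hr x y)).trans (by norm_num)

theorem sec_small (hA : IsElementaryAbelian 2 A) (hc : cen A ≤ A) (h : Nat.card A = 4 ∨ Nat.card A = 8) :
    SectionalPRankLE 2 4 G := by
  obtain ⟨S, hS, h1⟩ := exists_isSyl_le (H12.ea_isPGroup hA) le_top
  refine H9.Sec.sec_of_sylow hS.toSylowTop (?_ : SectionalPRankLE 2 4 S)
  rw [← Nat.card_congr (subgroupOfEquivOfLe h1).toEquiv] at h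
  have h2 : ∀ g : S, (∀ a ∈ A.subgroupOf S, g * a = a * g) → g ∈ A.subgroupOf S := fun g hg =>
    hc fun a ha => (congrArg Subtype.val (hg ⟨a, h1 ha⟩ ha)).symm
  exact h.elim (sec_four hS.isPGroup · h2) fun h =>
    H9.Sec.SA.sec ⟨hS.isPGroup, fun a ha => Subtype.ext (ea_sq hA ha), h, h2⟩

section two

variable (k : Bk 2 B R A A') (hv : v ∈ pCoreOf 2 R) (hv' : v ∉ zc B) (ht : t ∈ A') (ht' : t ∉ zc B)
include k hv hv' ht ht'

theorem VZ (ha : a ∈ pCoreOf 2 R) (h : a ∈ zc B) : a = 1 ∨ a = ⁅v, t⁆ :=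
  mem_two (ea_sq k.tri.eZ (k.tri.comm v (k.V_le hv) t ht))
    ((comm2 k.tri (k.V_le hv) hv' ht ht').le (k.V_inf.le ⟨ha, h⟩))

theorem w_ne : ⁅v, t⁆ ∉ B ⊓ cen R := fun h => (k.tri.reg v (k.V_le hv) t ht h).elim hv' ht'

theorem act2 (hg : g ∈ nor R) (hg' : g ∈ nor B) : ∃ y ∈ A', y⁻¹ * g ∈ cen (pCoreOf 2 R) := by
  have vA := k.V_le hv
  have w1 := k.tri.comm v vA t ht
  have nV := normalizer_le_normalizer_pCoreOf (p := 2) R hg
  have c1 : Commute g ⁅v, t⁆ := H57.CGQ.com_of ((VZ k hv hv' ht ht' (conj_mem_of_mem_normalizer nV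
    (k.V_inf.ge (commutator_mem_commutator vA ht)).1) (conj_mem_of_mem_normalizer (Co.nZ hg') w1)).resolve_left
      fun e => w_ne k hv hv' ht ht' (conj_eq_one_iff.1 e ▸ one_mem _))
  have k1 : ∀ c, Commute c v → Commute c ⁅v, t⁆ → c ∈ cen (pCoreOf 2 R) := fun c h1 h2 => by
    have k2 : ∀ a ∈ pCoreOf 2 R, a ∈ zc B → Commute a c := fun a ha h =>
      (VZ k hv hv' ht ht' ha h).elim (fun e => e ▸ Commute.one_left c) fun e => e ▸ h2.symm
    refine mem_cen.2 fun a ha => ?_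
    by_cases h : a ∈ zc B
    · exact k2 a ha h
    simpa using (k2 _ (mul_mem ha hv) (idx2 k.tri.idx (k.V_le ha) vA h hv')).mul_left h1.symm.inv_left
  have h1 := conj_mem_of_mem_normalizer nV hv
  rcases VZ k hv hv' ht ht' (mul_mem h1 hv) (idx2 k.tri.idx (k.V_le h1) vA (fun e => hv' (by
    simpa [mul_assoc] using conj_mem_of_mem_normalizer' (Co.nZ hg') e)) hv') with e | e
  · exact ⟨1, one_mem _, by simpa using k1 g (H57.CGQ.com_of
      (by rw [eq_inv_of_mul_eq_one_left e, ea_inv k.tri.eA vA])) c1⟩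
  refine ⟨t, ht, k1 _ (H57.CGQ.com_of ?_) ((zcom w1 (k.tri.AB' ht)).inv_left.mul_left c1)⟩
  rw [← k.tri.comm_inv vA ht, commutatorElement_def, ea_inv k.tri.eA vA, mul_left_inj] at e
  calc t⁻¹ * g * v * (t⁻¹ * g)⁻¹ = t⁻¹ * (g * v * g⁻¹) * t := by group
    _ = v := by rw [e]; group

end two

theorem act (k : Bk q B R A A') (hg : g ∈ nor R) (hg' : g ∈ nor B) (ht : T2 g)
    (h : ∀ x ∈ A, ⁅g, x⁆ ∈ zc B) : ∃ y ∈ A', y⁻¹ * g ∈ cen (pCoreOf 2 R) := by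
  rcases (Nat.succ_le_of_lt k.tri.one_lt).eq_or_lt with rfl | hq
  · obtain ⟨v, hv, hv'⟩ := SetLike.not_le_iff_exists.1 k.V_not_le
    obtain ⟨t, ht, ht'⟩ := k.tri.symm.exists_not_mem
    exact act2 k hv hv' ht ht' hg hg'
  · exact (Bk.act_like k hq hg hg' ht h).imp fun _ h => ⟨h.1, h.2.1⟩

omit [Finite G] in
theorem tri_cen (t : Tri q B A A' D) (e : A ⊔ A' = B) : B ⊓ cen A ≤ A := by
  rw [t.cenA]
  refine sup_le le_rfl (le_trans (le_inf t.DB ?_) t.zA)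
  rw [← e, centralizer_sup]
  exact le_inf t.cA t.cA'

namespace PV

variable (u : PV H K T X q L Y)
include u

theorem sy' (hn : S ≤ nor (pCoreOf 2 H)) (h : IsPGroup 2 S) (h1 : S ≤ nor K) (h2 : S ≤ cen (pCoreOf 2 K)) :
    S ≤ pCoreOf 2 H := by
  have n := (pCoreOf_le (p := 2) H).trans u.HM
  exact le_sup_right.trans (u.sy _ (two_sup (isPGroup_pCoreOf H) h hn) le_sup_left (sup_le n h1)
    ((commutator_comm _ _).le.trans (u.facts.2.2.2.1 _ (sup_le n h1) (sup_le u.Oc h2)))).le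

theorem nO (h : pCoreOf 2 H ≤ cen (pCoreOf 2 H)) : nor K = nor (pCoreOf 2 H) := by
  have n := (pCoreOf_le (p := 2) H).trans u.HM
  refine le_antisymm ?_ (u.uq _ (isPGroup_pCoreOf H) (fun e => u.U_ne (le_bot_iff.1 (e ▸ u.UO)))
    (self_le_normalizer_pCoreOf H))
  have h1 : nor K ≤ nor (nor K ⊓ cen (pCoreOf 2 K)) := le_normalizer_inf le_normalizer
    (le_normalizer_centralizer (normalizer_le_normalizer_pCoreOf K))
  have h2 : IsSyl 2 (pCoreOf 2 H) (nor K ⊓ cen (pCoreOf 2 K)) := ⟨le_inf n u.Oc, isPGroup_pCoreOf H,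
    fun Q h3 h4 h5 => u.sy Q h3 h4 (h5.trans inf_le_left) ((commutator_comm _ _).le.trans
      (u.facts.2.2.2.1 _ (h5.trans inf_le_left) (h5.trans inf_le_right)))⟩
  rw [le_antisymm ((u.chM.normal inf_le_left h1).le_pCoreOf h2.le (h.trans (centralizer_anti h2.pCoreOf_le)))
    h2.pCoreOf_le]
  exact le_normalizer_pCoreOf h1

theorem cO (h : pCoreOf 2 H ≤ cen (pCoreOf 2 H)) : cen (pCoreOf 2 H) ≤ pCoreOf 2 H :=
  (le_inf ((le_normalizer_of_le_centralizer le_rfl).trans (u.nO h).ge) le_rfl).trans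
    ((u.chM.inf_centralizer_le u.OM).trans u.OM)

theorem irr (h : E ≤ A) (h1 : K ≤ nor E) (k : Bk q B K A A') : pCoreOf 2 K ≤ E ∨ E ≤ cen K := by
  obtain ⟨_, _, s, _, d⟩ := block_bc' u.chH u.syl u.KH u.blk
  refine or_iff_not_imp_right.2 fun e => u.facts.1.le.trans ((d.U_le ((commutator_mono h le_rfl).trans
    (k.V_eq.ge.trans (u.facts.1.le.trans (bU_le_bW K)))) (le_normalizer_commutator h1 le_normalizer)
    fun e' => e ?_).trans (commutator_le_left' h1))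
  rw [← commutator_eq_bot_iff_le_centralizer] at e' ⊢
  rw [← commutator_commutator_of_res_eq ((H12.ea_isPGroup k.tri.eA).to_le h) h1 u.resK, e']

end PV

/-- `K` is a minimal block, `x` interchanges the sides -/
structure PK (H K T X : Subgroup G) (q : ℕ) (L Y A A' : Subgroup G) (x : G) : Prop
    extends PV H K T X q L Y where
  k : Bk q (bm 2 T) K A A'
  xT : x ∈ nor T
  e : cj x A = A'
  e' : cj x A' = A

theorem PV.exists_pk (v : PV H K T X q L Y) (h : res 2 L = K) : ∃ A A' x, PK H K T X q L Y A A' x := by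
  have k := h ▸ v.bk
  obtain ⟨x, hx, h1⟩ := v.exists_x
  have h2 := cj_mono x k.V_le
  refine ⟨_, _, x, (fun e : _ ∧ _ => ⟨v, k, hx, e.1, e.2⟩) ?_⟩
  rcases k.tri.cmp (k.tri.cj_of_mem (le_normalizer_bm le_rfl hx)) with e | e | e
  · exact (h1 ((h2.trans e.1.le).trans ((H12.ea_le_centralizer k.tri.eA).trans (centralizer_anti k.V_le)))).elim
  · exact e
  · exact (h1 (h2.trans (e.1.trans (centralizer_anti k.V_le)))).elim

namespace PK

variable (w : PK H K T X q L Y A A' x)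
include w

theorem TB : T ≤ nor (bm 2 T) := le_normalizer_bm le_normalizer

theorem xB : x ∈ nor (bm 2 T) := le_normalizer_bm le_rfl w.xT

theorem pA : IsPGroup 2 A := H12.ea_isPGroup w.k.tri.eA

theorem HA : H ≤ nor A := w.nH (fun _ ht => w.k.nA (w.TM ht) (w.TB ht)) w.k.RA

theorem nA : nor A ≤ nor K := w.uq A w.pA (fun e => w.U_ne (le_bot_iff.1 (e ▸ w.k.V_le))) w.HA

theorem x2 : x * x ∈ nor K := w.nA (by rw [← cj_eq_self_iff, ← cj_cj, w.e, w.e'])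

theorem xM : x ∉ nor K := fun h => w.k.tri.ne ((cj_eq_self (w.k.nA h w.xB)).symm.trans w.e)

theorem k' : Bk q (bm 2 T) (cj x K) A' A := by
  have := w.k.cj_of_mem w.xB
  rwa [w.e, w.e'] at this

theorem genB : A ⊔ A' = bm 2 T := by
  refine le_antisymm (sup_le w.k.tri.AB w.k.tri.AB') (w.cl.le_of fun s s' o => ?_)
  rcases w.k.tri.op.cmp o with e | e | e
  · exact e.1.le.trans le_sup_left
  · exact e.1.le.trans le_sup_right
  have h : ∀ {s}, s ≤ bm 2 T → s ≤ cen A → s ≤ cen A' →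
      s ≤ T ⊓ cen (pCoreOf 2 K) ⊓ cen (cj x (pCoreOf 2 K)) := fun h1 h2 h3 => le_inf (le_inf
    (h1.trans (bm_le T)) (h2.trans (centralizer_anti w.k.V_le)))
    (h3.trans (centralizer_anti (w.e ▸ cj_mono x w.k.V_le)))
  exact (o.not_le_cen ((h o.le e.1 e.2.1).trans ((w.c1 w.xT w.x2 w.xM).trans
    (centralizer_anti (h o.le' e.2.2.1 e.2.2.2))))).elim

theorem cenA : bm 2 T ⊓ cen A ≤ A := tri_cen w.k.tri w.genB

theorem cenA' : bm 2 T ⊓ cen A' ≤ A' := tri_cen w.k.tri.symm ((sup_comm _ _).trans w.genB)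

theorem O_eq : pCoreOf 2 H = A := by
  refine le_antisymm (fun g hg => w.cenA (w.k.cenV.le ⟨?_, w.Oc hg⟩))
    (le_pCoreOf w.pA (w.k.tri.AB.trans w.cx.BH) w.HA)
  have gT := w.syl.pCoreOf_le hg
  have g1 := w.k.nA' (w.TM gT) (w.TB gT)
  obtain ⟨y, hy, e⟩ := act w.k' (nor_cj w.TM w.xT gT) (w.TB gT) (T2.of_mem w.two gT) fun a ha =>
    w.k.tri.symm.mem_Z_of_cen (cm_mem g1 ha) (w.k.cenV.le ⟨w.k.tri.AB' (cm_mem g1 ha), w.Oc (cm_mem' hg
      (le_normalizer_pCoreOf_of_le (w.k.tri.AB'.trans w.cx.BH) ha))⟩).2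
  have yB := w.k.tri.AB hy
  rw [← cj_pCoreOf] at e
  exact ((bm 2 T).mul_mem_cancel_left (inv_mem yB)).1 (w.c1B w.xT w.x2 w.xM ⟨mem_inf.2
    ⟨mul_mem (inv_mem (bm_le T yB)) gT, mul_mem (inv_mem (centralizer_anti w.k.V_le
      (H12.ea_le_centralizer w.k.tri.eA hy))) (w.Oc hg)⟩, e⟩)

theorem nK_eq : nor K = nor A := w.O_eq ▸ w.nO (w.O_eq ▸ H12.ea_le_centralizer w.k.tri.eA)

theorem cA : cen A ≤ A := w.O_eq ▸ w.cO (w.O_eq ▸ H12.ea_le_centralizer w.k.tri.eA)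

theorem le_A (h : IsPGroup 2 S) (h1 : S ≤ nor K) (h2 : S ≤ cen (pCoreOf 2 K)) : S ≤ A :=
  w.O_eq ▸ w.sy' (w.O_eq ▸ w.nK_eq ▸ h1) h h1 h2

theorem nD (hg : g ∈ nor K) : g ∈ nor (zc (bm 2 T) ⊓ cen K) := by
  rw [← w.k.A_cen]
  exact le_normalizer_inf w.nK_eq.le (normalizer_le_normalizer_centralizer K) hg

theorem cjD : cj x (zc (bm 2 T) ⊓ cen K) = zc (bm 2 T) ⊓ cen (cj x K) := by
  rw [cj_inf, cj_centralizer, cj_eq_self (Co.nZ w.xB)]

theorem pZ : IsPGroup 2 (zc (bm 2 T)) := H12.ea_isPGroup w.k.tri.eZ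

theorem DD : zc (bm 2 T) ⊓ cen K ⊓ (zc (bm 2 T) ⊓ cen (cj x K)) = ⊥ := by_contra fun h => by
  have n : T ≤ nor (zc (bm 2 T) ⊓ cen K) := fun _ ht => w.nD (w.TM ht)
  rw [← w.cjD] at h
  refine w.xM (w.uq _ (w.pZ.to_le (inf_le_left.trans inf_le_left)) h (w.nH (le_normalizer_inf n
    (nor_cj n w.xT)) (le_normalizer_of_le_centralizer (cen_symm (inf_le_left.trans inf_le_right)))) ?_)
  rw [← cj_eq_self_iff, cj_inf, cj_cj, cj_eq_self (w.nD w.x2), inf_comm]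

theorem idxD : (zc (bm 2 T) ⊓ cen K).relIndex (zc (bm 2 T)) = q := by
  rw [← w.k.tri.idxD, ← inf_relIndex_right (bm 2 T ⊓ cen K), inf_relIndex_left, inf_right_comm,
    inf_of_le_right (inf_le_left : zc (bm 2 T) ≤ _), inf_relIndex_left]

theorem cardA : Nat.card A = q * (q * Nat.card ↥(zc (bm 2 T) ⊓ cen K)) := by
  rw [w.k.tri.card_A, ← H12.card_mul_relIndex (inf_le_left : zc (bm 2 T) ⊓ cen K ≤ _), w.idxD, mul_comm _ q]

theorem cardD : Nat.card ↥(zc (bm 2 T) ⊓ cen K) ≤ q := by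
  rw [← w.idxD, ← card_cj x, w.cjD, ← relIndex_bot_left, ← w.DD, inf_relIndex_right]
  exact relIndex_le_of_le_right inf_le_left FiniteIndex.index_ne_zero

theorem le_A' (h : IsPGroup 2 E) (h1 : bm 2 T ≤ nor E) (h2 : K ≤ nor E) : E ≤ A := by
  have nE := w.k.tri.AB.trans h1
  have n : K ≤ nor (A ⊔ E ⊓ nor A) :=
    le_normalizer_sup w.k.RA (le_normalizer_inf h2 (le_normalizer_normalizer w.k.RA))
  have n' : A ⊔ E ⊓ nor A ≤ nor K := (sup_le le_normalizer inf_le_right).trans w.nA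
  have p := two_sup w.pA h.to_inf_left (inf_le_right : E ⊓ nor A ≤ _)
  have h3 := w.sy _ p (w.O_eq.le.trans le_sup_left) n' (le_trans (le_inf (commutator_le_left' n)
    (commutator_le_right' n')) (le_pCoreOf p.to_inf_left inf_le_right (le_normalizer_inf n le_normalizer)))
  by_contra e
  refine (lt_inf_normalizer (two_sup h w.pA nE) (right_lt_sup.2 e)).not_ge ?_
  rw [sup_comm, sup_inf_of_le_left nE le_normalizer, h3, w.O_eq]

variable (hq : 2 < q)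
include hq

theorem cen_d (hd : d ∈ zc (bm 2 T) ⊓ cen K) (h : d ≠ 1) : cen1 d ≤ nor K := by
  obtain ⟨d₀, h0, h1⟩ := (bot_or_exists_ne_one _).resolve_left (inf_centralizer_ne_bot
    (w.pZ.to_le inf_le_left) w.two (fun _ ht => w.nD (w.TM ht)) fun e => h (mem_bot.1 (e ▸ hd)))
  have h2 := ea_sq w.k.tri.eZ h0.1.1
  have h3 : cen1 d₀ ≤ nor K := nor_zpowers h2 ▸ w.uq _ (two_zpowers h2) (mt zpowers_eq_bot.1 h1)
    (le_normalizer_of_le_centralizer (cen_symm (zpowers_le.2 (by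
      rw [← w.gen, cen, centralizer_sup]; exact ⟨h0.2, h0.1.2⟩))))
  obtain ⟨F, _, _, -, ⟨c⟩⟩ := jobCo G q _ _ _ _ w.k' hq
  have h4 := fun {d} (hd : d ∈ zc (bm 2 T) ⊓ cen K) (h : d ≠ 1) => mt (c.z.ker d hd.1).1
    fun e => h (mem_bot.1 (w.DD ▸ mem_inf.2 ⟨hd, e⟩))
  obtain ⟨g, hg, e⟩ := c.scal_z (div_ne_zero (h4 hd h) (h4 h0.1 h1))
  have gK := w.nA (w.k'.nA' (le_normalizer hg.1) hg.2)
  have h5 := conj_mem_of_mem_normalizer (w.nD gK) h0.1
  have h6 := (c.z.eq_iff h5.1 hd.1).1 (by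
    rw [e.eq d₀ h0.1.1, RingAut.one_apply, div_mul_cancel₀ _ (h4 h0.1 h1)])
  rw [← inv_mul_eq_one.1 (mem_bot.1 (w.DD.le (mem_inf.2 ⟨mul_mem (inv_mem h5) hd, h6⟩))), ← cj_cen1]
  exact cj_le_of_le_of_mem h3 gK

theorem lu (h : IsPGroup 2 E) (h0 : E ≠ ⊥) (h1 : bm 2 T ≤ nor E) (h2 : K ≤ nor E) : nor E ≤ nor K := by
  have h3 := w.le_A' h h1 h2
  have h4 : cen E ≤ nor K := by
    rcases w.irr h3 h2 w.k with e | e
    · exact ((centralizer_anti e).trans (le_normalizer_of_le_centralizer le_rfl)).trans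
        (w.uq _ (isPGroup_pCoreOf K) w.U_ne (le_normalizer_pCoreOf w.HM))
    · obtain ⟨d, hd, e'⟩ := (bot_or_exists_ne_one E).resolve_left h0
      exact le_trans (fun g hg => mem_cen1.2 (com hg hd).symm) (w.cen_d hq (w.k.A_cen.le ⟨h3 hd, e hd⟩) e')
  have n : nor E ≤ nor (pCoreOf 2 (cen E)) := le_normalizer_pCoreOf (normalizer_le_normalizer_centralizer E)
  rw [w.nK_eq, le_antisymm (le_pCoreOf w.pA ((H12.ea_le_centralizer w.k.tri.eA).trans (centralizer_anti h3))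
    (h4.trans w.nK_eq.le)) (w.le_A' (isPGroup_pCoreOf _) (h1.trans n) (h2.trans n))]
  exact n

theorem nB (hP : IsPGroup 2 P) (h1 : bm 2 T ≤ P) (h2 : P ≤ nor K) : P ≤ nor (bm 2 T) := by
  obtain ⟨F, _, _, hF, ⟨c⟩⟩ := jobCo G q _ _ _ _ w.k hq
  have h3 : bm 2 T ≤ K ⊔ A := w.genB.ge.trans (sup_le le_sup_right fun a ha => by
    obtain ⟨y, hy, e⟩ := c.A'_le w.k (hF ▸ hq) ha
    simpa using mul_mem_sup hy.2 (w.k.tri.zA e))
  rw [← w.k.syl.eq_of_le hP.to_inf_left (le_inf h1 h3)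
    (inf_le_right.trans (sup_le_sup_left w.k.tri.AB K))]
  exact le_normalizer_inf le_normalizer (le_normalizer_sup h2 (h2.trans w.nK_eq.le))

theorem mem_B {F : Type} [Field F] (c : Co (bm 2 T) K A A' F) (hg : g ∈ nor K) (hg' : g ∈ nor (bm 2 T))
    (ht : T2 g) (e : c.sg g = 1) : g ∈ bm 2 T := by
  obtain ⟨y, hy, h, -⟩ := c.act_like w.k hq hg hg' ht e
  have yB := inv_mem (w.k.tri.AB' hy)
  exact ((bm 2 T).mul_mem_cancel_left yB).1 (w.k.tri.AB (w.le_A (T2.of_mem (two_sup w.k.tri.two ht.isPGroup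
    (zpowers_le.2 hg')) (mul_mem_sup yB (mem_zpowers g))).isPGroup (zpowers_le.2 (mul_mem (w.k.nR yB) hg))
    (zpowers_le.2 h) (mem_zpowers _)))

omit hq in
theorem ea_or (hE : IsElementaryAbelian 2 E) (h : E ≤ bm 2 T) : E ≤ A ∨ E ≤ A' :=
  (w.k.tri.ea_or hE h).imp (fun e => (le_inf h e).trans w.cenA) fun e => (le_inf h e).trans w.cenA'

theorem ea_le (hE : IsElementaryAbelian 2 E) (h1 : E ≤ nor K) (h2 : E ≤ nor (bm 2 T))
    (h3 : Nat.card A ≤ Nat.card E) : E ≤ bm 2 T := by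
  obtain ⟨F', _, _, hF, ⟨c⟩⟩ := jobCo G q _ _ _ _ w.k hq
  by_contra h
  obtain ⟨φ, hφ, h⟩ := SetLike.not_le_iff_exists.1 h
  have hs : ∀ x ∈ E, x ∉ bm 2 T → c.sg x ≠ 1 := fun x hx e e' =>
    e (w.mem_B hq c (h1 hx) (h2 hx) (T2.of_sq (ea_sq hE hx)) e')
  have h4 := card_le_two_mul (H := bm 2 T) (K := E) fun x hx y hy e e' =>
    w.mem_B hq c (h1 (mul_mem hx hy)) (h2 (mul_mem hx hy)) (T2.of_sq (ea_sq hE (mul_mem hx hy)))
      (c.sg_mul_of_sq (h1 hx) (h2 hx) (h1 hy) (h2 hy) (by rw [ea_sq hE hx, c.sg_one])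
        (by rw [ea_sq hE hy, c.sg_one]) (hs x hx e) (hs y hy e'))
  have h0 : ∀ (Y : Subgroup G), ∀ x ∈ E ⊓ bm 2 T, ⁅φ, x⁆ ∈ Y := fun Y x hx => by
    rw [commutatorElement_eq_one_iff_commute.2 (ea_com hE hφ hx.1)]; exact one_mem _
  have h5 : (zc (bm 2 T)).relIndex (E ⊓ bm 2 T) ^ 2 ≤ q := by
    rw [← hF]
    rcases w.ea_or (H12.ea_mono hE inf_le_left) inf_le_right with e | e
    · exact c.fix_a w.k (h1 hφ) (h2 hφ) (hs φ hφ h) e (h0 _)
    · exact c.fix_b w.k (h1 hφ) (h2 hφ) (hs φ hφ h) e (h0 _)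
  have h6 := c.fix_z (h1 hφ) (h2 hφ) (hs φ hφ h) (X := zc (bm 2 T) ⊓ (E ⊓ bm 2 T)) inf_le_left
    fun x hx => h0 _ x hx.2
  rw [hF] at h6
  have h7 := H12.card_inf_mul_relIndex (zc (bm 2 T)) (E ⊓ bm 2 T)
  have h8 := H12.card_inf_mul_relIndex (zc (bm 2 T) ⊓ cen K) (zc (bm 2 T) ⊓ (E ⊓ bm 2 T))
  have h9 := card_le_of_le (inf_le_left : zc (bm 2 T) ⊓ cen K ⊓ (zc (bm 2 T) ⊓ (E ⊓ bm 2 T)) ≤ _)
  have h10 := (Nat.pow_le_pow_iff_left two_ne_zero).1
    (((mul_pow _ _ 2).trans_le (Nat.mul_le_mul h6 h5)).trans_eq (sq q).symm)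
  have h11 : 0 < Nat.card ↥(zc (bm 2 T) ⊓ cen K) := Nat.card_pos
  rw [← h7, ← h8, mul_assoc] at h4
  have h12 := (w.cardA ▸ h3).trans (h4.trans (Nat.mul_le_mul_left 2 (Nat.mul_le_mul h9 h10)))
  nlinarith [Nat.mul_pos h11 (by omega : 0 < q)]

theorem bmP (hX : IsPGroup 2 P) (h1 : bm 2 T ≤ P) (h2 : P ≤ nor K) : bm 2 P = bm 2 T := by
  have t := w.k.tri
  have h3 := w.nB hq hX h1 h2
  have h4 : ∀ E ∈ H12.maxEA 2 P, E ≤ bm 2 T := fun E hE => w.ea_le hq hE.2.1 (hE.1.trans h2) (hE.1.trans h3)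
    (hE.2.2 _ (t.AB.trans h1) t.eA)
  have h6 : jt 2 P = bm 2 T := by
    rw [← jt_eq_of_le (H12.thompsonSubgroupOf_le_iff.2 h4) h1, w.cl.jt_B]
  refine le_antisymm (fun g hg => ?_) (h6 ▸ jt_le_bm P)
  obtain ⟨F', _, _, -, ⟨c⟩⟩ := jobCo G q _ _ _ _ w.k hq
  rw [bm_eq, h6] at hg
  exact w.mem_B hq c (h2 hg.1) (h3 hg.1) (T2.of_mem hX hg.1) (c.sg_of_cen (h2 hg.1) (h3 hg.1)
    (centralizer_anti (le_oz t.eZ inf_le_left inf_le_right) hg.2))

theorem uno : Uno q (bm 2 T) K A A' := by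
  refine ⟨w.k, w.genB, fun D hD h0 h1 h => ?_, fun _ => w.bmP hq⟩
  have hn := w.lu hq hD h0 h1 h
  obtain ⟨S, hS, hB⟩ := exists_isSyl_le w.k.tri.two h1
  have S1 := hS.le.trans hn
  have S2 := w.nB hq hS.isPGroup hB S1
  refine ⟨⟨SubN.of_normal h hn, S, hS, block_of_bm w.k.blk ((bm_bm T).trans
    (w.bmP hq hS.isPGroup hB S1).symm) fun e => ?_⟩, hn⟩
  have h2 : oz 2 S ≤ zc (bm 2 T) ⊓ cen K := (le_inf ((oz_le_centralizer S).trans ((centralizer_anti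
    (w.k.tri.AB.trans hB)).trans w.cA)) (cen_symm e)).trans w.k.A_cen.le
  by_cases h3 : zc (bm 2 T) ⊓ cen K = ⊥
  · exact oz_ne_bot hS.isPGroup (fun e' => w.U_ne (le_bot_iff.1 (e' ▸ w.UB.trans hB))) (le_bot_iff.1 (h3 ▸ h2))
  rw [← cj_eq_bot_iff (g := x), w.cjD] at h3
  have n : S ≤ nor (cj x K) := fun g hg => by
    have := w.k.nA' (S1 hg) (S2 hg)
    rw [← w.e, nor, ← cj_normalizer] at this
    rw [nor, ← cj_normalizer]
    exact cj_mono x w.nA this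
  refine inf_centralizer_ne_bot (w.pZ.to_le inf_le_left) hS.isPGroup (le_normalizer_inf (H52.n_zc S2)
    (le_normalizer_centralizer n)) h3 (le_bot_iff.1 (w.DD ▸ le_inf (le_trans (le_oz ?_
      (inf_le_left.trans (inf_le_left.trans (inf_le_left.trans hB))) inf_le_right) h2) inf_le_left))
  exact H12.ea_mono w.k.tri.eZ (inf_le_left.trans inf_le_left)

omit hq in
theorem sec : SectionalPRankLE 2 4 G := by
  rcases (Nat.succ_le_of_lt w.k.tri.one_lt).eq_or_lt with rfl | hq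
  · have h1 := w.cardA
    have h2 := w.cardD
    have h3 : 0 < Nat.card ↥(zc (bm 2 T) ⊓ cen K) := Nat.card_pos
    exact sec_small w.k.tri.eA w.cA (by omega)
  have r := (w.uno hq).cj x
  rw [cj_eq_self w.xB, w.e, w.e'] at r
  obtain ⟨F, F', _, _, _, _, ⟨s⟩⟩ := exists_tw w.loc (w.uno hq) r hq
  exact s.sec w.xB fun h => w.xM (w.nA h)

end PK

end H96.PU
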