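import Cfsg.Agent.H96.PuB

/-! Pushing up a rank one group: the alternating blocks. -/

set_option autoImplicit false

namespace H96.PU

open Subgroup Cfsg H98 H96 H96.CG H98.H96.CG Equiv
open H52 (zc Vv)
open H57.CGQ (idx2 comm2 mem_two)
open scoped commutatorElement

universe u

theorem six : ∃ a b c : Perm (Fin 6), ⁅c * c, a * a⁆ = 1 ∧ ⁅c * c, b * b⁆ = 1 ∧ ⁅a * a, b * b⁆ ≠ 1 ∧
    c * c ≠ 1 :=
  ⟨swap 0 1 * swap 1 2 * swap 2 3, swap 0 4 * swap 4 1 * swap 1 5, swap 0 2 * swap 2 1 * swap 1 3,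
    by decide +kernel⟩

theorem five : ∃ p p' : Perm (Fin (2 * 2 + 1)), p ∈ alternatingGroup _ ∧ p' ∈ alternatingGroup _ ∧ p * p = 1 ∧
    p' * p' = 1 ∧ p * p' = p' * p ∧ ∀ a b, a ≠ b → p * swap a b = swap a b * p →
      p' * swap a b ≠ swap a b * p' :=
  ⟨swap 0 1 * swap 2 3, swap 0 2 * swap 1 3, by simp [Perm.mem_alternatingGroup],
    by simp [Perm.mem_alternatingGroup], by decide +kernel⟩

theorem five' : ∀ a b c d : Fin (2 * 2 + 1), a ≠ b → c ≠ d → swap a b ≠ swap c d →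
    swap a b * swap c d = swap c d * swap a b → a ≠ c ∧ a ≠ d ∧ b ≠ c ∧ b ≠ d := by decide +kernel

theorem five'' : ∀ a b c d e f : Fin (2 * 2 + 1), a ≠ b → c ≠ d → a ≠ c → a ≠ d → b ≠ c → b ≠ d →
    e = a ∨ e = b ∨ e = c ∨ e = d ∨ f = a ∨ f = b ∨ f = c ∨ f = d ∨ e = f := by decide +kernel

theorem exists_swaps {a b c d : Fin (2 * 2 + 1)} {π : Perm (Fin (2 * 2 + 1))} (ab : a ≠ b) (cd : c ≠ d)
    (ac : a ≠ c) (ad : a ≠ d) (bc : b ≠ c) (bd : b ≠ d) (h1 : Commute π (swap a b))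
    (h2 : Commute π (swap c d)) : ∃ σ ∈ zpowers (swap a b), ∃ τ ∈ zpowers (swap c d), π = σ * τ := by
  have k : ∀ π : Perm (Fin (2 * 2 + 1)), π a = a → π b = b → π c = c → π d = d → π = 1 :=
    fun π e1 e2 e3 e4 => Equiv.ext fun e => by
      rcases five'' a b c d e (π e) ab cd ac ad bc bd with h | h | h | h | h | h | h | h | h
      exacts [h ▸ e1, h ▸ e2, h ▸ e3, h ▸ e4, h.trans (π.injective (h.trans e1.symm)).symm,
        h.trans (π.injective (h.trans e2.symm)).symm, h.trans (π.injective (h.trans e3.symm)).symm,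
        h.trans (π.injective (h.trans e4.symm)).symm, h.symm]
  rcases apply_eq_or h1 ab with ⟨e1, e2⟩ | ⟨e1, e2⟩ <;> rcases apply_eq_or h2 cd with ⟨e3, e4⟩ | ⟨e3, e4⟩
  · exact ⟨1, one_mem _, 1, one_mem _, by rw [k π e1 e2 e3 e4, mul_one]⟩
  · refine ⟨1, one_mem _, _, mem_zpowers _, ?_⟩
    rw [one_mul, ← swap_inv, ← mul_eq_one_iff_eq_inv']
    refine k _ ?_ ?_ ?_ ?_ <;> simp [swap_apply_def, *, ac.symm, ad.symm, bc.symm, bd.symm]
  · refine ⟨_, mem_zpowers _, 1, one_mem _, ?_⟩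
    rw [mul_one, ← swap_inv, ← mul_eq_one_iff_eq_inv']
    refine k _ ?_ ?_ ?_ ?_ <;> simp [swap_apply_def, *, ac.symm, ad.symm, bc.symm, bd.symm]
  · refine ⟨_, mem_zpowers _, _, mem_zpowers _, ?_⟩
    rw [← swap_inv a, ← swap_inv c, ← mul_inv_rev, ← mul_eq_one_iff_eq_inv']
    refine k _ ?_ ?_ ?_ ?_ <;> simp [swap_apply_def, *, ac.symm, ad.symm, bc.symm, bd.symm]

variable {G : Type u} [Group G] [Finite G] {q : ℕ} {H K T X L Y : Subgroup G}

/-- the `A₅`-block -/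
structure PA (H K T X L Y R A A' : Subgroup G) (k v t r : G) : Prop extends PV H K T X 2 L Y where
  b : Bk 2 (bm 2 T) R A A'
  RK' : R ≤ K
  VU : pCoreOf 2 R ≤ pCoreOf 2 K
  kT : k ∈ T
  k2 : k * k ∈ bm 2 T
  v1 : v ∈ pCoreOf 2 R
  v2 : v ∉ zc (bm 2 T)
  t1 : t ∈ A'
  t2 : t ∉ zc (bm 2 T)
  cm : Cm (cj k A) (cj k A') A A'
  act : ∀ g ∈ nor K, g ∈ nor A' → g ∈ nor (cj k A') →
    ∃ c ∈ A', ∃ c' ∈ cj k A', (c * c')⁻¹ * g ∈ cen (pCoreOf 2 K)
  rz : Commute r (⁅v, t⁆ * (k * ⁅v, t⁆ * k⁻¹))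
  rt : ∀ b ∈ nor K, t⁻¹ * b ∈ cen (pCoreOf 2 K) → ¬ T2 (b * (r * b * r⁻¹))

namespace PV

variable (u : PV H K T X q L Y)
include u

set_option maxHeartbeats 800000 in
theorem exists_pa {s : Sec (Ev (Fin (2 * 2 + 1))) (bU 2 K) (bY 2 K)} (ρ : K →* Perm (Fin (2 * 2 + 1)))
    (d : BC 2 H T K s (pm _).range) (hr : ρ.range = alternatingGroup _) (hα : ∀ e : K, s.α e = pm _ (ρ e))
    (hk : ∀ e : K, ρ e = 1 ↔ (e : G) ∈ pCoreOf 2 K) : ∃ R A A' k v t r, PA H K T X L Y R A A' k v t r := by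
  have three : 3 ≤ Fintype.card (Fin (2 * 2 + 1)) := by simp
  have odd : Odd (Fintype.card (Fin (2 * 2 + 1))) := ⟨2, by simp⟩
  have hi := pm_inj three
  have alt := hr ▸ s.bar_eq_map (nn_bU le_normalizer) ρ _ hα
  obtain ⟨rfl, u1, _, ⟨a, b, ab, rfl⟩, e⟩ := alt_two u.cx d (by norm_num) alt u.y u.RK u.nX
  have eU := u.facts.1
  have nn : ∀ {g}, g ∈ nor K → g ∈ nn (bU 2 K) (bY 2 K) := fun hg => nn_bU le_rfl hg
  have bk := u.bk
  have BK := (bm_le (p := 2) T).trans u.TM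
  have ZU : zc (bm 2 T) ≤ cen (bU 2 K) := inf_le_right.trans (centralizer_anti d.U_le_bm)
  have VU : pCoreOf 2 (res 2 L) ≤ bU 2 K := by
    obtain ⟨_, _, s', _, d'⟩ := block_bc' u.chH u.syl (u.RK.trans u.KH)
      (u.cx.block (u.RK.trans u.KH) u.y.blk u.nX)
    have nF := nrm_bU (p := 2) (u.RK.trans le_normalizer)
    exact bk.V_bU.le.trans ((d'.XE d.U_le_V nF (mt le_centralizer_iff.1 u1)).ge.trans (commutator_le_left' nF))
  obtain ⟨t, ht, et⟩ := s.exists_α (e.ge (mem_zpowers _))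
  replace ht : t ∈ Y ⊔ zc (bm 2 T) := mem_sup_left ht
  have AU : Vv 2 L ≤ cen (bU 2 K) :=
    cen_symm (bk.le_cenA d.U_le_bm (nrm_bU (u.RK.trans le_normalizer)) (nrm_bU BK))
  generalize Y ⊔ zc (bm 2 T) = A' at *
  generalize Vv 2 L = A at *
  have tK := BK (bk.tri.AB' ht)
  have nz : ∀ {t : G} {a b}, a ≠ b → s.α t = pm _ (swap a b) → t ∉ cen (bU 2 K) := fun ab e h =>
    ab (swap_eq_one_iff.1 (hi (by rw [← e, s.α_of_centralizer h, map_one])))
  have cmt : ∀ {R A A' : Subgroup G} {t g : G} {a b π}, Bk 2 (bm 2 T) R A A' → t ∈ A' → a ≠ b →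
      s.α t = pm _ (swap a b) → g ∈ nor K → g ∈ nor A' → s.α g = pm _ π → Commute π (swap a b) := by
    intro R A A' t g a b π bk ht ab et hg hg' e
    have tK := BK (bk.tri.AB' ht)
    have h1 : s.α (g * t * g⁻¹) = pm _ (swap (π a) (π b)) := by
      rw [s.α_conj (nn hg) (nn tK), e, et, swap_apply_apply, map_mul, map_mul, map_inv]
    have h2 := s.α_of_centralizer (ZU (idx2 bk.tri.idx' ht (conj_mem_of_mem_normalizer hg' ht)
      (fun h => nz ab et (ZU h)) fun h => nz (π.injective.ne ab) h1 (ZU h)))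
    rw [s.α_mul (nn tK) (nn (mul_mem (mul_mem hg tK) (inv_mem hg))), h1, et, ← map_mul, swap_apply_apply,
      ← map_one (pm _)] at h2
    exact H57.CGQ.com_of ((eq_inv_of_mul_eq_one_right (hi h2)).trans (swap_inv a b))
  obtain ⟨k, kT, k2, kc⟩ : ∃ k : K, (k : G) ∈ T ∧ ρ k * ρ k = 1 ∧ ¬ Commute (ρ k) (swap a b) := by
    obtain ⟨p, p', h1, h1', h2, h2', h3, h4⟩ := five
    obtain ⟨k, rfl⟩ := hr.ge h1
    obtain ⟨k', rfl⟩ := hr.ge h1'
    have h5 : IsPGroup 2 (((zpowers (ρ k) ⊔ zpowers (ρ k')).comap ρ).map K.subtype) :=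
      ((two_sup (two_zpowers h2) (two_zpowers h2') (zpowers_le.2 ((nor_zpowers h2).ge
        (mem_cen1.2 h3.symm)))).comap_of_ker_isPGroup ρ ((isPGroup_pCore 2 K).to_le fun x hx => by
          rw [← pCoreOf_subgroupOf]; exact (hk x).1 hx)).map _
    obtain ⟨g, hg, h6⟩ := (u.syl.inf_of_le_normalizer u.KH u.TM).exists_cj_le h5 (map_subtype_le _)
    have h7 : ∀ k : K, ρ k ∈ zpowers (ρ k) ⊔ zpowers (ρ k') ∨ True → ρ k * ρ k = 1 →
        Commute (ρ (⟨g, hg⟩ * k * ⟨g, hg⟩⁻¹)) (swap a b) → ρ k * swap ((ρ ⟨g, hg⟩)⁻¹ a) ((ρ ⟨g, hg⟩)⁻¹ b) =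
          swap ((ρ ⟨g, hg⟩)⁻¹ a) ((ρ ⟨g, hg⟩)⁻¹ b) * ρ k := fun k _ _ h => by
      rw [swap_apply_apply]
      simpa [mul_assoc] using (h.conj (ρ ⟨g, hg⟩)⁻¹).eq
    by_cases h8 : Commute (ρ (⟨g, hg⟩ * k * ⟨g, hg⟩⁻¹)) (swap a b)
    · exact ⟨⟨g, hg⟩ * k' * ⟨g, hg⟩⁻¹, (h6 (conj_mem_cj ⟨k', mem_sup_right (mem_zpowers _), rfl⟩)).1,
        by simp [h2'], fun h => h4 _ _ ((ρ ⟨g, hg⟩)⁻¹.injective.ne ab) (h7 k (Or.inr trivial) h2 h8)
          (h7 k' (Or.inr trivial) h2' h)⟩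
    · exact ⟨⟨g, hg⟩ * k * ⟨g, hg⟩⁻¹, (h6 (conj_mem_cj ⟨k, mem_sup_left (mem_zpowers _), rfl⟩)).1,
        by simp [h2], h8⟩
  have kK : (k : G) ∈ nor K := le_normalizer k.2
  have kB := le_normalizer_bm (p := 2) le_normalizer kT
  have bk' := bk.cj_of_mem kB
  have cd := (ρ k).injective.ne ab
  have et' : s.α (k * t * (k : G)⁻¹) = pm _ (swap (ρ k a) (ρ k b)) := by
    rw [s.α_conj (nn kK) (nn tK), hα, et, swap_apply_apply, map_mul, map_mul, map_inv]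
  have cm : Cm (cj (k : G) A) (cj (k : G) A') A A' := by
    rcases bk.tri.op.cmp bk'.tri.op with e | e | e
    · exact (kc (cmt bk ht ab et kK (cj_eq_self_iff.1 e.2) (hα k))).elim
    · exact (nz ab et (cj_le_of_le AU (le_normalizer_centralizer (nrm_bU le_rfl) kK) (e.1.ge ht))).elim
    · exact e
  have ht' := conj_mem_cj (g := (k : G)) ht
  have tK' := BK (bk'.tri.AB' ht')
  obtain ⟨ac, ad, bc, bd⟩ := five' a b _ _ ab cd
    (fun h => kc (H57.CGQ.com_of ((swap_apply_apply _ _ _).symm.trans h.symm))) (hi (by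
      rw [map_mul, map_mul, ← et, ← et', ← s.α_mul (nn tK) (nn tK'), ← s.α_mul (nn tK') (nn tK),
        (com (cm.2.2.2 ht') ht).eq]))
  obtain ⟨v, hv, hv'⟩ := SetLike.not_le_iff_exists.1 bk.V_not_le
  obtain ⟨r, er⟩ := hr.ge (show swap a b * swap a (ρ k a) ∈ alternatingGroup _ by
    simp [Perm.mem_alternatingGroup, ab, ac])
  have rK : (r : G) ∈ nor K := le_normalizer r.2
  refine ⟨_, A, A', k, v, t, r * r, u, bk, u.RK, eU ▸ VU, kT, u.UB ((hk (k * k)).1 (by rw [map_mul, k2])), hv, hv',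
    ht, fun h => nz ab et (ZU h), cm, fun g hg h1 h2 => ?_, ?_, fun x hx h ⟨n, e⟩ => ?_⟩
  · obtain ⟨π, e⟩ := normalizer_pm odd three (alt ▸ s.α_mem_normalizer (nn hg) hg)
    obtain ⟨_, ⟨i, rfl⟩, _, ⟨j, rfl⟩, e1⟩ := exists_swaps ab cd ac ad bc bd (cmt bk ht ab et hg h1 e.symm)
      (cmt bk' ht' cd et' hg h2 e.symm)
    have hz : ∀ {t : G} (i : ℤ), t ∈ nor K → s.α (t ^ i) = s.α t ^ i := fun i h => by
      rw [s.α_eq (nn h), ← map_zpow, ← s.α_coe]; rfl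
    have h3 := mul_mem (zpow_mem tK i) (zpow_mem tK' j)
    refine ⟨_, zpow_mem ht i, _, zpow_mem ht' j, eU ▸ d.mem_cent (mul_mem (inv_mem h3) hg) ?_⟩
    rw [s.α_mul (nn (inv_mem h3)) (nn hg), s.α_inv (nn h3), s.α_mul (nn (zpow_mem tK i)) (nn (zpow_mem tK' j)),
      hz i tK, hz j tK', et, et', ← e, e1, map_mul, map_zpow, map_zpow, inv_mul_cancel]
  · have w1 : ⁅v, t⁆ ∈ bU 2 K := cm_mem' (VU hv) (nn tK).1
    have w2 : s.ψ ⁅v, t⁆ = NP.w odd a + NP.w odd b := by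
      rw [← bk.tri.comm_inv (bk.V_le hv) ht, s.ψ_comm (nn tK).1 (VU hv), ← s.α_ψ (nn tK) (VU hv), et]
      by_cases h : (s.ψ v).1 a = (s.ψ v).1 b
      · refine (w_ne bk hv hv' ht (fun h => nz ab et (ZU h)) ⟨d.U_le_bm w1, centralizer_anti u.RK
          ((s.ker _ w1).1 ?_).2⟩).elim
        rw [← bk.tri.comm_inv (bk.V_le hv) ht, s.ψ_comm (nn tK).1 (VU hv), ← s.α_ψ (nn tK) (VU hv), et,
          NP.swap_smul_eq h, sub_self]
      · rw [NP.swap_smul odd h, add_sub_cancel_left]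
    have w3 := conj_mem_of_mem_normalizer (nn kK).1 w1
    have w4 := mul_mem w1 w3
    have w5 := (s.eq_iff' (conj_mem_of_mem_normalizer (nn rK).1 w4) w4).1 (by
      rw [← s.α_ψ (nn rK) w4, s.mul _ w1 _ w3, ← s.α_ψ (nn kK) w1, w2, hα, hα, er]
      simp only [smul_add, NP.pm_w, Perm.mul_apply]
      rw [swap_apply_left, swap_apply_right, swap_apply_of_ne_of_ne ab.symm bc, swap_apply_left,
        swap_apply_right, swap_apply_of_ne_of_ne ac.symm bc.symm, swap_apply_of_ne_of_ne ad.symm cd.symm,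
        swap_apply_of_ne_of_ne ad.symm bd.symm]
      abel)
    generalize ⁅v, t⁆ * (k * ⁅v, t⁆ * (k : G)⁻¹) = z at *
    have c1 := com w5.2 r.2
    have c2 := ea_sq (ea_bU K) w5.1
    refine H57.CGQ.com_of ?_
    calc (r : G) * r * z * ((r : G) * r)⁻¹ = r * (r * z * (r : G)⁻¹ * z⁻¹) * (r : G)⁻¹ * (r * z * (r : G)⁻¹ * z⁻¹) * z := by
          group
      _ = z := by rw [c1.eq, mul_inv_cancel_right, c2, one_mul]
  · have h1 : s.α x = pm _ (swap a b) := by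
      have := s.α_of_centralizer (eU ▸ h)
      rw [s.α_mul (nn (inv_mem tK)) (nn hx), s.α_inv (nn tK), inv_mul_eq_one] at this
      rw [← this, et]
    have h2 := mul_mem rK rK
    have h3 := mul_mem (mul_mem h2 hx) (inv_mem h2)
    have h4 := congrArg s.α e
    rw [s.α_pow (nn (mul_mem hx h3)), s.α_mul (nn hx) (nn h3), s.α_conj (nn h2) (nn hx), s.α_mul (nn rK) (nn rK),
      h1, hα, er, s.α_one, ← map_mul, ← map_inv, ← map_mul, ← map_mul, ← swap_apply_apply, ← map_mul,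
      ← map_pow, ← map_one (pm _)] at h4
    have h5 := orderOf_dvd_of_pow_eq_one (hi h4)
    simp only [Perm.mul_apply] at h5
    rw [swap_apply_left, swap_apply_of_ne_of_ne ac.symm bc.symm, swap_apply_right, swap_apply_left,
      swap_apply_of_ne_of_ne ab.symm bc, swap_apply_right, swap_apply_left,
      swap_apply_of_ne_of_ne ac.symm bc.symm, swap_comm a b,
      (Perm.isThreeCycle_swap_mul_swap_same ab.symm bc ac).orderOf] at h5
    exact absurd (Nat.prime_three.dvd_of_dvd_pow h5) (by norm_num)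

theorem cases : res 2 L = K ∨ ∃ R A A' k v t r, PA H K T X L Y R A A' k v t r := by
  rcases bc_cases u.chH u.syl u.KH u.blk with ⟨F, _, _, n, z, ρ, hF, d, -⟩ | ⟨-, m, s, ρ, hm, d, hr, hα, hk, -⟩
  · exact Or.inl (d.eq_of_blk (d.blk hF) u.RK (res_res L) u.y.comm fun e => u.nX (e.le.trans bot_le))
  have alt := hr ▸ s.bar_eq_map (nn_bU le_normalizer) ρ _ hα
  rcases hm.eq_or_lt with rfl | hm
  · left
    have hi := pm_inj (ι := Fin (2 * 1 + 1)) (by simp)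
    have u1 := (alt_two u.cx d hm alt u.y u.RK u.nX).2.1
    have c3 : Nat.card (s.bar K) = 3 := by
      rw [alt, card_map_of_injective hi]
      have := two_mul_nat_card_alternatingGroup (α := Fin (2 * 1 + 1))
      rw [Nat.card_perm, Nat.card_eq_fintype_card (α := Fin _), Fintype.card_fin] at this
      simp only [Nat.factorial] at this
      omega
    refine d.eq_of_bar_le u.RK (res_res L) u.y.comm (eq_of_le_of_card_ge (s.bar_mono u.RK) ?_).ge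
    rcases (Nat.dvd_prime Nat.prime_three).1 (c3 ▸ card_dvd_of_le (s.bar_mono u.RK)) with e | e
    · exact (u1 (d.cent_of_bar (u.RK.trans le_normalizer) (card_eq_one.1 e))).elim
    · omega
  rcases (Nat.succ_le_of_lt hm).eq_or_lt with rfl | hm
  · exact Or.inr (u.exists_pa ρ d hr hα hk)
  obtain ⟨a, b, c, h1, h2, h3, h4⟩ := six
  let f := Perm.viaEmbeddingHom (Fin.castLEEmb (show 6 ≤ 2 * m + 1 by omega))
  have hf : Function.Injective f := Perm.viaEmbeddingHom_injective _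
  have k : ∀ a, ∃ x : K, ρ x = f (a * a) := fun a => hr.ge (by simp [Perm.mem_alternatingGroup])
  obtain ⟨x, ex⟩ := k a
  obtain ⟨y, ey⟩ := k b
  obtain ⟨z, ez⟩ := k c
  have k' : ∀ {x y : K} {a b}, ρ x = f a → ρ y = f b → (⁅(x : G), (y : G)⁆ ∈ pCoreOf 2 K ↔ ⁅a, b⁆ = 1) :=
    fun {x y a b} e e' => ((hk ⁅x, y⁆).symm.trans (by
      rw [map_commutatorElement, e, e', ← map_commutatorElement, map_eq_one_iff f hf]))
  exact ((u.ct x x.2 y y.2 z z.2 ((k' ez ex).2 h1) ((k' ez ey).2 h2)).elim (fun h => h3 ((k' ex ey).1 h))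
    fun h => h4 (hf (by rw [← ez, (hk z).2 h, map_one]))).elim

end PV

end H96.PU
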