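import Cfsg.Agent.H96.PuC

/-! Pushing up a rank one group: an `A₅`-block is impossible. -/

set_option autoImplicit false

namespace H96.PU

open Subgroup Cfsg H98 H96 H96.CG H98.H96.CG Equiv
open H52 (zc Vv)
open H57.CGQ (idx2 comm2 mem_two)
open scoped commutatorElement

universe u

variable {G : Type u} [Group G] [Finite G] {H K T X L Y R A A' B P S s s' : Subgroup G} {k v t r x y b g : G}

theorem exists_norm (hP : IsPGroup 2 P) (hB : IsPGroup 2 B) (h : B ≤ nor P) (e : ¬ P ≤ B) :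
    ∃ y ∈ P, y ∈ nor B ∧ y ∉ B := by
  by_contra! h1
  refine (lt_inf_normalizer (two_sup hP hB h) (right_lt_sup.2 e)).not_ge ?_
  rw [sup_comm, sup_inf_of_le_left h le_normalizer]
  exact sup_le le_rfl fun y hy => h1 y hy.1 hy.2

omit [Finite G] in
theorem mem_cen_cj : b ∈ cen (cj g S) ↔ g⁻¹ * b * g ∈ cen S := by rw [cen, ← cj_centralizer, mem_cj]

namespace PA

variable (w : PA H K T X L Y R A A' k v t r)
include w

theorem TB : T ≤ nor (bm 2 T) := le_normalizer_bm le_normalizer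

theorem kB : k ∈ nor (bm 2 T) := w.TB w.kT

theorem b' : Bk 2 (bm 2 T) (cj k R) (cj k A) (cj k A') := w.b.cj_of_mem w.kB

theorem kk : cj k (cj k A) = A := by rw [cj_cj, cj_eq_self (w.b.tri.nA w.k2)]

theorem kk' : cj k (cj k A') = A' := by rw [cj_cj, cj_eq_self (w.b.tri.symm.nA w.k2)]

theorem nU : T ≤ nor (pCoreOf 2 K) := le_normalizer_pCoreOf w.TM

theorem BK : bm 2 T ≤ nor K := (bm_le T).trans w.TM

theorem VU' : pCoreOf 2 (cj k R) ≤ pCoreOf 2 K := cj_pCoreOf k R ▸ cj_le_of_le w.VU (w.nU w.kT)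

theorem cenU (hb : b ∈ bm 2 T) (h : b ∈ cen (pCoreOf 2 K)) : b ∈ cen A ∧ b ∈ cen (cj k A) :=
  ⟨(w.b.cenV.le ⟨hb, centralizer_anti w.VU h⟩).2, (w.b'.cenV.le ⟨hb, centralizer_anti w.VU' h⟩).2⟩

theorem vA : v ∈ A := w.b.V_le w.v1

theorem not_le (hg : g ∈ T) : ¬ cj g A' ≤ cen (pCoreOf 2 K) := fun h => w.v2 (w.b.tri.mem_Z_of_cen w.vA
  (cen_symm (cj_le_iff.1 h |>.trans (cj_eq_self (le_normalizer_centralizer w.nU (inv_mem hg))).le) (w.VU w.v1)))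

theorem WB : pCoreOf 2 K ⊔ zc (bm 2 T) ≤ bm 2 T := sup_le w.UB inf_le_left

theorem cW : bm 2 T ⊓ cen (pCoreOf 2 K) ≤ cen (pCoreOf 2 K ⊔ zc (bm 2 T)) := by
  rw [cen, cen, centralizer_sup, inf_comm]
  exact inf_le_inf_left _ (H52.le_cent_zc _)

theorem WU : pCoreOf 2 K ⊔ zc (bm 2 T) ≤ cen (pCoreOf 2 K) :=
  sup_le (H12.ea_le_centralizer w.eU) (inf_le_right.trans (centralizer_anti w.UB))

theorem W_eq : pCoreOf 2 K ⊔ zc (bm 2 T) = A ⊔ cj k A := by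
  have h1 : A ≤ pCoreOf 2 K ⊔ zc (bm 2 T) := w.b.V_sup_Z.ge.trans (sup_le_sup_right w.VU _)
  have h2 : cj k A ≤ pCoreOf 2 K ⊔ zc (bm 2 T) := w.b'.V_sup_Z.ge.trans (sup_le_sup_right w.VU' _)
  refine le_antisymm (fun u hu => ?_) (sup_le h1 h2)
  obtain ⟨a, ha, e⟩ := w.b.tri.op.dec1 (w.WB hu) (w.cenU (w.WB hu) (w.WU hu)).1
  have h3 := mul_mem (inv_mem (h1 ha)) hu
  obtain ⟨a', ha', e'⟩ := w.b'.tri.op.dec1 (w.WB h3) (w.cenU (w.WB h3) (w.WU h3)).2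
  have h4 := mul_mem (inv_mem (h2 ha')) h3
  have h5 : a'⁻¹ * (a⁻¹ * u) ∈ zc (bm 2 T) := mem_zc.2 ⟨w.WB h4, fun b hb => by
    obtain ⟨c, hc, c', hc', e1⟩ := w.act b (w.BK hb) (w.b.tri.symm.nA hb) (w.b'.tri.symm.nA hb)
    have h6 := mul_mem (w.b.tri.AB' hc) (w.b'.tri.AB' hc')
    simpa [mul_assoc] using ((com (mul_mem (inv_mem (w.cm.2.1 ha')) e.2) hc).mul_left (com e'.2 hc')).mul_left
      (com (w.cW (mem_inf.2 ⟨mul_mem (inv_mem h6) hb, e1⟩)) h4).symm⟩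
  simpa using mul_mem (mem_sup_left ha) (mul_mem (mem_sup_right ha') (mem_sup_left (w.b.tri.zA h5)))

theorem U_le : pCoreOf 2 K ≤ A ⊔ cj k A := le_sup_left.trans w.W_eq.le

theorem sides (o : Op (bm 2 T) s s') : s = A ∧ s' = A' ∨ s = A' ∧ s' = A ∨ s = cj k A ∧ s' = cj k A' ∨
    s = cj k A' ∧ s' = cj k A ∨ Cm s s' A A' ∧ Cm s s' (cj k A) (cj k A') := by
  have h1 := w.b.tri.op.cmp o
  have h2 := w.b'.tri.op.cmp o
  tauto

theorem side_out (o : Op (bm 2 T) s s') (h : ¬ s ≤ cen (pCoreOf 2 K)) : s = A' ∨ s = cj k A' := by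
  have h1 := w.W_eq ▸ w.WU
  rcases w.sides o with e | e | e | e | e
  · exact (h (e.1.le.trans (le_sup_left.trans h1))).elim
  · exact Or.inl e.1
  · exact (h (e.1.le.trans (le_sup_right.trans h1))).elim
  · exact Or.inr e.1
  · refine (h (le_trans ?_ (centralizer_anti w.U_le))).elim
    rw [centralizer_sup]
    exact le_inf e.1.1 e.2.1

theorem ne1 : cj k A ≠ A := fun e => w.b.tri.not_le_cen (e.ge.trans w.cm.2.1)

theorem ne2 : cj k A ≠ A' := fun e => w.b.tri.symm.not_le_cen (e.ge.trans w.cm.1)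

end PA

/-- `x` interchanges the sides -/
structure PB (H K T X L Y R A A' : Subgroup G) (k v t r x : G) : Prop
    extends PA H K T X L Y R A A' k v t r where
  xT : x ∈ nor T
  e1 : cj x A = A'
  e2 : cj x A' = A
  e3 : cj x (cj k A) = cj k A'
  e4 : cj x (cj k A') = cj k A

theorem PA.exists_pb (w : PA H K T X L Y R A A' k v t r) : ∃ x, PB H K T X L Y R A A' k v t r x := by
  have kT := le_normalizer w.kT
  obtain ⟨x, hx, e⟩ : ∃ x ∈ nor T, cj x A = A' := by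
    obtain ⟨x, hx, h⟩ := w.exists_x
    have xB := le_normalizer_bm (p := 2) le_rfl hx
    have h1 := cj_mono x w.U_le
    rw [cj_sup] at h1
    by_cases h2 : cj x A ≤ cen (pCoreOf 2 K)
    · rcases w.side_out (w.b'.tri.op.cj_of_mem xB) fun h3 => h (h1.trans (sup_le h2 h3)) with e | e
      · exact ⟨x * k, mul_mem hx kT, by rw [← cj_cj, e]⟩
      · exact ⟨k * (x * k), mul_mem kT (mul_mem hx kT), by rw [← cj_cj, ← cj_cj, e, w.kk']⟩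
    · rcases w.side_out (w.b.tri.op.cj_of_mem xB) h2 with e | e
      · exact ⟨x, hx, e⟩
      · exact ⟨k * x, mul_mem kT hx, by rw [← cj_cj, e, w.kk']⟩
  have xB := le_normalizer_bm (p := 2) le_rfl hx
  have e3 : cj x (cj k A) = cj k A' := by
    refine (w.side_out (w.b'.tri.op.cj_of_mem xB) ?_).resolve_left fun h => w.ne1 (cj_inj.1 (h.trans e.symm))
    have := w.not_le (conj_mem_of_mem_normalizer hx w.kT)
    rwa [← e, cj_cj, inv_mul_cancel_right, ← cj_cj] at this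
  exact ⟨x, w, hx, e, w.b.tri.symm.opp_eq (e ▸ w.b.tri.cj_of_mem xB), e3,
    w.b'.tri.symm.opp_eq (e3 ▸ w.b'.tri.cj_of_mem xB)⟩

namespace PB

variable (w : PB H K T X L Y R A A' k v t r x)
include w

theorem xB : x ∈ nor (bm 2 T) := le_normalizer_bm le_rfl w.xT

theorem HW : H ≤ nor (pCoreOf 2 K ⊔ zc (bm 2 T)) :=
  w.nH (le_normalizer_sup w.nU (H52.n_zc w.TB)) (w.nK le_sup_left (w.WB.trans w.BK) w.WU)

theorem nW (h1 : g ∈ nor A) (h2 : g ∈ nor (cj k A)) : g ∈ nor K :=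
  w.uq _ (w.b.tri.two.to_le w.WB) (fun e => w.U_ne (le_bot_iff.1 (e ▸ le_sup_left))) w.HW
    (w.W_eq ▸ le_normalizer_sup inf_le_left inf_le_right (mem_inf.2 ⟨h1, h2⟩))

theorem x2 : x * x ∈ nor K := w.nW (by rw [← cj_eq_self_iff, ← cj_cj, w.e1, w.e2])
  (by rw [← cj_eq_self_iff, ← cj_cj, w.e3, w.e4])

theorem xM : x ∉ nor K := fun h => w.not_le (one_mem T) (by
  rw [cj_one, ← w.e1]
  exact cj_le_of_le (le_sup_left.trans (w.W_eq ▸ w.WU))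
    (le_normalizer_centralizer (normalizer_le_normalizer_pCoreOf K) h))

theorem four (o : Op (bm 2 T) s s') : s = A ∧ s' = A' ∨ s = A' ∧ s' = A ∨ s = cj k A ∧ s' = cj k A' ∨
    s = cj k A' ∧ s' = cj k A := by
  have h : ∀ {s}, s ≤ bm 2 T → s ≤ cen A → s ≤ cen A' → s ≤ cen (cj k A) → s ≤ cen (cj k A') →
      s ≤ T ⊓ cen (pCoreOf 2 K) ⊓ cen (cj x (pCoreOf 2 K)) := fun h1 h2 h3 h4 h5 => by
    refine le_inf (le_inf (h1.trans (bm_le T)) (le_trans ?_ (centralizer_anti w.U_le)))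
      (le_trans ?_ (centralizer_anti (cj_mono x w.U_le)))
    · rw [centralizer_sup]; exact le_inf h2 h4
    · rw [cj_sup, w.e1, w.e3, centralizer_sup]; exact le_inf h3 h5
  have h1 : ¬ (Cm s s' A A' ∧ Cm s s' (cj k A) (cj k A')) := fun ⟨e, e'⟩ =>
    o.not_le_cen ((h o.le e.1 e.2.1 e'.1 e'.2.1).trans ((w.c1 w.xT w.x2 w.xM).trans
      (centralizer_anti (h o.le' e.2.2.1 e.2.2.2 e'.2.2.1 e'.2.2.2))))
  have := w.sides o
  tauto

theorem cZ4 (hb : b ∈ bm 2 T) (h1 : b ∈ cen A) (h2 : b ∈ cen A') (h3 : b ∈ cen (cj k A))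
    (h4 : b ∈ cen (cj k A')) : b ∈ zc (bm 2 T) := w.cl.cZ b hb fun s s' o => by
  rcases w.four o with e | e | e | e <;> rwa [e.1]

theorem O_eq : pCoreOf 2 H = pCoreOf 2 K ⊔ zc (bm 2 T) := by
  refine le_antisymm (fun g hg => ?_) (le_pCoreOf (w.b.tri.two.to_le w.WB) (w.WB.trans w.cx.BH) w.HW)
  have gT := w.syl.pCoreOf_le hg
  have n : ∀ {R A A' : Subgroup G}, Bk 2 (bm 2 T) R A A' → pCoreOf 2 R ≤ pCoreOf 2 K → cj x A' = A →
      x⁻¹ * g * x ∈ nor A' := fun bk h e => by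
    rw [← mem_cj, cj_normalizer, e, ← bk.V_sup_Z]
    exact le_normalizer_sup (le_normalizer_of_le_centralizer (zpowers_le.2 (centralizer_anti h (w.Oc hg))))
      (zpowers_le.2 (Co.nZ (w.TB gT))) (mem_zpowers g)
  obtain ⟨c, hc, c', hc', e⟩ := w.act _ (w.TM (conj_mem_of_mem_normalizer' w.xT gT)) (n w.b w.VU w.e2)
    (n w.b' w.VU' w.e4)
  have h1 : x * (c * c') * x⁻¹ ∈ pCoreOf 2 K ⊔ zc (bm 2 T) := by
    rw [w.W_eq, ← conj_mul]
    exact mul_mem_sup (w.e2 ▸ conj_mem_cj hc) (w.e4 ▸ conj_mem_cj hc')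
  replace e : x⁻¹ * ((x * (c * c') * x⁻¹)⁻¹ * g) * x ∈ cen (pCoreOf 2 K) := by simpa [mul_assoc] using e
  have h2 := mul_mem (inv_mem (w.WU h1)) (w.Oc hg)
  have h3 := w.c1B w.xT w.x2 w.xM ⟨mem_inf.2 ⟨mul_mem (inv_mem (bm_le T (w.WB h1))) gT, h2⟩, mem_cen_cj.2 e⟩
  have h4 := w.cenU (conj_mem_of_mem_normalizer' w.xB h3) e
  rw [← mem_cen_cj, ← mem_cen_cj, w.e1, w.e3] at h4
  exact (Subgroup.mul_mem_cancel_left _ (inv_mem h1)).1
    (mem_sup_right (w.cZ4 h3 (w.cenU h3 h2).1 h4.1 (w.cenU h3 h2).2 h4.2))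

theorem f1 (hg : g ∈ nor (bm 2 T)) (ht : T2 g) (h1 : g ∈ nor A) (h2 : g ∈ nor (cj k A)) : g ∈ bm 2 T := by
  have gK := w.nW h1 h2
  obtain ⟨c, hc, c', hc', e⟩ := w.act g gK (w.b.tri.nA' ⟨hg, h1⟩) (w.b'.tri.nA' ⟨hg, h2⟩)
  have h3 := inv_mem (mul_mem (w.b.tri.AB' hc) (w.b'.tri.AB' hc'))
  have h4 := zpowers_le.2 (mul_mem (w.BK h3) gK)
  exact ((bm 2 T).mul_mem_cancel_left h3).1 (w.WB (w.O_eq.le (w.sy' (h4.trans (w.nO
    (w.O_eq ▸ (le_inf w.WB w.WU).trans w.cW)).le) (T2.of_mem (two_sup w.b.tri.two ht.isPGroup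
    (zpowers_le.2 hg)) (mul_mem_sup h3 (mem_zpowers g))).isPGroup h4 (zpowers_le.2 e) (mem_zpowers _))))

theorem w1 : ⁅v, t⁆ ∈ zc (bm 2 T) := w.b.tri.comm v w.vA t w.t1

theorem w2 : k * ⁅v, t⁆ * k⁻¹ ∈ zc (bm 2 T) := conj_mem_of_mem_normalizer (Co.nZ w.kB) w.w1

theorem c1' : ⁅A, A'⁆ = zpowers ⁅v, t⁆ := comm2 w.b.tri w.vA w.v2 w.t1 w.t2

theorem c2' : ⁅cj k A, cj k A'⁆ = zpowers (k * ⁅v, t⁆ * k⁻¹) := by
  rw [← cj_commutator, w.c1', cj, MonoidHom.map_zpowers]; rfl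

theorem w2R : k * ⁅v, t⁆ * k⁻¹ ∈ bm 2 T ⊓ cen R :=
  w.b.tri.Ph_le (w.b'.tri.op.comm_le w.cm (w.c2'.ge (mem_zpowers _)))

theorem w1R : ⁅v, t⁆ ∉ bm 2 T ⊓ cen R := w_ne w.b w.v1 w.v2 w.t1 w.t2

theorem w_ne1 : ⁅v, t⁆ ≠ 1 := fun e => w.w1R (e ▸ one_mem _)

theorem exists_y : ∃ y ∈ nor (bm 2 T), cj y A = A ∧ cj y (cj k A) = cj k A' := by
  have t₁ := w.b.tri
  have h2 := ea_sq t₁.eZ w.w2
  have ch := w.loc.cen h2 (mt conj_eq_one_iff.1 w.w_ne1)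
  have BX := zc_le_cen1 w.w2
  have RX : R ≤ cen1 (k * ⁅v, t⁆ * k⁻¹) := fun g hg => mem_cen1.2 (com w.w2R.2 hg)
  have xX : x ∈ cen1 (k * ⁅v, t⁆ * k⁻¹) := by
    rw [← nor_zpowers h2, ← w.c2', ← cj_eq_self_iff, cj_commutator, w.e3, w.e4, commutator_comm]
  have nP := self_le_normalizer_pCoreOf (p := 2) (cen1 (k * ⁅v, t⁆ * k⁻¹))
  have pP := isPGroup_pCoreOf (p := 2) (cen1 (k * ⁅v, t⁆ * k⁻¹))
  have ch' := fun h => ch.le_pCoreOf RX h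
  set P := pCoreOf 2 (cen1 (k * ⁅v, t⁆ * k⁻¹))
  have n1 : R ⊔ bm 2 T ≤ nor (P ⊓ (R ⊔ bm 2 T)) := le_normalizer_inf ((sup_le RX BX).trans nP) le_normalizer
  have e1 := (le_pCoreOf pP.to_inf_left inf_le_right n1).trans w.b.O_eq.le
  rw [le_antisymm (le_inf inf_le_left (e1.trans inf_le_left)) (inf_le_inf_left P le_sup_right)] at n1 e1
  replace n1 := le_sup_left.trans n1
  have e2 : P ⊓ bm 2 T ≤ cen A' := by
    rw [← cj_eq_self (le_normalizer_inf (zpowers_le.2 (nP xX)) (zpowers_le.2 w.xB) (mem_zpowers x)), ← w.e1,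
      cen, ← cj_centralizer]
    exact cj_mono x (e1.trans inf_le_right)
  have e3 : ⁅P ⊓ bm 2 T, R⁆ ≤ zc (bm 2 T) := (le_inf ((w.b.comm_V (inf_le_right.trans w.b.nR)
    (e1.trans (w.b.cenV.ge.trans inf_le_right))).trans w.b.V_le) ((commutator_le_left' n1).trans e2)).trans
    t₁.inf_cen.le
  obtain ⟨f, hf, hf', e4⟩ := w.b.exists_opp
  have e5 : P ⊓ bm 2 T ≤ cen R := by
    rw [← commutator_eq_bot_iff_le_centralizer, ← commutator_commutator_of_res_eq pP.to_inf_left n1 w.b.res_eq,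
      commutator_eq_bot_iff_le_centralizer]
    refine le_trans (le_inf e3 ?_) ((w.b.opp (e4 ▸ le_sup_right) hf').1.le.trans inf_le_right)
    rw [← cj_eq_self (le_normalizer_commutator n1 le_normalizer hf)]
    exact cj_mono f e3
  obtain ⟨y, hy, yB, h⟩ := exists_norm pP t₁.two (BX.trans nP) fun h => w.b.V_ne (le_bot_iff.1
    ((pCoreOf_le R).trans (w.b.res_eq.ge.trans (res_eq_bot_of_isPGroup (pP.to_le
      (ch' (cen_symm ((le_inf le_rfl h).trans e5))))).le)))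
  have h3 : ⁅y, v⁆ ∈ P ⊓ bm 2 T := ⟨cm_mem' hy (nP (BX (t₁.AB w.vA))), cm_mem yB (t₁.AB w.vA)⟩
  have h4 : ∀ {S}, S ≤ cen A' → cj y A ≠ S := fun h e => w.v2 (t₁.mem_Z_of_cen w.vA (by
    rw [show v = ⁅y, v⁆⁻¹ * (y * v * y⁻¹) by group]
    exact mul_mem (inv_mem (e2 h3)) (h (e ▸ conj_mem_cj w.vA))))
  have h5 : cj y A = A ∧ cj y A' = A' := by
    rcases w.four (t₁.op.cj_of_mem yB) with e | e | e | e
    exacts [e, (h4 (H12.ea_le_centralizer t₁.eA') e.1).elim, (h4 w.cm.2.1 e.1).elim, (h4 w.cm.2.2.2 e.1).elim]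
  refine ⟨y, yB, h5.1, ?_⟩
  rcases w.four (w.b'.tri.op.cj_of_mem yB) with e | e | e | e
  · exact (w.ne1 (cj_inj.1 (e.1.trans h5.1.symm))).elim
  · exact (w.ne2 (cj_inj.1 (e.1.trans h5.2.symm))).elim
  · exact (h (w.f1 yB (T2.of_mem pP hy) (cj_eq_self_iff.1 h5.1) (cj_eq_self_iff.1 e.1))).elim
  · exact e.1

theorem perm (hg : g ∈ nor (bm 2 T)) : g * ⁅v, t⁆ * g⁻¹ = ⁅v, t⁆ ∨ g * ⁅v, t⁆ * g⁻¹ = k * ⁅v, t⁆ * k⁻¹ := by
  have h := conj_mem_cj (g := g) (w.c1'.ge (mem_zpowers _))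
  have h1 := mt (conj_eq_one_iff (a := g)).1 w.w_ne1
  rw [cj_commutator] at h
  have eZ := w.b.tri.eZ
  rcases w.four (w.b.tri.op.cj_of_mem hg) with e | e | e | e <;> rw [e.1, e.2] at h
  · exact Or.inl ((mem_two (ea_sq eZ w.w1) (w.c1'.le h)).resolve_left h1)
  · exact Or.inl ((mem_two (ea_sq eZ w.w1) (w.c1'.le (commutator_comm A' A ▸ h))).resolve_left h1)
  · exact Or.inr ((mem_two (ea_sq eZ w.w2) (w.c2'.le h)).resolve_left h1)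
  · exact Or.inr ((mem_two (ea_sq eZ w.w2) (w.c2'.le (commutator_comm (cj k A') _ ▸ h))).resolve_left h1)

theorem nB_le : nor (bm 2 T) ≤ cen1 (⁅v, t⁆ * (k * ⁅v, t⁆ * k⁻¹)) := fun g hg => by
  refine mem_cen1.2 (H57.CGQ.com_of ?_)
  have h := w.perm (mul_mem hg w.kB)
  have ne : ⁅v, t⁆ ≠ k * ⁅v, t⁆ * k⁻¹ := fun e => w.w1R (e ▸ w.w2R)
  rw [show g * k * ⁅v, t⁆ * (g * k)⁻¹ = g * (k * ⁅v, t⁆ * k⁻¹) * g⁻¹ by group] at h
  rw [← conj_mul]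
  rcases w.perm hg with e | e <;> rcases h with e' | e'
  · exact (ne (by simpa using e.trans e'.symm)).elim
  · rw [e, e']
  · rw [e, e', (zcom w.w1 w.w2.1).eq]
  · exact (ne (by simpa using e.trans e'.symm)).elim

theorem false : False := by
  have t₁ := w.b.tri
  have t₂ := w.b'.tri
  have hz := mul_mem w.w1 w.w2
  have ch := w.loc.cen (ea_sq t₁.eZ hz) fun e => w.w1R (by
    rw [eq_inv_of_mul_eq_one_left e]; exact inv_mem w.w2R)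
  have nP := self_le_normalizer_pCoreOf (p := 2) (cen1 (⁅v, t⁆ * (k * ⁅v, t⁆ * k⁻¹)))
  have rP := nP (mem_cen1.2 w.rz)
  replace nP := w.nB_le.trans nP
  have pP := isPGroup_pCoreOf (p := 2) (cen1 (⁅v, t⁆ * (k * ⁅v, t⁆ * k⁻¹)))
  have ch' := fun g (h1 : g ∈ bm 2 T) h2 => ch.le (mem_inf.2 ⟨w.nB_le (le_normalizer h1), h2⟩)
  set P := pCoreOf 2 (cen1 (⁅v, t⁆ * (k * ⁅v, t⁆ * k⁻¹)))
  have cjP : ∀ g ∈ nor (bm 2 T), ∀ b ∈ P ⊓ bm 2 T, g⁻¹ * b * g ∈ P ⊓ bm 2 T := fun g hg b hb =>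
    ⟨conj_mem_of_mem_normalizer' (nP hg) hb.1, conj_mem_of_mem_normalizer' hg hb.2⟩
  have j0 : ∀ b ∈ P ⊓ bm 2 T, b ∈ cen (cj k A) → b ∈ cen A := fun b hb h => by_contra fun h1 => by
    obtain ⟨c, hc, c', hc', e⟩ := w.act b (w.BK hb.2) (t₁.symm.nA hb.2) (t₂.symm.nA hb.2)
    have h2 := w.cenU (mul_mem (inv_mem (mul_mem (t₁.AB' hc) (t₂.AB' hc'))) hb.2) e
    have h3 : c' ∈ zc (bm 2 T) := t₂.symm.mem_Z_of_cen hc' (by
      simpa [mul_assoc] using mul_mem (inv_mem (w.cm.symm.2.2.1 hc)) (mul_mem h (inv_mem h2.2)))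
    have ZU := (le_sup_right.trans w.WU : zc (bm 2 T) ≤ _)
    have h4 : c ∉ zc (bm 2 T) := fun h4 => h1 (w.cenU hb.2 (by
      simpa [mul_assoc] using mul_mem (ZU (mul_mem h4 h3)) e)).1
    refine w.rt b (w.BK hb.2) ?_ (T2.of_mem pP (mul_mem hb.1 (conj_mem_of_mem_normalizer rP hb.1)))
    have := mul_mem (ZU (mul_mem (idx2 t₁.idx' w.t1 hc w.t2 h4) h3)) e
    rw [ea_inv t₁.eA' w.t1]
    simpa [mul_assoc] using this
  have j1 : ∀ g ∈ nor (bm 2 T), ∀ b ∈ P ⊓ bm 2 T, b ∈ cen (cj g A) ↔ b ∈ cen (cj g (cj k A)) := by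
    have j2 : ∀ g ∈ nor (bm 2 T), ∀ b ∈ P ⊓ bm 2 T, b ∈ cen (cj g (cj k A)) → b ∈ cen (cj g A) :=
      fun g hg b hb h => mem_cen_cj.2 (j0 _ (cjP g hg b hb) (mem_cen_cj.1 h))
    refine fun g hg b hb => ⟨fun h => ?_, j2 g hg b hb⟩
    have := j2 _ (mul_mem hg w.kB) b hb
    rw [← cj_cj, ← cj_cj, w.kk] at this
    exact this h
  obtain ⟨y, yB, y1, y2⟩ := w.exists_y
  have all : ∀ b ∈ P ⊓ bm 2 T, b ∉ zc (bm 2 T) →
      b ∉ cen A ∧ b ∉ cen A' ∧ b ∉ cen (cj k A) ∧ b ∉ cen (cj k A') := fun b hb h => by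
    have h1 := j1 1 (one_mem _) b hb
    have h2 := j1 y yB b hb
    have h3 := j1 x w.xB b hb
    have h4 := w.cZ4 hb.2
    rw [cj_one, cj_one] at h1
    rw [y1, y2] at h2
    rw [w.e1, w.e3] at h3
    tauto
  have PB : P ≤ bm 2 T := by_contra fun h => by
    obtain ⟨g, hg, gB, h⟩ := exists_norm pP t₁.two (le_normalizer.trans nP) h
    have n : ∀ {A₁ A₁' D₁ A₂ A₂' D₂ : Subgroup G}, Tri 2 (bm 2 T) A₁ A₁' D₁ → Tri 2 (bm 2 T) A₂ A₂' D₂ →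
        Cm A₁ A₁' A₂ A₂' → (∀ b ∈ P ⊓ bm 2 T, b ∉ zc (bm 2 T) → b ∉ cen A₂ ∧ b ∉ cen A₂') → g ∈ nor A₁ := by
      intro A₁ A₁' D₁ A₂ A₂' D₂ t t' m h
      refine mem_normalizer_of_cj_le ?_
      rintro _ ⟨a, ha, rfl⟩
      have h1 : ⁅g, a⁆ ∈ P ⊓ bm 2 T := ⟨cm_mem' hg (nP (le_normalizer (t.AB ha))), cm_mem gB (t.AB ha)⟩
      have h2 : ⁅g, a⁆ ∈ zc (bm 2 T) := by_contra fun h2 => (t'.invol (conj_mem_of_mem_normalizer gB (t.AB ha))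
        (conj_sq (ea_sq t.eA ha) g)).elim (fun e => (h _ h1 h2).1 (mul_mem e (inv_mem (m.1 ha))))
        fun e => (h _ h1 h2).2 (mul_mem e (inv_mem (m.2.1 ha)))
      simpa [commutatorElement_def] using mul_mem (t.zA h2) ha
    exact h (w.f1 gB (T2.of_mem pP hg) (n t₁ t₂ w.cm.symm fun b hb h => (all b hb h).2.2)
      (n t₂ t₁ w.cm fun b hb h => ⟨(all b hb h).1, (all b hb h).2.1⟩))
  have vB := t₁.AB w.vA
  have tB := t₁.AB' w.t1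
  have h1 : v * t ∈ P := ch' _ (mul_mem vB tB) (mem_cen.2 fun b hb => by
    by_cases h : b ∈ zc (bm 2 T)
    · exact (zcom h (mul_mem vB tB)).symm
    have h2 := all b ⟨hb, PB hb⟩ h
    have h3 := (mem_two (ea_sq t₁.eZ w.w1) (w.c1'.le (t₁.commB' w.vA (PB hb)))).resolve_left fun e =>
      h2.1 (t₁.cent_le vB (H12.ea_le_centralizer t₁.eA w.vA) (mt (t₁.mem_Z_of_cen w.vA) w.v2) (PB hb)
        (cm_one.1 e))
    have h4 := (mem_two (ea_sq t₁.eZ w.w1) (w.c1'.le (commutator_comm A' A ▸ t₁.symm.commB' w.t1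
      (PB hb)))).resolve_left fun e => h2.2.1 (t₁.symm.cent_le tB (H12.ea_le_centralizer t₁.eA' w.t1)
        (mt (t₁.symm.mem_Z_of_cen w.t1) w.t2) (PB hb) (cm_one.1 e))
    refine (cm_one.1 ?_).symm
    rw [show ⁅v * t, b⁆ = v * ⁅t, b⁆ * v⁻¹ * ⁅v, b⁆ by group, h3, h4, (zcom w.w1 vB).eq, mul_inv_cancel_right,
      ea_sq t₁.eZ w.w1])
  refine (all _ ⟨h1, mul_mem vB tB⟩ fun h => w.t2 (t₁.inf_eq.le ⟨?_, w.t1⟩)).2.2.1
    (mul_mem (w.cm.symm.1 w.vA) (w.cm.symm.2.2.1 w.t1))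
  exact (A.mul_mem_cancel_left w.vA).1 (t₁.zA h)

end PB

theorem P0.sec (u : P0 H K T) : SectionalPRankLE 2 4 G := by
  obtain ⟨X, q, L, Y, v⟩ := u.exists_pv
  rcases v.cases with h | ⟨R, A, A', k, a, t, r, w⟩
  · obtain ⟨A, A', x, w⟩ := v.exists_pk h
    exact w.sec
  · obtain ⟨x, w⟩ := w.exists_pb
    exact w.false.elim

end H96.PU
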