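import Cfsg.Agent.H48.QR1
import Cfsg.Agent.H98.WeakClosed
import Cfsg.Agent.H98.Baumann

/-! Quasithin framework, weak closure kit (Aschbacher-Smith, section E.3). No K-group facts.
Ranks are written through indices: codimension at most `j` is `relIndex ≤ 2 ^ j`. -/

set_option autoImplicit false

namespace H96.QF

open Subgroup Cfsg H98 H48.QR
open scoped commutatorElement

variable {G : Type*} [Group G] {V W X Y T A B U N M E H K R : Subgroup G} {i j k : ℕ} {g : G}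

/-- `A` is a subgroup of codimension at most `j` of a conjugate of `V`. -/
def Cod (V A : Subgroup G) (g : G) (j : ℕ) : Prop := A ≤ cj g V ∧ A.relIndex (cj g V) ≤ 2 ^ j

/-- `Γ_j(X, V)`. -/
def Gam (V X : Subgroup G) (j : ℕ) : Set (Subgroup G) := {A | A ≤ X ∧ ∃ g, Cod V A g j}

/-- `W_j(X, V)`. -/
def Wj (V X : Subgroup G) (j : ℕ) : Subgroup G := sSup (Gam V X j)

/-- `C_j(X, V) = C_X(W_j(X, V))`. -/
abbrev Cj (V X : Subgroup G) (j : ℕ) : Subgroup G := X ⊓ cn (Wj V X j)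

/-- `r(G, V) > j` relative to `N` (in use `N = N_G(V)` or `N = M`). -/
def RGt (V N : Subgroup G) (j : ℕ) : Prop := ∀ U ≤ V, U.relIndex V ≤ 2 ^ j → cn U ≤ N

/-- `m(Aut_G(V), V) > j`: no involution of `N_G(V) / C_G(V)` centralizes a subgroup of codimension `≤ j`. -/
def MGt (V : Subgroup G) (j : ℕ) : Prop :=
  ∀ t ∈ nr V, t * t ∈ cn V → ix (zpowers t) V ≤ 2 ^ j → t ∈ cn V

/-- `s(G, V) > j` in the form in which it is used. -/
def SGt (V : Subgroup G) (j : ℕ) : Prop :=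
  ∀ U ≤ V, U.relIndex V ≤ 2 ^ j → ∀ E : Subgroup G, IsPGroup 2 E → E ≤ cn U → E ≤ cn V

/-- `w(G, V) > j`: every subgroup of `N_G(V)` of codimension `≤ j` in a conjugate of `V` centralizes `V`. -/
def WGt (V : Subgroup G) (j : ℕ) : Prop := ∀ A g, Cod V A g j → A ≤ nr V → A ≤ cn V

/-- The image of `A` lies in `𝒜_(k+1)` for the action on `U`. -/
def Ak (A U : Subgroup G) (k : ℕ) : Prop :=
  ¬ A ≤ cn U ∧ ∀ B ≤ A, B.relIndex A ≤ 2 ^ k → U ⊓ cn B ≤ cn A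

/-- `V` is an FF-module for a subgroup of `X` (quadratic offender). -/
def FFq (X V : Subgroup G) : Prop :=
  ∃ B ≤ X, IsElementaryAbelian 2 B ∧ ¬ B ≤ cn V ∧ ⁅⁅V, B⁆, B⁆ = ⊥ ∧ ix B V ≤ ix V B

theorem cj_cn (g : G) (A : Subgroup G) : cj g (cn A) = cn (cj g A) := cj_centralizer g A
theorem cj_nr (g : G) (A : Subgroup G) : cj g (nr A) = nr (cj g A) := cj_normalizer g A

theorem pw (h : i ≤ j) : 2 ^ i ≤ 2 ^ j := Nat.pow_le_pow_right (by norm_num) h

theorem relIndex_cj (g : G) (A B : Subgroup G) : (cj g A).relIndex (cj g B) = A.relIndex B :=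
  relIndex_map_map_of_injective _ _ (MulAut.conj g).injective

theorem Cod.mono (h : Cod V A g i) (e : i ≤ j) : Cod V A g j := ⟨h.1, h.2.trans (pw e)⟩

theorem Cod.cj (h : Cod V A g j) (x : G) : Cod V (H98.cj x A) (x * g) j :=
  ⟨by rw [← cj_cj]; exact cj_mono x h.1, by rw [← cj_cj, relIndex_cj]; exact h.2⟩

theorem cod_self (V : Subgroup G) (g : G) (j : ℕ) : Cod V (cj g V) g j :=
  ⟨le_rfl, by rw [relIndex_self]; exact Nat.one_le_two_pow⟩

theorem Cod.sub (h : Cod V A g i) (hB : B ≤ A) (e : B.relIndex A ≤ 2 ^ k) : Cod V B g (i + k) := by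
  refine ⟨hB.trans h.1, ?_⟩
  rw [← relIndex_mul_relIndex B A _ hB h.1, pow_add, mul_comm]
  exact Nat.mul_le_mul h.2 e

theorem Cod.eq_of_zero [Finite G] (h : Cod V A g 0) : A = H98.cj g V := by
  have h1 := rpos A (H98.cj g V)
  have h2 := h.2
  exact le_antisymm h.1 (relIndex_eq_one.1 (by omega))

theorem Cod.ea (h : Cod V A g j) (hV : IsElementaryAbelian 2 V) : IsElementaryAbelian 2 A :=
  H12.ea_mono (H12.ea_map hV _) h.1

theorem le_Wj (h : Cod V A g j) (hA : A ≤ X) : A ≤ Wj V X j := le_sSup ⟨hA, g, h⟩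

theorem Wj_le_iff : Wj V X j ≤ Y ↔ ∀ A g, Cod V A g j → A ≤ X → A ≤ Y :=
  ⟨fun h _ _ h1 h2 => (le_Wj h1 h2).trans h, fun h => sSup_le fun A ⟨h1, g, h2⟩ => h A g h2 h1⟩

theorem Wj_le (V X : Subgroup G) (j : ℕ) : Wj V X j ≤ X := Wj_le_iff.2 fun _ _ _ h => h

theorem Wj_mono (h : X ≤ Y) (e : i ≤ j) : Wj V X i ≤ Wj V Y j :=
  Wj_le_iff.2 fun _ _ h1 h2 => le_Wj (h1.mono e) (h2.trans h)

theorem self_le_Wj (h : V ≤ X) (j : ℕ) : V ≤ Wj V X j := by
  have := le_Wj (X := X) (cod_self V 1 j) (by rwa [cj_one])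
  rwa [cj_one] at this

theorem cj_le_Wj (h : cj g V ≤ X) (j : ℕ) : cj g V ≤ Wj V X j := le_Wj (cod_self V g j) h

theorem cj_Wj_le (g : G) (V X : Subgroup G) (j : ℕ) : cj g (Wj V X j) ≤ Wj V (cj g X) j :=
  cj_le_iff.2 (Wj_le_iff.2 fun _ _ h1 h2 => cj_le_iff.1 (le_Wj (h1.cj g) (cj_mono g h2)))

theorem cj_Wj (g : G) (V X : Subgroup G) (j : ℕ) : cj g (Wj V X j) = Wj V (cj g X) j := by
  refine le_antisymm (cj_Wj_le g V X j) (le_cj_iff.2 ?_)
  have := cj_Wj_le g⁻¹ V (cj g X) j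
  rwa [cj_inv_cj] at this

theorem le_nr_Wj (h : A ≤ nr X) : A ≤ nr (Wj V X j) := fun a ha =>
  cj_eq_self_iff.1 (by rw [cj_Wj, cj_eq_self (h ha)])

theorem le_nr_Cj (h : A ≤ nr X) : A ≤ nr (Cj V X j) :=
  le_normalizer_inf h (le_normalizer_centralizer (le_nr_Wj h))

theorem Wj_eq_of_le (h1 : Wj V X j ≤ Y) (h2 : Y ≤ X) : Wj V Y j = Wj V X j :=
  le_antisymm (Wj_mono h2 le_rfl) (Wj_le_iff.2 fun _ _ a b => le_Wj a ((le_Wj a b).trans h1))

theorem Wj_Wj (V X : Subgroup G) (j : ℕ) : Wj V (Wj V X j) j = Wj V X j := Wj_eq_of_le le_rfl (Wj_le V X j)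

theorem RGt.mono (h : RGt V N j) (e : i ≤ j) : RGt V N i := fun U h1 h2 => h U h1 (h2.trans (pw e))
theorem MGt.mono (h : MGt V j) (e : i ≤ j) : MGt V i := fun t h1 h2 h3 => h t h1 h2 (h3.trans (pw e))
theorem SGt.mono (h : SGt V j) (e : i ≤ j) : SGt V i := fun U h1 h2 => h U h1 (h2.trans (pw e))
theorem WGt.mono (h : WGt V j) (e : i ≤ j) : WGt V i := fun A g h1 => h A g (h1.mono e)

/-- `r > j` at a conjugate. -/
theorem RGt.cod (h : RGt V N j) (hA : Cod V A g j) : cn A ≤ H98.cj g N := by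
  have := h (H98.cj g⁻¹ A) (le_cj_iff.1 hA.1) (by
    have := hA.2; rwa [← relIndex_cj g⁻¹, cj_inv_cj] at this)
  rw [← cj_cn] at this
  exact le_cj_iff.2 this

theorem RGt.cod_nr (h : RGt V (nr V) j) (hA : Cod V A g j) : cn A ≤ nr (H98.cj g V) := by
  have := h.cod hA
  rwa [cj_normalizer] at this

/-- E.3.6: a 2-group centralizing a subgroup of codimension `< s` of `V^g` centralizes `V^g`. -/
theorem SGt.cod (h : SGt V j) (hA : Cod V A g j) (hE : IsPGroup 2 E) (hc : E ≤ cn A) : E ≤ cn (H98.cj g V) := by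
  have := h (H98.cj g⁻¹ A) (le_cj_iff.1 hA.1) (by
    have := hA.2; rwa [← relIndex_cj g⁻¹, cj_inv_cj] at this) (H98.cj g⁻¹ E) (isPGroup_cj _ hE)
    (by rw [← cj_cn]; exact cj_mono _ hc)
  rw [← cj_cn]
  exact le_cj_iff.2 this

/-- E.3.10. -/
theorem SGt.ak (h : SGt V (i + k)) (hA : Cod V A g i) (hU : IsPGroup 2 U) (hn : ¬ A ≤ cn U) : Ak A U k :=
  ⟨hn, fun _ hB e => (h.cod (hA.sub hB e) (hU.to_inf_left) inf_le_right).trans (centralizer_anti hA.1)⟩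

theorem WGt.cod (h : WGt V j) {x : G} (hA : Cod V A g j) (hn : A ≤ nr (H98.cj x V)) : A ≤ cn (H98.cj x V) := by
  have := h _ _ (hA.cj x⁻¹) (by rw [← cj_nr] at hn; exact le_cj_iff.1 hn)
  rw [← cj_cn]
  exact le_cj_iff.2 this

theorem WGt.Wj_le (h : WGt V j) (hX : X ≤ nr V) : Wj V X j ≤ cn V :=
  Wj_le_iff.2 fun A g h1 h2 => h A g h1 (h2.trans hX)

variable [Finite G]

/-- `s = min (r, m)`. -/
theorem sGt_of (hr : RGt V (nr V) j) (hm : MGt V j) : SGt V j := by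
  intro U hU e E hE hc x hx
  have hn : E ≤ nr V := hc.trans (hr U hU e)
  obtain ⟨n, hn'⟩ := isPGroup_iff_forall.1 hE x hx
  have key : ∀ m : ℕ, x ^ 2 ^ (m + 1) ∈ cn V → x ^ 2 ^ m ∈ cn V := fun m hm' => by
    have hx' : x ^ 2 ^ m ∈ E := pow_mem hx _
    refine hm _ (hn hx') (by rwa [← pow_add, ← two_mul, mul_comm, ← pow_succ]) ?_
    refine le_trans (rl' ?_) e
    exact inf_le_left.trans ((le_centralizer_iff.1 ((zpowers_le.2 hx').trans hc)))
  have : ∀ m : ℕ, x ^ 2 ^ m ∈ cn V → x ∈ cn V := by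
    intro m
    induction m with
    | zero => simp
    | succ m ih => exact fun h => ih (key m h)
  exact this n (by rw [hn']; exact one_mem _)

/-- `w > j` can be tested in a Sylow 2-subgroup of `N_G(V)`. -/
theorem wGt_of (hV : IsPGroup 2 V) (hT : IsSyl 2 T (nr V)) (h : Wj V T j ≤ cn V) : WGt V j := by
  intro A g hA hn
  obtain ⟨x, hx, e⟩ := hT.exists_cj_le ((isPGroup_cj g hV).to_le hA.1) hn
  have := (le_Wj (hA.cj x) e).trans h
  have h2 : cj x (cn V) = cn V := by rw [cj_centralizer, cj_eq_self hx]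
  rw [← h2] at this
  exact cj_le_cj_iff.1 this

theorem wc_Wj (hT : IsSyl 2 T H) : WC 2 (Wj V T j) H :=
  wc_of_isSyl hT (Wj_le V T j) fun g _ h => by
    refine eq_of_le_of_card_ge ?_ (card_cj g _).ge
    rw [cj_Wj] at h ⊢
    exact Wj_le_iff.2 fun A x h1 h2 => le_Wj h1 ((le_Wj h1 h2).trans h)

/-- Burnside: the normalizer of a weakly closed subgroup controls fusion in its centralizer. -/
theorem WC.fuse {p : ℕ} [Fact p.Prime] (h : WC p W ⊤) (h1 : A ≤ cn W) (h2 : H98.cj g A ≤ cn W) :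
    ∃ n ∈ nr W, ∀ a ∈ A, n * a * n⁻¹ = g * a * g⁻¹ := by
  obtain ⟨c, hc, e⟩ := h.exists_cj_eq (K := cn (H98.cj g A)) (le_centralizer_iff.1 h2) le_top (mem_top g)
    (by rw [← cj_cn]; exact cj_mono g (le_centralizer_iff.1 h1))
  refine ⟨c⁻¹ * g, cj_eq_self_iff.1 (by rw [← cj_cj, e, cj_inv_cj]), fun a ha => ?_⟩
  have := mem_centralizer_iff.1 hc _ (conj_mem_cj (g := g) ha)
  calc c⁻¹ * g * a * (c⁻¹ * g)⁻¹ = c⁻¹ * (g * a * g⁻¹ * c) := by group
    _ = g * a * g⁻¹ := by rw [this]; group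

/-- Two elementary abelian 2-groups normalizing and not centralizing each other: one is an offender. -/
theorem ff_of_mutual (hV : IsElementaryAbelian 2 V) (hW : IsElementaryAbelian 2 W) (h1 : W ≤ nr V) (h2 : V ≤ nr W)
    (h : ¬ W ≤ cn V) : (⁅⁅V, W⁆, W⁆ = ⊥ ∧ ⁅⁅W, V⁆, V⁆ = ⊥) ∧ (ix W V ≤ ix V W ∨ ix V W ≤ ix W V) :=
  ⟨⟨bot_iff.2 ((commutator_le_right' h2).trans (H12.ea_le_centralizer hW)),
    bot_iff.2 ((commutator_le_right' h1).trans (H12.ea_le_centralizer hV))⟩, le_total _ _⟩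

theorem ffq_of_mutual (hV : IsElementaryAbelian 2 V) (h1 : cj g V ≤ nr V) (h2 : V ≤ nr (cj g V))
    (h : ¬ cj g V ≤ cn V) : FFq (nr V) V := by
  have hW : IsElementaryAbelian 2 (cj g V) := H12.ea_map hV _
  obtain ⟨⟨q1, q2⟩, e | e⟩ := ff_of_mutual hV hW h1 h2 h
  · exact ⟨_, h1, hW, h, q1, e⟩
  · refine ⟨cj g⁻¹ V, ?_, H12.ea_map hV _, fun c => h ?_, ?_, ?_⟩
    · rw [← cj_nr] at h2; exact le_cj_iff.1 h2
    · rw [le_centralizer_iff, ← cj_centralizer]; exact le_cj_iff.2 c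
    · have := congrArg (cj g⁻¹) q2
      rwa [cj_commutator, cj_commutator, cj_inv_cj, cj_bot] at this
    · rw [← ix_cj g⁻¹, ← ix_cj g⁻¹ (cj g V), cj_inv_cj] at e
      exact e

/-- Fundamental weak closure inequality, raw form: if `A ≤ V^g` of codimension `≤ i` acts on `V` with
`|A : C_A(V)| ≤ 2 ^ k` and `r > i + k`, then `V` normalizes `V^g`. -/
theorem fwci_raw (hr : RGt V (nr V) (i + k)) (hA : Cod V A g i) (e : ix V A ≤ 2 ^ k) : V ≤ nr (cj g V) := by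
  have hB : Cod V (cn V ⊓ A) g (i + k) := hA.sub inf_le_right (by rwa [inf_relIndex_right])
  exact (le_centralizer_iff.1 inf_le_left).trans (hr.cod_nr hB)

/-- E.3.29 when `w > 0`: `r ≤ i + m(A / C_A(V))` for every `A` of codimension `≤ i` not centralizing `V`. -/
theorem fwci (hw : WGt V 0) (hr : RGt V (nr V) (i + k)) (hA : Cod V A g i) (e : ix V A ≤ 2 ^ k) : A ≤ cn V := by
  have h1 := fwci_raw hr hA e
  have h2 := hw.cod (g := 1) (A := V) (by have := cod_self V 1 0; rwa [cj_one] at this) h1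
  exact hA.1.trans (le_centralizer_iff.1 h2)

/-- E.3.29 when `w = 0` and `V` is not an FF-module. -/
theorem fwci_zero (hV : IsElementaryAbelian 2 V) (hf : ¬ FFq (nr V) V) (hr : RGt V (nr V) k)
    (h1 : cj g V ≤ nr V) (e : ix V (cj g V) ≤ 2 ^ k) : cj g V ≤ cn V := by
  by_contra h
  exact hf (ffq_of_mutual hV h1 (fwci_raw (i := 0) (by rwa [zero_add]) (cod_self V g 0) e) h)

/-- `n(H) ≤ k` for a minimal parabolic `H` over `T` with maximal subgroup `H ∩ M`: every elementary abelian `A ≤ T`,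
`A ≰ O_2(H)`, has an orbit of length between `2` and `2 ^ k` on the cosets of `H ∩ M` in `H`. -/
def NLe (T M H : Subgroup G) (k : ℕ) : Prop :=
  ∀ A ≤ T, IsElementaryAbelian 2 A → ¬ A ≤ pCoreOf 2 H → ∃ x ∈ H, ¬ cj x A ≤ M ∧ M.relIndex (cj x A) ≤ 2 ^ k

theorem NLe.mono (h : NLe T M H i) (e : i ≤ j) : NLe T M H j := fun A h1 h2 h3 => by
  obtain ⟨x, hx, a, b⟩ := h A h1 h2 h3
  exact ⟨x, hx, a, b.trans (pw e)⟩

/-- The form with `T` in place of `M`. -/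
theorem NLe.exists_syl (h : NLe T M H k) (hT : IsSyl 2 T (H ⊓ M)) (hA : A ≤ T) (ea : IsElementaryAbelian 2 A)
    (hn : ¬ A ≤ pCoreOf 2 H) : ∃ x ∈ H, ¬ cj x A ≤ M ∧ T.relIndex (cj x A) ≤ 2 ^ k := by
  obtain ⟨x, hx, a, b⟩ := h A hA ea hn
  have hH : cj x A ≤ H := cj_le_of_le_of_mem (hA.trans (hT.le.trans inf_le_left)) hx
  obtain ⟨m, hm, e⟩ := hT.exists_cj_le (Q := M ⊓ cj x A) (isPGroup_cj x (H12.ea_isPGroup ea)).to_inf_right
    (le_inf (inf_le_right.trans hH) inf_le_left)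
  refine ⟨m * x, mul_mem hm.1 hx, fun c => a ?_, ?_⟩
  · rw [← cj_cj] at c
    exact (cj_le_iff.1 c).trans (cj_eq_self_of_mem (inv_mem hm.2)).le
  · rw [← cj_cj]
    refine le_trans (rl e _) ?_
    rwa [relIndex_cj, inf_relIndex_right]

/-- Key step of E.3.17-E.3.19: a 2-group centralizing `W_(i+k)(X, V)` centralizes every `V^g` that meets `X` in
codimension `≤ i + k < s`. -/
theorem SGt.cent (hs : SGt V (i + k)) (hA : Cod V A g i) (e : X.relIndex A ≤ 2 ^ k) (hY : IsPGroup 2 Y)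
    (hc : Y ≤ cn (Wj V X (i + k))) : A ≤ cn Y := by
  have hB : Cod V (X ⊓ A) g (i + k) := hA.sub inf_le_right (by rwa [inf_relIndex_right])
  exact hA.1.trans (le_centralizer_iff.1 (hs.cod hB hY (hc.trans (centralizer_anti (le_Wj hB inf_le_left)))))

/-- E.3.19 / E.3.35: if `n(H) ≤ k`, `s > i + k` and `C_H(Y) ≤ M` for a 2-group `Y` centralizing `W_(i+k)(T, V)`, then
`W_i(T, V) ≤ O_2(H)`. -/
theorem NLe.Wj_le (hn : NLe T M H k) (hT : IsSyl 2 T (H ⊓ M)) (hV : IsElementaryAbelian 2 V) (hs : SGt V (i + k))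
    (hY : IsPGroup 2 Y) (hc : Y ≤ cn (Wj V T (i + k))) (hM : H ⊓ cn Y ≤ M) : Wj V T i ≤ pCoreOf 2 H := by
  refine Wj_le_iff.2 fun A g hA hAT => ?_
  by_contra h
  obtain ⟨x, hx, h3, h4⟩ := hn.exists_syl hT hAT (hA.ea hV) h
  exact h3 ((le_inf (cj_le_of_le_of_mem (hAT.trans (hT.le.trans inf_le_left)) hx)
    (hs.cent (hA.cj x) h4 hY hc)).trans hM)

theorem le_nr_Wj_of (hT : IsSyl 2 T H) (h : Wj V T i ≤ pCoreOf 2 H) : H ≤ nr (Wj V T i) := by
  rw [← Wj_eq_of_le h hT.pCoreOf_le]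
  exact le_nr_Wj (self_le_normalizer_pCoreOf H)

/-- `i + n(H) ≥ min (w, s)` unless `H` normalizes `W_i(T, V)` (take `Y = V`). -/
theorem NLe.le_nr (hn : NLe T M H k) (hT : IsSyl 2 T H) (hTM : T ≤ M) (hV : IsElementaryAbelian 2 V)
    (nV : T ≤ nr V) (hs : SGt V (i + k)) (hw : WGt V (i + k)) (hM : H ⊓ cn V ≤ M) : H ≤ nr (Wj V T i) :=
  le_nr_Wj_of hT (hn.Wj_le (hT.of_le (le_inf hT.le hTM) inf_le_left) hV hs (H12.ea_isPGroup hV)
    (le_centralizer_iff.1 (hw.Wj_le nV)) hM)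

/-- E.3.39 in raw form, with `r` in place of `s`: if `n(H) ≤ k`, `r > i + k` (relative to `N_G(V)`), `w > i + k` and
`w > 0`-type symmetry applies, then again `W_i(T, V) ≤ O_2(H)`. -/
theorem NLe.Wj_le' (hn : NLe T M H k) (hT : IsSyl 2 T (H ⊓ M)) (hV : IsElementaryAbelian 2 V) (nV : T ≤ nr V)
    (hr : RGt V (nr V) (i + k)) (hw : WGt V (i + k)) (hM : H ⊓ cn V ≤ M) : Wj V T i ≤ pCoreOf 2 H := by
  refine Wj_le_iff.2 fun A g hA hAT => ?_
  by_contra h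
  obtain ⟨x, hx, h3, h4⟩ := hn.exists_syl hT hAT (hA.ea hV) h
  have hB : Cod V (T ⊓ cj x A) (x * g) (i + k) := (hA.cj x).sub inf_le_right (by rwa [inf_relIndex_right])
  have h1 : V ≤ nr (cj (x * g) V) :=
    (le_centralizer_iff.1 (hw _ _ hB (inf_le_left.trans nV))).trans (hr.cod_nr hB)
  have h2 := hw.cod (g := 1) (A := V) (by have := cod_self V 1 (i + k); rwa [cj_one] at this) h1
  exact h3 ((le_inf (cj_le_of_le_of_mem (hAT.trans (hT.le.trans inf_le_left)) hx)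
    ((hA.cj x).1.trans (le_centralizer_iff.1 h2))).trans hM)

end H96.QF
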