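import Cfsg.Agent.H96.QUTool
import Cfsg.Agent.H97.QULib2
import Cfsg.Agent.H97.QUDih
import Cfsg.Agent.H14.PTerm1
import Cfsg.Agent.H14.Bender
import Cfsg.Agent.H14.Local2

/-! Tower QU: components of the members of `Γ` over a beta-subgroup; a component that is not TI exists. -/

set_option autoImplicit false
set_option linter.style.haveILetI false

namespace H96.H97.QU

open Subgroup Cfsg _root_.H98 _root_.H96 _root_.H96.CG H98.H96.CG _root_.H97.QU
open H52 (Vv Cv zc)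
open H14 (opp fitOf fstarOf layerOf CP)
open scoped commutatorElement

universe u

variable {G : Type u} [Group G] [Finite G] {M S T H K L P V X U D : Subgroup G} {s : ℕ} {z h x : G}

theorem solv_of_odd (h : ¬ 2 ∣ Nat.card K) : Group.IsSolvable K :=
  Cfsg.Agent.S0205.result (Nat.odd_iff.2 (Nat.two_dvd_ne_zero.1 h))

theorem quasi_even (hK : IsQuasisimple K) : 2 ∣ Nat.card K := by
  by_contra e
  exact H14.quasi_not_solvable hK (solv_of_odd e)

theorem quasi_nz (hK : IsQuasisimple K) (hP : IsSyl 2 P K) : ¬ P ≤ cen K := fun e =>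
  H14.quasi_isSyl_commutator_ne_bot hK (quasi_even hK) hP (commutator_eq_bot_iff_le_centralizer.2 e)

theorem inverts (h2 : z * z = 1) (hz : z ∈ nor K) (h : K ⊓ cen1 z = ⊥) : ∀ x ∈ K, z * x * z⁻¹ = x⁻¹ := fun x hx => by
  have := MonoidHom.FixedPointFree.coe_eq_inv_of_involutive (φ := K.normalizerMonoidHom ⟨z, hz⟩)
    (fun g e => Subtype.ext (mem_bot.1 (h.le ⟨g.2, mem_centralizer_singleton_iff.2
      (mul_inv_eq_iff_eq_mul.1 (congrArg Subtype.val e)).symm⟩)))
    fun g => by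
      rw [← MulAut.mul_apply, ← map_mul, show (⟨z, hz⟩ * ⟨z, hz⟩ : nor K) = 1 from
        Subtype.ext h2, map_one, MulAut.one_apply]
  exact congrArg Subtype.val (congrFun this ⟨x, hx⟩)

omit [Finite G] in
theorem cp_of (h : IsComponentOf K H) : CP K H := H14.cp_iff.2 h

omit [Finite G] in
theorem comp_of (h : CP K H) : IsComponentOf K H := H14.cp_iff.1 h

/-- a perfect group whose Sylow subgroup is cyclic modulo the centre is trivial -/
theorem perf_eq_bot (hK : ⁅K, K⁆ = K) (hP : IsSyl 2 P K) (ht : x ∈ K) (h : P ≤ cen K ⊔ zpowers x) : K = ⊥ := by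
  haveI : Group.IsPerfect K := isPerfect_iff.2 hK
  let π := QuotientGroup.mk' (center K)
  have h1 : IsSyl 2 ((P.subgroupOf K).map π) ⊤ := by
    have := hP.subgroupOf_top.map π
    rwa [map_top_of_surjective _ (QuotientGroup.mk'_surjective _)] at this
  have h2 : (P.subgroupOf K).map π ≤ zpowers (π ⟨x, ht⟩) := by
    rintro _ ⟨a, ha, rfl⟩
    obtain ⟨c, hc, _, ⟨k, rfl⟩, e⟩ := (mem_sup_right_norm (zpowers_le.mpr
      (normalizer_le_normalizer_centralizer K (le_normalizer ht)))).mp (h ha)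
    refine ⟨k, ?_⟩
    have hcK : c ∈ K := by
      rw [eq_mul_inv_of_mul_eq e.symm]
      exact mul_mem a.2 (inv_mem (zpow_mem ht k))
    have e' : a = ⟨c, hcK⟩ * ⟨x, ht⟩ ^ k := Subtype.ext e
    have h3 : π ⟨c, hcK⟩ = 1 := (QuotientGroup.eq_one_iff _).mpr
      (mem_center_iff.mpr fun g => Subtype.ext (mem_centralizer_iff.mp hc g g.2))
    rw [e', map_mul, h3, one_mul, map_zpow]
  have h3 := H14.sylow_two_eq_bot_of_cyclic h1.toSylowTop (Subgroup.isCyclic_of_le h2)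
  rw [IsSyl.coe_toSylowTop, Subgroup.map_eq_bot_iff, QuotientGroup.ker_mk',
    H14.subgroupOf_le_center_iff, inf_eq_left.mpr hP.le] at h3
  exact H14.eq_bot_of_perfect_of_le_solvable hK le_rfl
    (solv_of_odd (hP.eq_bot_iff.1 (H14.isSyl_eq_bot_of_perfect hK hP h3)))

/-- a member of `Γ` over a beta-subgroup together with a 2-central involution -/
structure Cx (M : Subgroup G) (s : ℕ) (S T H : Subgroup G) (z : G) : Prop where
  kit : Kit M s
  beta : Beta M s S
  le : S ≤ H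
  gam : Gam M H
  zt : Zt M S T z

namespace Cx

variable (c : Cx M s S T H z)
include c

theorem syl : IsSyl 2 S H := c.kit.gam_syl H S c.gam c.beta.good c.beta.card.ge c.le

theorem two : IsPGroup 2 S := c.beta.good.two

theorem zS : z ∈ S := c.kit.good_z S T c.beta.good c.zt.syl c.zt.ST c.zt.TM c.zt.zT

theorem zc : z ∈ cen S := centralizer_anti c.zt.ST c.zt.zT.2

theorem S_le : S ≤ cen1 z := fun y hy => mem_cen1.2 (mem_cen.1 c.zc y hy)

theorem ch : CharP 2 (H ⊓ cen1 z) :=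
  c.kit.gam_ch H S _ (cen1 z) c.gam c.beta.good c.beta.card.ge (le_inf c.le c.S_le) inf_le_left inf_le_right
    (c.kit.tc1 z (Zt.tc c.zt))

theorem opp_inf : opp 2 H ⊓ cen1 z = ⊥ :=
  eq_bot_iff.2 ((le_inf inf_le_left (inf_le_inf_right _ (H14.opp_le H))).trans
    ((H14.opp_inf_le_of_le inf_le_left).trans (H14.charP_iff_layer_opp.1 c.ch).2.le))

theorem inv : ∀ x ∈ opp 2 H, z * x * z⁻¹ = x⁻¹ :=
  inverts c.zt.z2 (H14.self_le_normalizer_opp H (c.le c.zS)) c.opp_inf

theorem cm_opp (hh : h ∈ H) : ⁅z, h⁆ ∈ cen (opp 2 H) := by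
  refine mem_cen.2 fun y hy => ?_
  have e1 := c.inv _ (conj_mem_of_mem_normalizer' (H14.self_le_normalizer_opp H hh) hy)
  have e2 := c.inv _ (inv_mem hy)
  have e3 : z⁻¹ = z := inv_of_sq c.zt.z2
  rw [e3] at e1 e2
  have : ⁅z, h⁆ * y * ⁅z, h⁆⁻¹ = y := by
    rw [commutatorElement_inv, commutatorElement_def, commutatorElement_def, e3]
    calc z * h * z * h⁻¹ * y * (h * z * h⁻¹ * z) = z * (h * (z * (h⁻¹ * y * h) * z) * h⁻¹) * z := by group
      _ = y := by rw [e1, show h * (h⁻¹ * y * h)⁻¹ * h⁻¹ = y⁻¹ by group, e2, inv_inv]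
  exact (mul_inv_eq_iff_eq_mul.1 this).symm

theorem cm_opp' (hL : L ≤ H) : ⁅zpowers z, L⁆ ≤ cen (opp 2 H) := by
  refine commutator_le.2 fun w hw l hl => ?_
  rcases (mem_zpowers_inv c.zt.z2).1 hw with rfl | rfl
  · simp
  · exact c.cm_opp (hL hl)

theorem core_le : pCoreOf 2 H ≤ S := c.syl.pCoreOf_le

theorem sylK (k : CP K H) : IsSyl 2 (S ⊓ K) K := c.syl.inf_subN k.subN

theorem z_nor (k : CP K H) : z ∈ nor K := by
  obtain ⟨a, ha, h1⟩ := SetLike.not_le_iff_exists.1 (quasi_nz k.quasi (c.sylK k))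
  refine IsComponentOf.mem_nor (comp_of k) (c.le c.zS) h1 ?_
  rw [← (mem_cen.1 c.zc a ha.1).eq, mul_inv_cancel_right]
  exact ha.2

theorem not_cen (k : CP K H) : ¬ K ≤ cen1 z := fun e =>
  no_comp c.ch k.quasi (k.subN.of_le (le_inf k.le e) inf_le_left)

/-- an abelian 2-group containing `z` fixes at most one Sylow subgroup of a TI component -/
theorem uniq (k : CP K H) (ti : TI K) (hV : IsPGroup 2 V) (VH : V ≤ H) (Vc : V ≤ cen V) (zV : z ∈ V)
    (Vn : V ≤ nor K) {P P' : Subgroup G} (hP : IsSyl 2 P K) (hP' : IsSyl 2 P' K) (n : V ≤ nor P)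
    (n' : V ≤ nor P') : P = P' := by
  let Y := K ⊓ stab V (H52.zc K)
  have nZ : K ≤ nor (H52.zc K) := le_normalizer_inf le_normalizer (le_normalizer_centralizer le_normalizer)
  have fx : ∀ {P : Subgroup G}, IsSyl 2 P K → V ≤ nor P → ¬ P ⊓ Y ≤ cen K := fun {P} hP n => by
    obtain ⟨u, hu, h1, h2⟩ := H14.exists_commutator_mem hP.isPGroup hV n (quasi_nz k.quasi hP)
    refine fun e => h1 (e ⟨hu, hP.le hu, nZ (hP.le hu), fun v hv => ?_⟩)
    rw [← commutatorElement_inv]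
    exact inv_mem (mem_inf.2 ⟨hP.le (h2 v hv).1, (h2 v hv).2⟩)
  have VY : ⁅V, Y⁆ ≤ H52.zc K := (le_stab_iff.1 (inf_le_right : Y ≤ _)).2
  have V1 : cen V ≤ cen1 z := fun y hy => mem_cen1.2 (mem_cen.1 hy z zV).symm
  have cC : CharP 2 (K ⊓ cen V) := by
    have := (c.ch.inf_centralizer hV (le_normalizer_of_le (le_inf VH (Vc.trans V1)))).subN
      ((k.subN.inf_right (H ⊓ cen1 z ⊓ cen V)).of_le (inf_le_right) (le_inf (inf_le_left.trans inf_le_left) le_rfl))
    rwa [show K ⊓ (H ⊓ cen1 z ⊓ cen V) = K ⊓ cen V from le_antisymm (inf_le_inf_left _ inf_le_right)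
      (le_inf inf_le_left (le_inf (le_inf (inf_le_left.trans k.le) (inf_le_right.trans V1)) inf_le_right))] at this
  have zY : ⁅H52.zc K, Y⁆ = ⊥ :=
    commutator_eq_bot_iff_le_centralizer.2 (inf_le_right.trans (centralizer_anti inf_le_left))
  have YY : ⁅Y, Y⁆ ≤ K ⊓ cen V := le_inf (commutator_le_of_le inf_le_left inf_le_left)
    (commutator_eq_bot_iff_le_centralizer.1 (eq_bot_iff.2 (three_subgroups (le_normalizer_bot _)
      (le_normalizer_bot _) (le_normalizer_bot _)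
      ((commutator_mono ((commutator_comm _ _).le.trans VY) le_rfl).trans zY.le)
      ((commutator_mono VY le_rfl).trans zY.le))))
  have CY : K ⊓ cen V ≤ Y := le_inf inf_le_left (le_stab_iff.2 ⟨inf_le_left.trans nZ,
    (commutator_eq_bot_iff_le_centralizer.2 (cen_symm inf_le_right)).le.trans bot_le⟩)
  have nC : Y ≤ nor (K ⊓ cen V) := le_normalizer_of_commutator_le YY CY
  have key : ¬ pCoreOf 2 Y ≤ cen K := fun e => by
    have h1 := pCoreOf_le_pCoreOf_of_normal (p := 2) CY nC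
    have h2 : ⁅Y, Y⁆ ≤ pCoreOf 2 Y := YY.trans ((cC.le_pCoreOf le_rfl
      (inf_le_left.trans (cen_symm (h1.trans e)))).trans h1)
    have h3 : P ⊓ Y ⊔ pCoreOf 2 Y ≤ Y := sup_le inf_le_right (pCoreOf_le Y)
    exact fx hP n ((le_sup_left.trans (le_pCoreOf (H14.isPGroup_sup_of_le_normalizer hP.isPGroup.to_inf_left
      (isPGroup_pCoreOf Y) (le_normalizer_pCoreOf_of_le inf_le_right)) h3
      (le_normalizer_of_commutator_le (h2.trans le_sup_right) h3))).trans e)
  have ov : ∀ {P : Subgroup G}, IsSyl 2 P K → V ≤ nor P → pCoreOf 2 Y ≤ P := fun {P} hP n => by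
    obtain ⟨Q, hQ, e⟩ := exists_isSyl_le (H := K) (H14.isPGroup_sup_of_le_normalizer
      (hP.isPGroup.to_inf_left (K := Y)) (isPGroup_pCoreOf Y) (le_normalizer_pCoreOf_of_le inf_le_right))
      (sup_le (inf_le_left.trans hP.le) ((pCoreOf_le Y).trans inf_le_left))
    rw [ti P Q hP hQ fun f => fx hP n ((le_inf inf_le_left (le_sup_left.trans e)).trans f)]
    exact le_sup_right.trans e
  exact ti P P' hP hP' fun f => key ((le_inf (ov hP n) (ov hP' n')).trans f)

/-- the normal closure of `z` in a witness -/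
theorem ncl_le (w : Wit M U X) (hU : U ≤ S) : ncl X (zpowers z) ≤ H52.zc (pCoreOf 2 X) := by
  have zU : z ∈ U := c.kit.good_z U T w.good c.zt.syl (hU.trans c.zt.ST) c.zt.TM c.zt.zT
  have h1 : z ∈ cen (pCoreOf 2 X) := centralizer_anti (w.syl.pCoreOf_le.trans hU) c.zc
  exact _root_.H98.ncl_le (zpowers_le.2 ⟨w.ch ⟨w.syl.le zU, h1⟩, h1⟩) (le_normalizer_inf
    (self_le_normalizer_pCoreOf X) (le_normalizer_centralizer (self_le_normalizer_pCoreOf X)))

theorem layer_ne (w : Wit M U X) (hU : U ≤ S) (hX : X ≤ H) : layerOf H ≠ ⊥ := fun e => by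
  have VS : ncl X (zpowers z) ≤ S := (c.ncl_le w hU).trans (inf_le_left.trans (w.syl.pCoreOf_le.trans hU))
  have nO := self_le_normalizer_pCoreOf (p := 2) H
  have nZ : H ≤ nor (H52.zc (pCoreOf 2 H)) := le_normalizer_inf nO (le_normalizer_centralizer nO)
  have zO : zpowers z ≤ cen (pCoreOf 2 H) := zpowers_le.2 (centralizer_anti c.core_le c.zc)
  have h1 : ⁅zpowers z, X⁆ ≤ S := (le_sup_left.trans (ncl_eq_commutator_sup _ _).ge).trans VS
  have h2 : ⁅zpowers z, X⁆ ≤ cen (pCoreOf 2 H) :=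
    (commutator_mono zO le_rfl).trans (commutator_le_left' (hX.trans (le_normalizer_centralizer nO)))
  have h3 : ⁅zpowers z, X⁆ ≤ H52.zc (pCoreOf 2 H) := le_inf (H14.le_pCoreOf_of_le_fitOf (c.two.to_le h1)
    (H14.le_fitOf_of_commutator (h1.trans c.le) (by rw [e, commutator_bot_right])
      (commutator_eq_bot_iff_le_centralizer.2 ((le_inf h2 (c.cm_opp' hX)).trans ((centralizer_sup _ _).ge.trans
        (centralizer_anti (H14.fitOf_le_pCoreOf_sup_opp 2 H))))))) h2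
  have DS : H52.zc (pCoreOf 2 H) ⊔ zpowers z ≤ S :=
    sup_le (inf_le_left.trans c.core_le) (zpowers_le.2 c.zS)
  refine w.nM (le_trans ?_ (c.beta.ov _ (le_normalizer_sup (c.le.trans nZ)
    (le_normalizer_of_le_centralizer (cen_symm (zpowers_le.2 c.zc))))
    (c.kit.tcD z _ (Zt.tc c.zt) (c.two.to_le DS) (mem_sup_right (mem_zpowers z)))))
  intro y hy
  refine mem_normalizer_of_cj_le ?_
  rw [cj_sup, cj_eq_self (nZ (hX hy))]
  exact sup_le le_sup_left ((cj_le_ncl hy).trans ((ncl_eq_commutator_sup _ _).le.trans (sup_le_sup_right h3 _)))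

end Cx

theorem exists_wit (k : Kit M s) (b : Good M S) (hs : s ≤ Nat.card S) (hS : S ≤ H) (g : Gam M H) :
    ∃ U X, Wit M U X ∧ U ≤ S ∧ X ≤ H := by
  obtain ⟨U, X, w, hX⟩ := g.wit
  obtain ⟨m, hm, e⟩ := ((k.gam_syl H S g b hs hS).of_le (le_inf hS b.le) inf_le_left).exists_cj_le w.good.two
    (le_inf (w.syl.le.trans hX) w.good.le)
  exact ⟨_, _, k.wit_cj U X m w hm.2, e, cj_le_of_le_of_mem hX hm.1⟩

theorem jobC0 : JC0.{u} := by
  intro G _ _ M S H₀ s k b hS g
  obtain ⟨H, ⟨hS, g⟩, mn⟩ := exists_minimal_of_wellFoundedLT (fun H : Subgroup G => S ≤ H ∧ Gam M H) ⟨H₀, hS, g⟩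
  obtain ⟨U, X, w, hU, hX⟩ := exists_wit k b.good b.card.ge hS g
  obtain ⟨T, z, zt⟩ := Kit.exists_zt k b.good
  have c : Cx M s S T H z := ⟨k, b, hS, g, zt⟩
  by_contra hn
  have ti : ∀ K, CP K H → TI K := fun K hK => by
    by_contra e
    exact hn ⟨H, K, b, hS, g, comp_of hK, e⟩
  have V1 := c.ncl_le w hU
  have VS : ncl X (zpowers z) ≤ S := V1.trans (inf_le_left.trans (w.syl.pCoreOf_le.trans hU))
  have Vn : ∀ K, CP K H → ncl X (zpowers z) ≤ nor K := fun K hK => ncl_le_iff.2 fun y hy => by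
    rw [cj_le_iff, cj_nor]
    exact zpowers_le.2 (c.z_nor (hK.cj_of_mem_normalizer (le_normalizer (inv_mem (hX hy)))))
  let W : Subgroup G := sSup {Q | ∃ K, CP K H ∧ Q = S ⊓ K}
  have nW : ∀ y : G, (∀ K, CP K H → CP (cj y K) H ∧ cj y (S ⊓ K) = S ⊓ cj y K) → y ∈ nor W := fun y hy =>
    mem_normalizer_of_cj_le (cj_le_iff.2 (sSup_le (by
      rintro _ ⟨K, hK, rfl⟩
      exact cj_le_iff.1 (le_sSup ⟨_, (hy K hK).1, (hy K hK).2⟩))))
  have XW : X ≤ nor W := fun y hy => nW y fun K hK => by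
    have hK' := hK.cj_of_mem_normalizer (le_normalizer (hX hy))
    have nS : ∀ K, CP K H → ncl X (zpowers z) ≤ nor (S ⊓ K) := fun K hK =>
      le_normalizer_inf (le_normalizer_of_le VS) (Vn K hK)
    refine ⟨hK', c.uniq hK' (ti _ hK') (c.two.to_le VS) (VS.trans hS)
      (V1.trans (inf_le_right.trans (centralizer_anti (V1.trans inf_le_left)))) (le_ncl _ _ (mem_zpowers z))
      (Vn _ hK') ((c.sylK hK).cj y) (c.sylK hK') ?_ (nS _ hK')⟩
    rw [← cj_nor, ← cj_eq_self (le_normalizer_ncl X (zpowers z) hy)]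
    exact cj_mono y (nS K hK)
  have SW : S ≤ nor W := fun y hy => nW y fun K hK =>
    ⟨hK.cj_of_mem_normalizer (le_normalizer (hS hy)), by rw [cj_inf, cj_eq_self_of_mem hy]⟩
  have WS : W ≤ S := sSup_le (by rintro _ ⟨K, -, rfl⟩; exact inf_le_left)
  have HW : H ≤ H ⊓ nor W := mn ⟨le_inf hS SW, fun e => g.o2 (eq_bot_iff.2 ((pCoreOf_le_pCoreOf inf_le_left
    (c.core_le.trans (le_inf hS SW))).trans e.le)), U, X, w, le_inf hX XW⟩ inf_le_left
  refine c.layer_ne w hU hX (eq_bot_iff.2 (H14.layerOf_le fun K hK => (quasi_nz hK.quasi (c.sylK hK) ?_).elim))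
  exact (le_sSup ⟨K, hK, rfl⟩ : S ⊓ K ≤ W).trans ((le_pCoreOf (c.two.to_le WS) (WS.trans hS)
    (HW.trans inf_le_right)).trans (IsComponentOf.core_le_cen (comp_of hK)))

end H96.H97.QU
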