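import Cfsg.Agent.H97.QULib

/-! Tower QU, job JA1: the blocks over a witness of order `s`. -/

set_option autoImplicit false

namespace H96.H97.QU

open Subgroup Cfsg _root_.H98 _root_.H96 _root_.H96.CG H98.H96.CG _root_.H97.QU
open H52 (Vv Cv zc)
open scoped commutatorElement

universe u

variable {G : Type u} [Group G] {q s : ℕ} {B R A A' M S T P X a a' : Subgroup G} {g u x : G}

theorem mem_sup_zp (hg : g ∈ nor S) (h2 : g * g ∈ S) (hx : x ∈ S ⊔ zpowers g) : x ∈ S ∨ x * g⁻¹ ∈ S := by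
  obtain ⟨u, hu, y, ⟨n, rfl⟩, rfl⟩ := (mem_sup_right_norm (zpowers_le.2 hg)).1 hx
  have e : ∀ k : ℤ, g ^ (2 * k) ∈ S := fun k => by
    rw [zpow_mul, zpow_two]; exact zpow_mem h2 k
  obtain ⟨k, rfl | rfl⟩ := Int.even_or_odd' n
  · exact .inl (mul_mem hu (e k))
  · exact .inr (by simpa only [zpow_add_one, mul_assoc, mul_inv_cancel, mul_one] using mul_mem hu (e k))

variable [Finite G]

theorem exists_step (hP : IsPGroup 2 P) (h : S < P) : ∃ g ∈ P, g ∉ S ∧ g ∈ nor S ∧ g * g ∈ S := by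
  classical
  obtain ⟨x, hx, hx'⟩ := SetLike.exists_of_lt (lt_inf_normalizer hP h)
  have ex : ∃ k : ℕ, x ^ 2 ^ k ∈ S := (isPGroup_iff_forall.1 hP x hx.1).imp fun k e => by
    rw [e]; exact one_mem S
  obtain ⟨k, e⟩ : ∃ k, Nat.find ex = k + 1 := Nat.exists_eq_succ_of_ne_zero fun e =>
    hx' (by simpa [e] using Nat.find_spec ex)
  refine ⟨x ^ 2 ^ k, pow_mem hx.1 _, Nat.find_min ex (by omega), pow_mem hx.2 _, ?_⟩
  rw [← pow_add, ← two_mul, ← pow_succ', ← e]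
  exact Nat.find_spec ex

theorem card_lt_of_lt (h : S < P) : Nat.card S < Nat.card P :=
  lt_of_le_of_ne (card_le_of_le h.le) fun e => h.ne (eq_of_le_of_card_ge h.le e.ge)

/-- no element of the overgroup normalising `B` moves `A` to the opposite side -/
theorem ns_of (c : CX 2 X S M) (k : Bk q (bm 2 S) R A A') (hR : R ≤ X) (hM : ¬ R ≤ M) (hu : u ∈ X)
    (hu' : u ∈ nor (bm 2 S)) : cj u A ≠ A' := fun e => k.V_not_le (by
  have h1 : pCoreOf 2 R ≤ zV 2 X := k.V_bU.le.trans (c.U_le_V hR (c.block hR k.blk hM))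
  have h2 : cj u (pCoreOf 2 R) ≤ bm 2 S ⊓ cen (pCoreOf 2 R) :=
    le_inf (cj_le_of_le (k.V_le.trans k.tri.AB) hu') ((cj_le_of_le h1 (c.pred.norm hu)).trans
      ((H12.ea_le_centralizer c.pred.ea).trans (centralizer_anti h1)))
  have h3 : cj u (pCoreOf 2 R) ≤ zc (bm 2 S) := (le_inf (e ▸ cj_mono u k.V_le)
    ((k.cenV ▸ h2).trans inf_le_right)).trans k.tri.symm.inf_cen.le
  rwa [← cj_eq_self (H52.n_zc le_rfl hu'), cj_le_cj_iff] at h3)

/-- the `W`-argument -/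
theorem warg (k : Bk q B R A A') (hP : P ≤ nor B)
    (h : ∀ D ≤ B, R ≤ nor D → P ≤ nor D → D = ⊥) : ∃ g ∈ P, cj g A = A' := by
  by_contra! n
  have h1 : ∀ g ∈ P, cj g A ≤ cen A := fun g hg => by
    rcases k.tri.op.cmp (k.tri.op.cj_of_mem (hP hg)) with e | e | e
    · exact e.1.le.trans (H12.ea_le_centralizer k.tri.eA)
    · exact (n g hg e.1).elim
    · exact e.1
  have h2 : ncl P A ≤ B := ncl_le k.tri.AB hP
  have h3 := k.V_le.trans (le_ncl P A)
  exact k.V_ne (eq_bot_iff.2 (h3.trans (h _ h2 (k.le_nor h3 (h2.trans k.nR)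
    ((ncl_le_iff.2 h1).trans (centralizer_anti k.V_le))) (le_normalizer_ncl P A)).le))

/-- transitivity on the classes -/
theorem trans_of (k : Bk q B R A A') (hP : P ≤ nor B)
    (h : ∀ D ≤ B, R ≤ cen D → P ≤ nor D → D = ⊥) (o : Op B a a') : ∃ g ∈ P, cj g A = a ∨ cj g A = a' := by
  by_contra! n
  let I := {p : Subgroup G × Subgroup G // Op B p.1 p.2 ∧ ∀ g ∈ P, cj g A ≠ p.1 ∧ cj g A ≠ p.2}
  have h1 : (⨆ p : I, ⁅p.1.1, p.1.2⁆) ≤ B ⊓ cen R := iSup_le fun p => by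
    have := p.2.2 1 (one_mem _)
    rw [cj_one] at this
    rcases k.tri.op.cmp p.2.1 with e | e | e
    · exact (this.1 e.1.symm).elim
    · exact (this.2 e.2.symm).elim
    · exact (p.2.1.comm_le e).trans k.tri.Ph_le
  have h2 : P ≤ nor (⨆ p : I, ⁅p.1.1, p.1.2⁆) := fun g hg => mem_normalizer_of_cj_le
    (cj_le_iff.2 (iSup_le fun p => cj_le_iff.1 (by
      have e : ∀ {b}, (∀ g ∈ P, cj g A ≠ b) → ∀ y ∈ P, cj y A ≠ cj g b := fun f y hy e =>
        f (g⁻¹ * y) (mul_mem (inv_mem hg) hy) (by rw [← cj_cj, e, cj_inv_cj])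
      rw [cj_commutator]
      exact le_iSup (fun p : I => ⁅p.1.1, p.1.2⁆) ⟨(cj g p.1.1, cj g p.1.2), p.2.1.cj_of_mem (hP hg),
        fun y hy => ⟨e (fun g hg => (p.2.2 g hg).1) y hy, e (fun g hg => (p.2.2 g hg).2) y hy⟩⟩)))
  exact o.comm_ne (eq_bot_iff.2 ((le_iSup (fun p : I => ⁅p.1.1, p.1.2⁆) ⟨(a, a'), o, n⟩).trans
    (h _ (h1.trans inf_le_left) (cen_symm (h1.trans inf_le_right)) h2).le))

namespace Kit

variable (kit : Kit M s)
include kit

theorem lt_syl (c : Nat.card S = s) (hT : IsSyl 2 T ⊤) (h : S ≤ T) : S < T :=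
  lt_of_le_of_ne h fun e => (kit.lt T hT).ne (by rw [← e, c])

/-- one step up from a good subgroup of order `s` -/
theorem step (hS : Good M S) (c : Nat.card S = s) : ∃ g ∈ M, g ∉ S ∧ g ∈ nor S ∧ g * g ∈ S ∧
    IsPGroup 2 ↥(S ⊔ zpowers g) := by
  obtain ⟨T, hT, h1, h2⟩ := kit.up S hS.two hS.le
  obtain ⟨g, hg, e1, e2, e3⟩ := exists_step hT.isPGroup (lt_syl kit c hT h1)
  exact ⟨g, h2 hg, e1, e2, e3, hT.isPGroup.to_le (sup_le h1 (zpowers_le.2 hg))⟩

/-- `C(Ω₁Z(S)) ≤ M` -/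
theorem cen_oz (hS : Good M S) : cen (oz 2 S) ≤ M := by
  obtain ⟨T, hT, h1, h2⟩ := kit.up S hS.two hS.le
  have h3 : T ≠ ⊥ := fun e => kit.o2 (eq_bot_iff.2 ((hT.of_le h2 le_top).pCoreOf_le.trans e.le))
  obtain ⟨z, hz, z1⟩ := (bot_or_exists_ne_one _).resolve_left (oz_ne_bot hT.isPGroup h3)
  obtain ⟨e1, e2, e3⟩ := mem_oz.1 hz
  have h4 : z ∈ oz 2 S := mem_oz.2 ⟨kit.good_z S T hS hT h1 h2 ⟨e1, e2⟩, centralizer_anti h1 e2, e3⟩
  exact fun x hx => kit.cz T z hT h2 ⟨e1, e2⟩ z1 (mem_cen1.2 (com hx h4).symm)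

/-- a nontrivial 2-group normalised by `S`, a bigger 2-group of `M`, has normaliser in `M` inside `X` -/
theorem inf_nor_le (w : Wit M S X) (c : Nat.card S = s) (hP : IsPGroup 2 P) (h1 : S < P) (h2 : P ≤ M)
    {D : Subgroup G} (hD : IsPGroup 2 D) (h3 : D ≠ ⊥) (h4 : P ≤ nor D) : X ⊓ nor D ≤ M := by
  by_contra n
  have e := le_inf w.syl.le (h1.le.trans h4)
  exact h3 (kit.no_norm S _ P D ⟨w.good, w.syl.of_le e inf_le_left, w.ch.of_isSyl_le w.syl e inf_le_left, n⟩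
    hP h2 (c ▸ card_lt_of_lt h1) hD inf_le_right h4)

theorem cx (w : Wit M S X) (c : Nat.card S = s) : CX 2 X S M := by
  refine ⟨w.ch, w.syl, inf_le_right.trans (cen_oz kit w.good), fun C h1 h2 h3 => ?_⟩
  obtain ⟨g, hg, e1, e2, -, e4⟩ := step kit w.good c
  exact inf_nor_le kit w c e4 (left_lt_sup.2 fun e => e1 (zpowers_le.1 e)) (sup_le w.good.le (zpowers_le.2 hg))
    (w.good.two.to_le (h1.trans (bm_le S))) h2
    ((le_normalizer_bm (sup_le le_normalizer (zpowers_le.2 e2))).trans (nor_le_of_char h1 h3))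

theorem nobot (w : Wit M S X) (c : Nat.card S = s) (h : R ≤ X) (hR : ¬ R ≤ M) (hP : IsPGroup 2 P) (h1 : S < P)
    (h2 : P ≤ M) {D : Subgroup G} (hD : IsPGroup 2 D) (h3 : R ≤ nor D) (h4 : P ≤ nor D) : D = ⊥ :=
  by_contra fun n => hR ((le_inf h h3).trans (inf_nor_le kit w c hP h1 h2 hD n h4))

end Kit

theorem jobA1 : JA1.{u} := fun G _ _ M S X s kit w c => by
  have x := Kit.cx kit w c
  obtain ⟨q, L, Y, hL, hR, y⟩ := x.exists_yd w.nM
  have k : Bk q (bm 2 S) (res 2 L) (Vv 2 L) (Y ⊔ zc (bm 2 S)) := ⟨L, Y, y, rfl, rfl, rfl⟩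
  have ch : CharP 2 (res 2 L ⊔ bm 2 S) := by rw [sup_comm, y.syl.sup_res]; exact y.vtx.chr
  have RX : res 2 L ≤ X := (res_le L).trans hL
  generalize res 2 L = R, Vv 2 L = A, Y ⊔ zc (bm 2 S) = A' at *
  have SB : S ≤ nor (bm 2 S) := le_normalizer_bm le_normalizer
  have ns : ∀ u ∈ S, cj u A ≠ A' := fun u hu => ns_of x k RX hR (w.syl.le hu) (SB hu)
  have nb : ∀ {P : Subgroup G}, IsPGroup 2 P → S < P → P ≤ M → ∀ D ≤ bm 2 S, R ≤ nor D → P ≤ nor D → D = ⊥ :=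
    fun hP h1 h2 D hD h3 h4 => Kit.nobot kit w c RX hR hP h1 h2 (k.tri.two.to_le hD) h3 h4
  obtain ⟨g, hg, e1, e2, e3, e4⟩ := Kit.step kit w.good c
  have l1 : S < S ⊔ zpowers g := left_lt_sup.2 fun e => e1 (zpowers_le.1 e)
  have l2 : S ⊔ zpowers g ≤ M := sup_le w.good.le (zpowers_le.2 hg)
  have l3 : S ⊔ zpowers g ≤ nor S := sup_le le_normalizer (zpowers_le.2 e2)
  obtain ⟨t, ht, sw⟩ := warg k (le_normalizer_bm l3) (nb e4 l1 l2)
  have tS : t ∉ S := fun h => ns t h sw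
  have two : ∀ {a b}, a ∈ S ⊔ zpowers g → b ∈ S ⊔ zpowers g → a ∉ S → b ∉ S → a * b⁻¹ ∈ S :=
    fun ha hb h h' => by
      simpa only [mul_inv_rev, inv_inv, mul_assoc, inv_mul_cancel_left] using mul_mem
        ((mem_sup_zp e2 e3 ha).resolve_left h) (inv_mem ((mem_sup_zp e2 e3 hb).resolve_left h'))
  have gd : Good M (bm 2 S) := by
    refine ⟨k.tri.two, (bm_le S).trans w.good.le, by_contra fun n => ?_⟩
    have nC : S ≤ nor (pCoreOf 2 M ⊓ cen (bm 2 S)) :=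
      le_normalizer_inf (le_normalizer_pCoreOf_of_le w.good.le) (le_normalizer_centralizer SB)
    have pC : IsPGroup 2 ↥(pCoreOf 2 M ⊓ cen (bm 2 S)) := (isPGroup_pCoreOf M).to_le inf_le_left
    obtain ⟨g, hg, e⟩ := warg k (sup_le (inf_le_right.trans (centralizer_le_normalizer _)) SB)
      (nb (two_sup pC w.good.two nC) (right_lt_sup.2 fun e => n (by
        conv_rhs => rw [bm_eq]
        exact le_inf e (inf_le_right.trans (centralizer_anti ((oz_le _).trans (jt_le_bm S))))))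
        (sup_le (inf_le_left.trans (pCoreOf_le M)) w.good.le))
    rw [sup_comm] at hg
    obtain ⟨u, hu, b, hb, rfl⟩ := (mem_sup_left_norm nC).1 hg
    rw [← cj_cj, cj_eq_self (centralizer_le_normalizer _ (centralizer_anti k.tri.AB hb.2))] at e
    exact ns u hu e
  refine ⟨q, R, A, A', t, k, cl_of k fun C h1 h2 h3 h4 => hR ((le_inf RX h4).trans (x.h2 C h1 h2 h3)), hR,
    ⟨gd, k.syl, ch, fun e => hR (le_sup_left.trans e)⟩, ns, fun a a' o => ?_, l2 ht, l3 ht, ?_, sw⟩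
  · obtain ⟨g, hg, e⟩ := trans_of k (le_normalizer_bm l3)
      (fun D h1 h2 h3 => nb e4 l1 l2 D h1 (h2.trans (centralizer_le_normalizer _)) h3) o
    by_cases h : g ∈ S
    · exact ⟨g, h, e⟩
    have hu := two hg ht h tS
    have e' : cj g A = cj (g * t⁻¹) A' := by rw [← sw, cj_cj, inv_mul_cancel_right]
    have o' := (k.tri.op.cj_of_mem (SB hu)).symm
    refine ⟨_, hu, ?_⟩
    rw [← e'] at o'
    rcases o.cmp o' with f | f | f
    · exact .inr f.2
    · exact .inl f.2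
    · rcases e with e | e
      · exact (o.not_le_cen (e ▸ f.2.1)).elim
      · exact (o.symm.not_le_cen (e ▸ f.1)).elim
  · simpa using two ht (inv_mem ht) tS fun h => tS (by simpa using inv_mem h)

end H96.H97.QU
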