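import Cfsg.Agent.H98.CGTB
import Cfsg.Agent.H97.QUSpec

/-! Tower QU: the lemmas on one class of sides and on two opposite blocks under the weak
hypotheses `UW` and `TW`. -/

set_option autoImplicit false

namespace H96.H97.QU

open Subgroup Cfsg _root_.H98 _root_.H96 _root_.H96.CG H98.H96.CG _root_.H97.QU
open H52 (Vv Cv zc)
open scoped commutatorElement

universe u

variable {G : Type u} [Group G]

/-- two opposite blocks with coordinates, weak form of `H98.TS` -/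
structure WS (q : ℕ) (B R R' A A' : Subgroup G) (F F' : Type) [Field F] [Fintype F] [Field F']
    [Fintype F'] where
  l : UW q B R A A'
  r : UW q B R' A' A
  c : Co B R A A' F
  c' : Co B R' A' A F'
  hF : Fintype.card F = q
  hF' : Fintype.card F' = q
  hq : 2 < q
  dd : ∀ d ∈ zc B, d ∈ cen R → d ∈ cen R' → d = 1
  swR : ∀ y ∈ nor B, y ∉ nor A → cj y R = R'
  swR' : ∀ y ∈ nor B, y ∉ nor A' → cj y R' = R

variable [Finite G] {q : ℕ} {B R R' A A' X P Q T E W : Subgroup G} {a a' b d f g h x y z φ : G}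

theorem uw_of (u : Uno q B R A A') : UW q B R A A' := ⟨u.bk, u.gen, u.nA_le, u.bmP⟩

namespace UW

variable (u : UW q B R A A')
include u

omit [Finite G] in
theorem nA_le : nor A ≤ nor R := u.nA

theorem DZ : B ⊓ cen R = zc B ⊓ cen R :=
  le_antisymm (le_inf (le_inf inf_le_left (by
    conv_rhs => rw [← u.gen, centralizer_sup]
    exact le_inf u.bk.tri.cA u.bk.tri.cA')) inf_le_right) (inf_le_inf_right _ inf_le_left)

theorem tri : Tri q B A A' (zc B ⊓ cen R) := u.DZ ▸ u.bk.tri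

theorem cenA : B ⊓ cen A = A := by rw [u.tri.cenA, sup_of_le_left (inf_le_left.trans u.tri.zA)]

theorem cenA' : B ⊓ cen A' = A' := by rw [u.tri.symm.cenA, sup_of_le_left (inf_le_left.trans u.tri.zA')]

theorem invol (hb : b ∈ B) (h : b * b = 1) : b ∈ A ∨ b ∈ A' :=
  (u.tri.invol hb h).imp (fun e => u.cenA.le ⟨hb, e⟩) fun e => u.cenA'.le ⟨hb, e⟩

theorem ea_or (hE : IsElementaryAbelian 2 E) (h : E ≤ B) : E ≤ A ∨ E ≤ A' :=
  le_or_le fun _ hx => u.invol (h hx) (ea_sq hE hx)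

theorem cent (ha : a ∈ A) (h : a ∉ zc B) (hb : b ∈ B) (e : Commute a b) : b ∈ A :=
  u.cenA.le ⟨hb, u.tri.cent_le (u.tri.AB ha) (H12.ea_le_centralizer u.tri.eA ha)
    (mt (u.tri.mem_Z_of_cen ha) h) hb e⟩

theorem cent' (ha : a ∈ A') (h : a ∉ zc B) (hb : b ∈ B) (e : Commute a b) : b ∈ A' :=
  u.cenA'.le ⟨hb, u.tri.symm.cent_le (u.tri.AB' ha) (H12.ea_le_centralizer u.tri.eA' ha)
    (mt (u.tri.symm.mem_Z_of_cen ha) h) hb e⟩

theorem dec (hb : b ∈ B) : ∃ a ∈ A, ∃ a' ∈ A', b = a * a' :=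
  (mem_sup_right_norm (u.tri.AB'.trans u.tri.nA)).1 (u.gen.ge hb)

theorem maxA : A ∈ H12.maxEA 2 B :=
  ⟨u.tri.AB, u.tri.eA, fun _ h h' => (u.ea_or h' h).elim card_le_of_le
    fun e => u.tri.card_eq ▸ card_le_of_le e⟩

theorem maxA' : A' ∈ H12.maxEA 2 B :=
  H12.mem_maxEA_of_card_le u.maxA u.tri.AB' u.tri.eA' u.tri.card_eq.ge

theorem max_or (hE : E ∈ H12.maxEA 2 B) : E = A ∨ E = A' :=
  (u.ea_or hE.2.1 hE.1).imp (fun h => eq_of_le_of_card_ge h (hE.2.2 _ u.tri.AB u.tri.eA))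
    fun h => eq_of_le_of_card_ge h (hE.2.2 _ u.tri.AB' u.tri.eA')

theorem cj_or (h : cj g A ≤ B) : cj g A = A ∨ cj g A = A' :=
  u.max_or (H12.mem_maxEA_of_card_le u.maxA h (ea_cj u.tri.eA g) (card_cj g A).ge)

theorem cj_or' (h : cj g A' ≤ B) : cj g A' = A ∨ cj g A' = A' :=
  u.max_or (H12.mem_maxEA_of_card_le u.maxA' h (ea_cj u.tri.eA' g) (card_cj g A').ge)

theorem jt_B : jt 2 B = B := le_antisymm (jt_le B) (u.gen.ge.trans
  (sup_le (H12.le_thompsonSubgroupOf u.maxA) (H12.le_thompsonSubgroupOf u.maxA')))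

theorem comm_B : ⁅B, B⁆ = ⁅A, A'⁆ := by
  refine le_antisymm ?_ (commutator_mono u.tri.AB u.tri.AB')
  have n : B ≤ nor ⁅A, A'⁆ := le_normalizer_commutator u.tri.nA u.tri.symm.nA
  conv_lhs => enter [1]; rw [← u.gen]
  exact commutator_sup_left_le (u.tri.AB.trans n) (u.tri.AB'.trans n) u.tri.comm_AB.le
    (u.tri.symm.comm_AB.le.trans (commutator_comm _ _).le)

theorem jtP (hP : IsPGroup 2 P) (h1 : B ≤ P) (h2 : P ≤ nor R) : jt 2 P = B := by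
  rw [← jt_bm, u.bmP P hP h1 h2, u.jt_B]

theorem cZ (hP : IsPGroup 2 P) (h1 : B ≤ P) (h2 : P ≤ nor R) : P ⊓ cen (zc B) = B := by
  conv_rhs => rw [← u.bmP P hP h1 h2, bm_eq, u.jtP hP h1 h2]
  rw [le_antisymm (le_inf (oz_le B) (oz_le_centralizer B)) (le_oz u.tri.eZ inf_le_left inf_le_right)]

theorem A_ne : A ≠ ⊥ := fun h => u.tri.not_le (h ▸ bot_le)

theorem A_ne' : A' ≠ ⊥ := fun h => u.tri.symm.not_le (h ▸ bot_le)

theorem Z_ne : zc B ≠ ⊥ := fun h => u.tri.one_lt.ne' (by rw [← u.tri.idxD, h, relIndex_bot_right])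

theorem B_ne : B ≠ ⊥ := fun h => u.A_ne (eq_bot_iff.2 (h ▸ u.tri.AB))

theorem V_sup : pCoreOf 2 R ⊔ A' = B := by
  rw [← u.gen, ← u.bk.V_sup_Z, sup_assoc, sup_of_le_right u.tri.zA']

theorem nB_of (hg : g ∈ nor R) (hg' : g ∈ nor A') : g ∈ nor B := by
  rw [← u.V_sup]
  exact le_normalizer_sup (le_normalizer_pCoreOf inf_le_left) inf_le_right (mem_inf.2 ⟨hg, hg'⟩)

theorem wcR : WC 2 B (nor R) := by
  obtain ⟨S, hS, h⟩ := exists_isSyl_le u.tri.two u.bk.nR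
  exact u.jtP hS.isPGroup h hS.le ▸ hS.wc_jt

theorem D_eq : A ⊓ cen R = zc B ⊓ cen R := u.bk.A_cen

theorem cj (g : G) : UW q (cj g B) (cj g R) (cj g A) (cj g A') where
  bk := u.bk.cj g
  gen := by rw [← cj_sup, u.gen]
  nA := by rw [nor, nor, ← cj_normalizer, ← cj_normalizer]; exact cj_mono g u.nA
  bmP P h1 h2 h3 := by
    rw [← u.bmP (H98.cj g⁻¹ P) (isPGroup_cj _ h1) (cj_le_iff.1 h2)
      (by rwa [← le_cj_iff, nor, cj_normalizer]), cj_bm, cj_cj_inv]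

/-- `C_G(A) = A` if `N(A)` has characteristic two -/
theorem cen_A (h : CharP 2 (nor A)) : cen A ≤ A := by
  obtain ⟨S, hS, h1⟩ := exists_isSyl_le u.tri.two u.tri.nA
  refine (le_inf (le_normalizer_of_le_centralizer le_rfl) le_rfl).trans
    (h.inf_centralizer_le_of_isSyl hS (u.tri.AB.trans h1) hS.le ?_)
  exact (le_inf ((inf_le_inf_left S (centralizer_anti u.tri.zA)).trans
    (u.cZ hS.isPGroup h1 (hS.le.trans u.nA_le)).le) inf_le_right).trans u.cenA.le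

section

variable (hT : IsSyl 2 T ⊤) (e : jt 2 T = B)
include hT e

theorem maxT : A ∈ H12.maxEA 2 T ∧ A' ∈ H12.maxEA 2 T := by
  obtain ⟨E, hE⟩ := H12.exists_mem_maxEA (p := 2) T
  have h : E ≤ B := (H12.le_thompsonSubgroupOf hE).trans e.le
  exact ⟨H12.mem_maxEA_of_sub hE h (Uno.BT e) u.maxA, H12.mem_maxEA_of_sub hE h (Uno.BT e) u.maxA'⟩

/-- a conjugate of a side inside a `2`-group over `B` is a side -/
theorem side (hP : IsPGroup 2 P) (h1 : B ≤ P) (hE : IsElementaryAbelian 2 E) (h2 : E ≤ P)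
    (h3 : Nat.card A ≤ Nat.card E) : E = A ∨ E = A' := by
  have h4 := hT.jt_eq hP (e ▸ h1) le_top
  obtain ⟨k, -, h6⟩ := hT.exists_cj_le hP le_top
  refine u.max_or (H12.mem_maxEA_of_card_le u.maxA ?_ hE h3)
  rw [← e, ← h4]
  refine H12.le_thompsonSubgroupOf ⟨h2, hE, fun F hF hF' => le_trans ?_ h3⟩
  rw [← card_cj k]
  exact (u.maxT hT e).1.2.2 _ ((cj_mono k hF).trans h6) (ea_cj hF' k)

end

section

variable {F F' : Type} [Field F] [Field F'] (c : Co B R A A' F)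
include c

/-- `B = P_R D` -/
theorem B_le [Fintype F] (hF : 2 < Fintype.card F) : B ≤ R ⊓ B ⊔ zc B ⊓ cen R := by
  have h1 : A ≤ R ⊓ B ⊔ zc B ⊓ cen R :=
    u.bk.V_sup.ge.trans (sup_le_sup_right (le_inf (pCoreOf_le R) (u.bk.V_le.trans u.tri.AB)) _)
  refine u.gen.ge.trans (sup_le h1 fun x hx => ?_)
  obtain ⟨y, hy, e⟩ := c.A'_le u.bk hF hx
  simpa using mul_mem (mem_sup_left (mem_inf.2 ⟨hy.2, u.tri.AB' hy.1⟩)) (h1 (u.tri.zA e))

theorem cj_le [Fintype F] (hF : 2 < Fintype.card F) (hg : g ∈ nor A) : H98.cj g B ≤ R ⊔ B := by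
  refine (cj_mono g (u.B_le c hF)).trans ?_
  rw [cj_sup, ← u.D_eq]
  exact sup_le (le_sup_of_le_left (cj_le_of_le inf_le_left (u.nA_le hg)))
    (le_sup_of_le_right ((cj_le_of_le inf_le_left hg).trans u.tri.AB))

/-- `N(A) ≤ R N(B)` -/
theorem nA_dec [Fintype F] (hF : 2 < Fintype.card F) (hg : g ∈ nor A) : ∃ r ∈ R, r⁻¹ * g ∈ nor B := by
  have h1 := u.bk.syl
  obtain ⟨x, hx, e⟩ := h1.exists_le_cj (isPGroup_cj g h1.isPGroup) (u.cj_le c hF hg)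
  obtain ⟨r, hr, b, hb, rfl⟩ := (mem_sup_right_norm u.bk.nR).1 hx
  refine ⟨r, hr, mem_normalizer_of_cj_le ?_⟩
  rwa [← cj_cj, cj_eq_self_of_mem hb, le_cj_iff, cj_cj] at e

theorem nA_opp [Fintype F] (hF : 2 < Fintype.card F) (hg : g ∈ nor A) (h : g ∉ nor B) :
    zc B ⊓ H98.cj g (zc B) = zc B ⊓ cen R ∧ R ≤ B ⊔ H98.cj g B := u.bk.opp (u.cj_le c hF hg) h

/-- `C_{N(A)}(f) ≤ N(B)` for `f ∈ Z ∖ D` -/
theorem nB_of_cen [Fintype F] (hF : 2 < Fintype.card F) (hx : x ∈ zc B) (h : x ∉ cen R)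
    (hg : g ∈ nor A) (e : Commute g x) : g ∈ nor B := by_contra fun h1 =>
  h ((u.nA_opp c hF hg h1).1.le ⟨hx, mem_cj.2 (by rwa [e.inv_left.eq, inv_mul_cancel_right])⟩).2

/-- a torus element of weight `≠ 1` has `C_B(h) ≤ D` -/
theorem free {l : F} (hl : l ≠ 0) (h1 : l ≠ 1) (hh : h ∈ R) (hh' : h ∈ nor B) (w : Wt c.a c.b c.z h l)
    (hx : x ∈ B) (e : ⁅h, x⁆ ∈ zc B ⊓ cen R) : x ∈ zc B ⊓ cen R := by
  obtain ⟨a, ha, a', ha', rfl⟩ := u.dec hx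
  have n := u.bk.nA (le_normalizer hh) hh'
  have n' := u.bk.nA' (le_normalizer hh) hh'
  have e1 : ⁅h, a * a'⁆ = ⁅h, a⁆ * (a * ⁅h, a'⁆ * a⁻¹) := by simp only [commutatorElement_def]; group
  have h2 : ⁅h, a⁆ ∈ zc B := u.tri.inf_eq.le ⟨cm_mem n ha, by
    have := mul_mem (u.tri.zA' e.1) (inv_mem (conj_mem_of_mem_normalizer (u.tri.symm.nA (u.tri.AB ha))
      (cm_mem n' ha')))
    rwa [e1, mul_inv_cancel_right] at this⟩
  have h3 := (Co.wt_a w hl).free n (mt inv_eq_one.1 h1) ha h2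
  have h4 : ⁅h, a'⁆ ∈ zc B := by
    have := conj_mem_of_mem_normalizer' (Co.nZ (le_normalizer (u.tri.AB ha))) (mul_mem (inv_mem h2) e.1)
    rwa [e1, show a⁻¹ * (⁅h, a⁆⁻¹ * (⁅h, a⁆ * (a * ⁅h, a'⁆ * a⁻¹))) * a = ⁅h, a'⁆ by group] at this
  have h5 := (Co.wt_b w hl).free n' (fun e => h1 (f2_sq_inj c.two (by rw [e, one_pow]))) ha' h4
  exact (Co.wt_z w hl).free (Co.nZ hh') h1 (mul_mem h3 h5) e

/-- (SS) the torus of the opposite block is linear -/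
theorem ss [Finite F] (u' : UW q B R' A' A) (c' : Co B R' A' A F') (hg : g ∈ R') (hg' : g ∈ nor B) :
    c.sg g = 1 := by
  have nA : ∀ {x : G}, x ∈ R' → x ∈ nor B → x ∈ nor A := fun h h' => u'.bk.nA' (le_normalizer h) h'
  have s := c.sl_a (u.nA_le (nA hg hg')) hg'
  refine aut_eq_one_of_quot fun l hl => ?_
  obtain ⟨h, ⟨hh, hh'⟩, s'⟩ := c.scal_a hl
  have n := u.bk.nA (le_normalizer hh) hh'
  have h1 := ((s.mul s' n).mul (s.inv (nA hg hg')) (inv_mem (nA hg hg'))).mul (s'.inv n) (inv_mem n)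
  have h3 : c.sg g ((c.sg g)⁻¹ (c.ca g)⁻¹) = (c.ca g)⁻¹ := (c.sg g).apply_symm_apply _
  simp only [mul_one, mul_inv_cancel, inv_one, RingAut.one_apply, h3] at h1
  rw [mul_right_comm (c.ca g), mul_inv_cancel₀ s.ne, one_mul, ← commutatorElement_def,
    ← div_eq_mul_inv] at h1
  have h4 : ⁅g, h⁆ ∈ R' := commutator_le_left' (inf_le_left (b := zpowers h))
    (commutator_mem_commutator hg ⟨u'.nA_le (u.bk.nA' (le_normalizer hh) hh'), mem_zpowers h⟩)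
  have h5 : ⁅g, h⁆ ∈ nor B := commutator_le_of_le le_rfl le_rfl (commutator_mem_commutator hg' hh')
  obtain ⟨m, hm, w, -⟩ := c'.lin g hg hg'
  obtain ⟨m', hm', w', -⟩ := c'.lin _ h4 h5
  obtain ⟨x, hx, e⟩ := c.a.surj 1
  have k1 := fun {y} hy => conj_mem_of_mem_normalizer (nA hg hg') (x := y) hy
  have k2 := fun {y} hy => conj_mem_of_mem_normalizer (nA h4 h5) (x := y) hy
  have h6 := (c.a.eq_iff (k1 (k2 hx)) (k2 (k1 hx))).2 ((c'.b.eq_iff (k1 (k2 hx)) (k2 (k1 hx))).1 (by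
    rw [w.2.1 _ (k2 hx), w'.2.1 _ hx, w'.2.1 _ (k1 hx), w.2.1 _ hx, mul_left_comm]))
  rw [s.eq _ (k2 hx), h1.eq _ hx, h1.eq _ (k1 hx), s.eq _ hx, e] at h6
  simp only [RingAut.one_apply, map_one, mul_one] at h6
  exact mul_left_cancel₀ s.ne (h6.trans (mul_comm _ _))


end

theorem nA_or (hg : g ∈ nor B) : g ∈ nor A ∨ H98.cj g A = A' :=
  (u.cj_or (cj_le_of_le u.tri.AB hg)).imp_left cj_eq_self_iff.1

theorem nA_of_mem (hg : g ∈ nor B) (ha : a ∈ A) (h : a ∉ zc B) (e : a ∈ H98.cj g A) : g ∈ nor A :=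
  (u.nA_or hg).resolve_right fun e' => h (u.tri.inf_eq.le ⟨ha, e' ▸ e⟩)

theorem nA_of_comm (hg : g ∈ nor B) (ha : a ∈ A) (h : a ∉ zc B) (e : Commute g a) : g ∈ nor A :=
  u.nA_of_mem hg ha h (mem_cj_of_comm ha e)

/-- a `2`-element of `N(R) ⊓ N(B)` centralizing `Z` lies in `B` -/
theorem mem_B_of_cen (hg : g ∈ nor R) (hg' : g ∈ nor B) (ht : T2 g) (e : g ∈ cen (zc B)) : g ∈ B :=
  (u.cZ (two_sup u.tri.two ht.isPGroup (zpowers_le.2 hg')) le_sup_left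
    (sup_le u.bk.nR (zpowers_le.2 hg))).le ⟨mem_sup_right (mem_zpowers g), e⟩

/-- a conjugate of a side normalizing `B` is a side -/
theorem side' (hT : IsSyl 2 T ⊤) (e : jt 2 T = B) (hE : IsElementaryAbelian 2 E) (h2 : E ≤ nor B)
    (h3 : Nat.card A ≤ Nat.card E) : E = A ∨ E = A' :=
  u.side hT e (two_sup u.tri.two (H12.ea_isPGroup hE) h2) le_sup_left hE le_sup_right h3

theorem side_le (hT : IsSyl 2 T ⊤) (e : jt 2 T = B) (hE : IsElementaryAbelian 2 E) (h2 : E ≤ nor B)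
    (h3 : Nat.card A ≤ Nat.card E) : E ≤ B :=
  (u.side' hT e hE h2 h3).elim (· ▸ u.tri.AB) (· ▸ u.tri.AB')

variable {F : Type} [Field F] [Fintype F] (c : Co B R A A' F)
include c

omit [Fintype F] in
theorem mem_B_of_sg (hD : zc B ⊓ cen R = ⊥) (hg : g ∈ nor R) (hg' : g ∈ nor B) (ht : T2 g)
    (e : c.sg g = 1) : g ∈ B :=
  u.mem_B_of_cen hg hg' ht (mem_cen.2 fun x hx => (commutatorElement_eq_one_iff_commute.1
    (mem_bot.1 (hD ▸ c.triv_z hg hg' ht e x hx))).symm)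

/-- a `2`-group over `A` centralizing `x ∈ Z(T) ∖ D` normalizes `B` -/
theorem le_nB (hF : 2 < Fintype.card F) (hT : IsSyl 2 T ⊤) (e : jt 2 T = B) (hx : x ∈ zc B)
    (h : x ∉ cen R) (hxT : T ≤ cen1 x) (hP : IsPGroup 2 P) (h1 : A ≤ P) (h2 : P ≤ cen1 x) :
    P ≤ nor B := by
  obtain ⟨y, hy, h3⟩ := (hT.of_le hxT le_top).exists_le_cj hP h2
  have hT' := hT.cj_of_mem (mem_top y)
  have e' : jt 2 (H98.cj y T) = H98.cj y B := by rw [← cj_jt, e]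
  have u' := u.cj y
  have h4 : H98.cj y B ≤ nor A := (u'.side hT' e' hT'.isPGroup (Uno.BT e') u.tri.eA (h1.trans h3)
    (card_cj y A).le).elim (· ▸ u'.tri.nA) (· ▸ u'.tri.symm.nA)
  have h5 := (Uno.wc hT e).cj_eq_of_normalizes (mem_top y) fun b hb => u.nB_of_cen c hF hx h (h4 hb)
    (mem_cen1.1 (cj_le_of_le_of_mem ((Uno.BT e).trans hxT) hy hb))
  exact h3.trans (h5 ▸ e' ▸ le_normalizer_jt le_normalizer)

end UW

namespace TW

variable {t : G} (w : TW q B R A A' t)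
include w

theorem sw' : cj t A' = A := (w.toUW.cj_or' (cj_le_of_le w.toUW.tri.AB' w.tB)).resolve_right fun e =>
  w.toUW.tri.ne (cj_inj.1 (w.sw.trans e.symm))

/-- the opposite block -/
theorem r : UW q B (cj t R) A' A := by
  have u := w.toUW.cj t
  rwa [cj_eq_self w.tB, w.sw, w.sw'] at u

theorem not_nA : t ∉ nor A := fun e => w.toUW.tri.ne ((cj_eq_self e).symm.trans w.sw)

omit [Finite G] in
theorem DD (h : d ∈ zc B) (h1 : d ∈ cen R) (h2 : d ∈ cen (cj t R)) : d = 1 :=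
  mem_bot.1 (w.dd.le ⟨⟨h, h1⟩, h2⟩)

theorem swR (hy : y ∈ nor B) (h : y ∉ nor A) : cj y R = cj t R := by
  have h1 : t⁻¹ * y ∈ nor A := cj_eq_self_iff.1 (by
    rw [← cj_cj, (w.toUW.nA_or hy).resolve_left h, ← w.sw, cj_inv_cj])
  rw [← mul_inv_cancel_left t y, ← cj_cj, cj_eq_self (w.nA h1)]

theorem swR' (hy : y ∈ nor B) (h : y ∉ nor A') : cj y (cj t R) = R := by
  have h1 : y * t ∈ nor A := cj_eq_self_iff.1 (by
    rw [← cj_cj, w.sw, (w.r.nA_or hy).resolve_left h])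
  rw [cj_cj, cj_eq_self (w.nA h1)]

theorem exists_ts (hq : 2 < q) : ∃ (F F' : Type) (_ : Field F) (_ : Fintype F) (_ : Field F')
    (_ : Fintype F'), Nonempty (WS q B R (cj t R) A A' F F') := by
  obtain ⟨F, _, _, h, ⟨c⟩⟩ := jobCo G q B R A A' w.bk hq
  obtain ⟨F', _, _, h', ⟨c'⟩⟩ := jobCo G q B _ A' A w.r.bk hq
  exact ⟨F, F', _, _, _, _, ⟨⟨w.toUW, w.r, c, c', h, h', hq, fun _ => w.DD, fun _ => w.swR,
    fun _ => w.swR'⟩⟩⟩

end TW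

namespace WS

variable {F F' : Type} [Field F] [Fintype F] [Field F'] [Fintype F'] (s : WS q B R R' A A' F F')

/-- interchange the two blocks -/
def symm : WS q B R' R A' A F' F :=
  ⟨s.r, s.l, s.c', s.c, s.hF', s.hF, s.hq, fun d h h1 h2 => s.dd d h h2 h1, s.swR', s.swR⟩

include s

omit [Finite G] in
theorem lt : 2 < Fintype.card F := s.hF ▸ s.hq

theorem t : Tri q B A A' (zc B ⊓ cen R) := s.l.tri

omit [Finite G] in
theorem DD (h : d ∈ zc B) (h1 : d ∈ cen R) (h2 : d ∈ cen R') : d = 1 := s.dd d h h1 h2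

theorem nA_of (hg : g ∈ R') (hg' : g ∈ nor B) : g ∈ nor A := s.r.bk.nA' (le_normalizer hg) hg'

theorem nD (hg : g ∈ nor A) (hg' : g ∈ nor B) : g ∈ nor (zc B ⊓ cen R) :=
  le_normalizer_inf (H52.n_zc inf_le_right) (le_normalizer_centralizer (inf_le_left.trans s.l.nA_le))
    (mem_inf.2 ⟨hg, hg'⟩)

theorem nA' (hg : g ∈ nor A) (hg' : g ∈ nor B) : g ∈ nor A' := s.t.nA' ⟨hg', hg⟩

/-- if `D ≠ 1` then `Z = D D'` -/
theorem dec (h : zc B ⊓ cen R ≠ ⊥) (hz : z ∈ zc B) : ∃ d ∈ zc B ⊓ cen R, d⁻¹ * z ∈ zc B ⊓ cen R' :=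
  s.c'.irr_z (fun _ hg => s.nD (s.nA_of hg.1 hg.2) hg.2) inf_le_left
    (fun e => h (eq_bot_iff.2 fun _ hd => s.DD hd.1 hd.2 (e hd).2)) hz

theorem cardZ : Nat.card (zc B) = q * Nat.card ↥(zc B ⊓ cen R) := by
  rw [← H12.card_mul_relIndex (inf_le_left : zc B ⊓ cen R ≤ _), s.t.idxD, mul_comm]

theorem D_bot (h : zc B ⊓ cen R = ⊥) : zc B ⊓ cen R' = ⊥ := by
  have h1 := s.cardZ.symm.trans s.symm.cardZ
  rw [h, card_bot] at h1
  exact card_eq_one.1 (Nat.eq_of_mul_eq_mul_left (by have := s.hq; omega) h1).symm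

theorem cardD_le : Nat.card ↥(zc B ⊓ cen R) ≤ q := by
  rw [← s.r.tri.idxD, ← relIndex_bot_left, show ⊥ = zc B ⊓ cen R' ⊓ (zc B ⊓ cen R) from
    (eq_bot_iff.2 fun _ hd => s.DD hd.1.1 hd.2.2 hd.1.2).symm, inf_relIndex_right]
  exact relIndex_le_of_le_right inf_le_left FiniteIndex.index_ne_zero

theorem nR_of (hg : g ∈ nor A) : g ∈ nor R := s.l.nA_le hg

theorem nA_of' (hg : g ∈ nor A') (hg' : g ∈ nor B) : g ∈ nor A := s.symm.nA' hg hg'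

theorem nR' (hg : g ∈ nor A) (hg' : g ∈ nor B) : g ∈ nor R' := s.r.nA_le (s.nA' hg hg')

theorem nD' (hg : g ∈ nor A) (hg' : g ∈ nor B) : g ∈ nor (zc B ⊓ cen R') := s.symm.nD (s.nA' hg hg') hg'

theorem comm_D' (h : zc B ⊓ cen R ≠ ⊥) (hg : g ∈ R) (hg' : g ∈ nor B) (hz : z ∈ zc B) :
    ⁅g, z⁆ ∈ zc B ⊓ cen R' := by
  obtain ⟨d, hd, e⟩ := s.dec h hz
  rw [show z = d⁻¹ * z * d by rw [← (zcom hz (inv_mem hd.1.1)).symm.eq]; group,
    comm_mul_right_of (com hd.2 hg)]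
  exact cm_mem (s.nD' (s.l.bk.RA hg) hg') e

theorem D'_le (h : zc B ⊓ cen R ≠ ⊥) : zc B ⊓ cen R' ≤ ⁅A, A'⁆ := fun d hd => by
  obtain ⟨a, ha, h1⟩ := s.t.exists_not_mem
  obtain ⟨a', ha', h2⟩ := s.r.tri.exists_not_mem
  obtain ⟨l, h0, hl⟩ := exists_ne_zero_one s.lt
  obtain ⟨k, ⟨hk, hk'⟩, w⟩ := s.c.scal_z h0
  have hn : R ⊓ nor B ≤ nor ⁅A, A'⁆ := le_normalizer_commutator (inf_le_left.trans s.l.bk.RA)
    fun x hx => s.nA' (s.l.bk.RA hx.1) hx.2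
  obtain ⟨y, hy, e⟩ := s.c.irr_z (X := ⁅A, A'⁆ ⊓ (zc B ⊓ cen R'))
    (le_normalizer_inf hn fun x hx => s.nD' (s.l.bk.RA hx.1) hx.2) (inf_le_right.trans inf_le_left)
    (fun e => by
      have h3 := e ⟨cm_mem (hn ⟨hk, hk'⟩) (commutator_mem_commutator ha ha'),
        s.comm_D' h hk hk' (s.t.comm a ha a' ha')⟩
      have h4 := w.free (Co.nZ hk') hl (s.t.comm a ha a' ha') h3
      exact (s.t.reg a ha a' ha' h4).elim h1 h2) hd.1
  rw [← inv_mul_eq_one.1 (s.DD e.1 e.2 (mul_mem (inv_mem hy.2.2) hd.2))]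
  exact hy.1

/-- `B' = Z` -/
theorem Z_le : zc B ≤ ⁅A, A'⁆ := fun z hz => by
  by_cases h : zc B ⊓ cen R = ⊥
  · obtain ⟨a, ha, h1⟩ := s.t.exists_not_mem
    obtain ⟨a', ha', d, hd, -, rfl⟩ := s.t.sur_mem ha h1 hz
    rw [h, mem_bot] at hd
    rw [hd, mul_one]
    exact commutator_mem_commutator ha ha'
  obtain ⟨d, hd, e⟩ := s.dec h hz
  have h1 := s.symm.D'_le (fun e => h (s.symm.D_bot e)) hd
  rw [commutator_comm] at h1
  simpa using mul_mem h1 (s.D'_le h e)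

theorem V_eq : pCoreOf 2 R = A := by
  rw [← s.l.bk.V_sup_Z, eq_comm, sup_eq_left]
  exact (s.Z_le.trans s.l.bk.V_inf.ge).trans inf_le_left

theorem nR_eq : nor R = nor A :=
  le_antisymm (s.V_eq ▸ normalizer_le_normalizer_pCoreOf R) s.l.nA

theorem B_le : B ≤ R := (s.l.B_le s.c s.lt).trans (sup_le inf_le_left
  (inf_le_left.trans (s.t.zA.trans (s.V_eq.ge.trans (pCoreOf_le R)))))

theorem sw_A (hy : y ∈ nor B) (h : y ∉ nor A) : cj y A = A' := (s.l.nA_or hy).resolve_left h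

theorem sw_not (hy : y ∈ nor B) (h : y ∉ nor A) : y ∉ nor A' := fun e => h (s.nA_of' e hy)

theorem sw_A' (hy : y ∈ nor B) (h : y ∉ nor A) : cj y A' = A := s.symm.sw_A hy (s.sw_not hy h)

theorem sw_mem (hy : y ∈ nor B) (h : y ∉ nor A) (ha : a ∈ A) : y * a * y⁻¹ ∈ A' :=
  s.sw_A hy h ▸ conj_mem_cj ha

omit [Finite G] in
theorem sw_R (hy : y ∈ nor B) (h : y ∉ nor A) : cj y R = R' := s.swR y hy h

theorem sw_D (hy : y ∈ nor B) (h : y ∉ nor A) (hd : d ∈ zc B ⊓ cen R) : y * d * y⁻¹ ∈ zc B ⊓ cen R' :=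
  ⟨conj_mem_of_mem_normalizer (Co.nZ hy) hd.1, by
    have := conj_mem_cj (g := y) hd.2
    rwa [cj_centralizer, s.sw_R hy h] at this⟩

theorem sw_D_eq (hy : y ∈ nor B) (h : y ∉ nor A) (hd : d ∈ zc B ⊓ cen R) (e : Commute y d) : d = 1 := by
  have := s.sw_D hy h hd
  rw [e.eq, mul_inv_cancel_right] at this
  exact s.DD hd.1 hd.2 this.2

theorem sw_mul (hx : x ∈ nor B) (hx' : x ∉ nor A) (hy : y ∈ nor B) (h : y ∉ nor A) : x * y ∈ nor A := by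
  rw [← cj_eq_self_iff, ← cj_cj, s.sw_A hy h, s.sw_A' hx hx']

/-- an involution of `B` centralized by a swap is central -/
theorem sw_Z (hy : y ∈ nor B) (h : y ∉ nor A) (hb : b ∈ B) (h2 : b * b = 1) (e : Commute y b) :
    b ∈ zc B := by_contra fun h1 => (s.l.invol hb h2).elim (fun ha => h (s.l.nA_of_comm hy ha h1 e))
  fun ha => s.sw_not hy h (s.r.nA_of_comm hy ha h1 e)

theorem sg' (hg : g ∈ nor A) (hg' : g ∈ nor B) (ht : T2 g) (e : s.c.sg g = 1) : s.c'.sg g = 1 :=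
  s.c'.sg_of_a s.r.bk (s.nR' hg hg') hg' (s.c.triv_b s.l.bk (s.nR_of hg) hg' ht e)

theorem mem_B (hg : g ∈ nor A) (hg' : g ∈ nor B) (ht : T2 g) (e : s.c.sg g = 1) : g ∈ B :=
  s.l.mem_B_of_cen (s.nR_of hg) hg' ht (mem_cen.2 fun z hz => (commutatorElement_eq_one_iff_commute.1
    (s.DD (s.c.triv_z (s.nR_of hg) hg' ht e z hz).1 (s.c.triv_z (s.nR_of hg) hg' ht e z hz).2
      (s.c'.triv_z (s.nR' hg hg') hg' ht (s.sg' hg hg' ht e) z hz).2)).symm)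

theorem sg_ne (hg : g ∈ nor A) (hg' : g ∈ nor B) (ht : T2 g) (e : g ∉ B) : s.c.sg g ≠ 1 :=
  fun h => e (s.mem_B hg hg' ht h)

/-- two elements of field type with squares in `B` -/
theorem fld_mul (hP : IsPGroup 2 P) (h : P ≤ nor B) (hx : x ∈ P) (hy : y ∈ P) (hx' : x ∈ nor A)
    (hy' : y ∈ nor A) (h1 : x * x ∈ B) (h2 : y * y ∈ B) (e : x ∉ B) (e' : y ∉ B) : x * y ∈ B :=
  s.mem_B (mul_mem hx' hy') (h (mul_mem hx hy)) (T2.of_mem hP (mul_mem hx hy))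
    (s.c.sg_mul_of_sq (s.nR_of hx') (h hx) (s.nR_of hy') (h hy) (s.c.sg_B s.l.bk h1)
      (s.c.sg_B s.l.bk h2) (s.sg_ne hx' (h hx) (T2.of_mem hP hx) e) (s.sg_ne hy' (h hy) (T2.of_mem hP hy) e'))

theorem four_le : 4 ≤ q := s.hF ▸ four_le_card s.c.two s.lt

theorem ea_card (hE : IsElementaryAbelian 2 E) (h : E ≤ nor B) (h' : ¬ E ≤ nor A) :
    Nat.card E ≤ 2 * Nat.card (zc B) := by
  obtain ⟨y, hy, e⟩ := SetLike.not_le_iff_exists.1 h'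
  have hP := H12.ea_isPGroup hE
  have h1 : E ⊓ nor A ⊓ B ≤ zc B := fun b hb => s.sw_Z (h hy) e hb.2 (ea_sq hE hb.1.1) (ea_com hE hy hb.1.1)
  have h2 := card_le_two_mul (H := nor A) (K := E) fun x hx y hy e => s.sw_mul (h hx) e (h hy)
  by_cases h3 : E ⊓ nor A ≤ B
  · rw [inf_eq_left.2 h3] at h1
    exact h2.trans (Nat.mul_le_mul_left _ (card_le_of_le h1))
  obtain ⟨x, hx, e'⟩ := SetLike.not_le_iff_exists.1 h3
  have h4 := card_le_two_mul (H := B) (K := E ⊓ nor A) fun x hx y hy => s.fld_mul hP h hx.1 hy.1 hx.2 hy.2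
    (ea_sq hE hx.1 ▸ B.one_mem) (ea_sq hE hy.1 ▸ B.one_mem)
  have h5 := two_mul_card_le (h1.lt_of_ne fun e => e' (s.l.mem_B_of_cen (s.nR_of hx.2) (h hx.1)
    (T2.of_mem hP hx.1) (mem_cen.2 fun z hz => ea_com hE (e.ge hz).1.1 hx.1)))
  omega

theorem jt_eq (hP : IsPGroup 2 P) (h1 : B ≤ P) (h2 : P ≤ nor B) : jt 2 P = B := by
  have h : jt 2 P ≤ B := by
    rw [jt, H12.thompsonSubgroupOf_eq]
    refine sSup_le fun E hE => ?_
    by_cases e : E ≤ nor A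
    · rw [← s.l.jtP (hP.to_le (inf_le_left : P ⊓ nor A ≤ P)) (le_inf h1 s.t.nA)
        (inf_le_right.trans s.l.nA_le)]
      exact H12.le_thompsonSubgroupOf (H12.mem_maxEA_of_le hE (le_inf hE.1 e) inf_le_left)
    have h3 := (hE.2.2 A (s.t.AB.trans h1) s.t.eA).trans (s.ea_card hE.2.1 (hE.1.trans h2) e)
    rw [s.t.card_A] at h3
    have := Nat.le_of_mul_le_mul_right h3 Nat.card_pos
    have := s.hq
    omega
  rw [← jt_eq_of_le h h1, s.l.jt_B]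

theorem syl_of (hT : IsSyl 2 T (nor B)) : IsSyl 2 T ⊤ ∧ jt 2 T = B := by
  have h1 : B ≤ T := hT.le_of_le_normalizer s.t.two le_normalizer hT.le
  have h := s.jt_eq hT.isPGroup h1 hT.le
  refine ⟨isSyl_of_isSyl_normalizer (hT.of_le (le_inf le_top le_normalizer) ?_), h⟩
  rw [← h]
  exact inf_le_right.trans (le_normalizer_jt le_rfl)

theorem exists_syl : ∃ T, IsSyl 2 T ⊤ ∧ jt 2 T = B :=
  let ⟨T, hT⟩ := exists_isSyl 2 (nor B)
  ⟨T, s.syl_of hT⟩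

theorem wc : WC 2 B ⊤ :=
  let ⟨_, hT, e⟩ := s.exists_syl
  e ▸ hT.wc_jt

theorem card_B : Nat.card B = q * Nat.card A := by
  rw [← H12.card_inf_mul_relIndex (cen A) B, s.t.relIndex_B, inf_comm, s.l.cenA, mul_comm]

theorem eZ : IsElementaryAbelian 2 (zc B) := s.t.eZ

theorem core_le (h : B ≤ X) : pCoreOf 2 X ≤ nor B :=
  s.wc.pCoreOf_le_normalizer le_top (le_normalizer_of_le h)

theorem nA_conj (hx : x ∈ nor B) (hg : g ∈ nor A) (hg' : g ∈ nor B) : x * g * x⁻¹ ∈ nor A := by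
  by_cases e : x ∈ nor A
  · exact mul_mem (mul_mem e hg) (inv_mem e)
  · exact s.sw_mul (mul_mem hx hg') (fun h => e ((mul_mem_cancel_right hg).1 h)) (inv_mem hx)
      fun h => e (inv_mem_iff.1 h)

theorem comm_dec (hg : g ∈ nor A) (hg' : g ∈ nor B) (ha : a ∈ A) (ha' : a' ∈ A')
    (h : ⁅g, a' * a⁆ ∈ zc B) : ⁅g, a⁆ ∈ zc B := by
  have h1 : a' * ⁅g, a⁆ * a'⁻¹ ∈ zc B := s.t.inf_eq.le ⟨conj_mem_of_mem_normalizer
    (s.t.nA (s.t.AB' ha')) (cm_mem hg ha), by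
      have := mul_mem (inv_mem (cm_mem (s.nA' hg hg') ha')) (s.t.zA' h)
      rwa [show ⁅g, a'⁆⁻¹ * ⁅g, a' * a⁆ = a' * ⁅g, a⁆ * a'⁻¹ by group] at this⟩
  simpa [mul_assoc] using conj_mem_of_mem_normalizer' (Co.nZ (le_normalizer (s.t.AB' ha'))) h1

theorem sw_not_Z (hy : y ∈ nor B) (ha : a ∉ zc B) : y * a * y⁻¹ ∉ zc B := fun e =>
  ha (by simpa [mul_assoc] using conj_mem_of_mem_normalizer' (Co.nZ hy) e)

theorem sw_sq (hy : y ∈ nor B) (h : y ∉ nor A) (ha : a ∈ A) (e : ⁅y, a⁆ * ⁅y, a⁆ = 1) : a ∈ zc B := by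
  have h1 := s.sw_mem hy h ha
  by_contra h2
  rcases s.l.invol (cm_mem hy (s.t.AB ha)) e with h3 | h3
  · exact s.sw_not_Z hy h2 (s.t.inf_eq.le ⟨by simpa [commutatorElement_def] using mul_mem h3 ha, h1⟩)
  · exact h2 (s.t.inf_eq.le ⟨ha, by simpa [commutatorElement_def, mul_assoc] using mul_mem (inv_mem h3) h1⟩)

theorem mem_A_of (ha : a ∈ A) (h : a ∉ zc B) (hx : x ∈ nor B) (ht : T2 x) (e : Commute x a)
    (e' : ∀ a' ∈ A', Commute x ⁅a, a'⁆) : x ∈ A := by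
  have h1 := s.l.nA_of_comm hx ha h e
  refine s.l.cent ha h (s.mem_B h1 hx ht (s.c.sg_of_z (s.nR_of h1) hx fun z hz => ?_)) e.symm
  obtain ⟨a', ha', d, hd, -, rfl⟩ := s.t.sur_mem ha h hz
  rw [(zcom hd.1 (s.t.comm a ha a' ha').1).eq, comm_mul_right_of (e' a' ha')]
  exact cm_mem (s.nD h1 hx) hd

theorem le_nB_of_W (ch : CharP 2 (cen1 f)) (hf : Gn B R R' f) (hW : cen1 f ≤ nor W) (h1 : W ≤ A) (h2 : ¬ W ≤ zc B) :
    cen1 f ≤ nor B := by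
  obtain ⟨P, hP, hB⟩ := exists_isSyl_le s.t.two (zc_le_cen1 hf.z)
  obtain ⟨a, ha, h⟩ := SetLike.not_le_iff_exists.1 h2
  have h3 := le_nor_of_cen ch hP hW (le_antisymm (fun x hx => s.mem_A_of (h1 ha) h
    (s.wc.le_normalizer hP.isPGroup hB le_top hx.1) (T2.of_mem hP.isPGroup hx.1) (com hx.2 ha).symm
    fun a' ha' => (com hx.2 (cm_mem' ha (hW (zc_le_cen1 hf.z (s.t.AB' ha'))))).symm)
    (le_inf (s.t.AB.trans hB) ((H12.ea_le_centralizer s.t.eA).trans (centralizer_anti h1))))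
    (H12.ea_le_centralizer s.t.eA)
  exact fun g hg => s.l.nB_of_cen s.c s.lt hf.z hf.l (h3 hg) (mem_cen1.1 hg)

theorem le_nB_of_ea (ch : CharP 2 (cen1 f)) (hf : Gn B R R' f) (hW : cen1 f ≤ nor W) (hE : IsElementaryAbelian 2 W)
    (h1 : W ≤ B) (h2 : ¬ W ≤ zc B) : cen1 f ≤ nor B :=
  (s.l.ea_or hE h1).elim (s.le_nB_of_W ch hf hW · h2) (s.symm.le_nB_of_W ch hf.symm hW · h2)

theorem sw_Z_le (hQ : B ≤ nor Q) (hy : y ∈ Q) (hy' : y ∈ nor B) (h : y ∉ nor A) : zc B ≤ Q :=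
  s.Z_le.trans (commutator_le.2 fun a ha a' ha' => by
    have h1 := cm_mem (hQ (s.t.AB' ha')) (cm_mem' hy (hQ (s.t.AB ha)))
    have h2 := s.sw_mem hy' h ha
    rwa [commutatorElement_def y, comm_left_mul_of (ea_com s.t.eA' ha' h2) (zcom (s.r.tri.comm _ ha' _
      (inv_mem ha)) (s.t.AB' h2)), ea_inv s.t.eA ha, s.t.comm_inv ha ha'] at h1)

theorem exists_D (h : zc B ⊓ cen R ≠ ⊥) (m : F') : ∃ d ∈ zc B ⊓ cen R, s.c'.z.ψ d = m := by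
  obtain ⟨z, hz, rfl⟩ := s.c'.z.surj m
  obtain ⟨d, hd, e⟩ := s.dec h hz
  exact ⟨d, hd, (s.c'.z.eq_iff hd.1 hz).2 e⟩

theorem free (hh : h ∈ R) (hh' : h ∈ nor B) (e : h ∉ B) (hb : b ∈ B) (h1 : Commute h b) :
    b ∈ zc B ⊓ cen R := by
  obtain ⟨l, h0, w, h2⟩ := s.c.lin h hh hh'
  exact s.l.free s.c h0 (mt h2 e) hh hh' w hb (cm_one.2 h1 ▸ one_mem _)

theorem exists_pel {p : ℕ} (hp : p.Prime) (h : p ∣ q - 1) :
    p ≠ 2 ∧ ∃ k ∈ R, k ∈ nor B ∧ k ∉ B ∧ IsPGroup p (zpowers k) := by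
  classical
  haveI := Fact.mk hp
  obtain ⟨l, hl⟩ := exists_prime_orderOf_dvd_card (G := Fˣ) p (by rwa [Fintype.card_units, s.hF])
  have h2 : p ≠ 2 := fun e => by
    have h1 : l = 1 := Units.ext (f2_sq_inj s.c.two (by
      rw [← Units.val_pow_eq_pow_val, ← e, ← hl, pow_orderOf_eq_one]; simp))
    rw [h1, orderOf_one] at hl
    exact hp.one_lt.ne hl
  obtain ⟨k, ⟨hk, hk'⟩, w⟩ := s.c.scal_z l.ne_zero
  have h3 := w.pow (Co.nZ hk') (orderOf k)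
  rw [pow_orderOf_eq_one] at h3
  have h4 : p ∣ orderOf k := hl ▸ orderOf_dvd_of_pow_eq_one (Units.ext (h3.uniq (SL.one _)).2)
  have h5 := orderOf_pow_orderOf_div (orderOf_pos k).ne' h4
  refine ⟨h2, _, pow_mem hk (orderOf k / p), pow_mem hk' _, fun e => ?_,
    isPGroup_zpowers (k := 1) (by rw [pow_one]; exact orderOf_dvd_iff_pow_eq_one.1 h5.dvd)⟩
  exact not_dvd_card_of_isPGroup_ne hp h2 s.t.two (h5 ▸ B.orderOf_dvd_natCard e)

theorem exists_prime : ∃ p : ℕ, p.Prime ∧ p ∣ q - 1 :=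
  Nat.exists_prime_and_dvd (by have := s.hq; omega)

/-- `N(Z) ≤ N(B)` for `D = 1` -/
theorem nZ_le (hc : CharP 2 (nor (zc B))) (hD : zc B ⊓ cen R = ⊥) : nor (zc B) ≤ nor B := by
  have BX : nor B ≤ nor (zc B) := H52.n_zc le_rfl
  have nQ := self_le_normalizer_pCoreOf (p := 2) (nor (zc B))
  have QB := s.core_le (le_normalizer.trans BX)
  have pQ := isPGroup_pCoreOf (p := 2) (nor (zc B))
  have pZ := H12.ea_isPGroup s.eZ
  have ZQ := le_pCoreOf pZ le_normalizer le_rfl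
  have ch := fun {N} h1 => le_core_of_chain (N := N) hc h1 le_rfl
    (le_normalizer.trans BX)
  set Q := pCoreOf 2 (nor (zc B))
  suffices h : B ≤ Q from s.wc.le_normalizer_of pQ h le_top nQ
  have BB : ⁅B, B⁆ ≤ zc B := s.l.comm_B.le.trans (commutator_le.2 s.t.comm)
  have nQ' : nor A ⊓ nor B ≤ nor (Q ⊓ nor A) :=
    le_normalizer_inf (inf_le_right.trans (BX.trans nQ)) (le_normalizer_of_le inf_le_left)
  have RA : R ⊓ nor B ≤ nor A ⊓ nor B := inf_le_inf_right _ s.l.bk.RA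
  have h0 : ∀ {x}, x ∈ Q → x ∈ nor A → x ∈ B := fun hx h => s.mem_B h (QB hx) (T2.of_mem pQ hx)
    (s.c.sg_of_norm (pQ.to_le inf_le_left) (inf_le_right.trans s.l.nA_le) (inf_le_left.trans QB)
      (RA.trans nQ') ⟨hx, h⟩)
  have QQ := commutator_le_left' (le_normalizer.trans (BX.trans nQ))
  by_cases hQ : Q ≤ nor A
  · exact ch nQ QQ ((commutator_mono (fun x hx => h0 hx (hQ hx)) le_rfl).trans BB) (H52.le_cent_zc B)
  obtain ⟨y, hy, hy'⟩ := SetLike.not_le_iff_exists.1 hQ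
  by_cases h1 : Q ⊓ A ≤ zc B
  swap
  · have h2 : A ≤ Q := fun a ha => by
      obtain ⟨x, hx, e⟩ := s.c.irr_a (le_normalizer_inf (inf_le_right.trans (BX.trans nQ))
        (inf_le_left.trans s.l.bk.RA)) inf_le_right h1 ha
      simpa using mul_mem hx.1 (ZQ e)
    exact s.l.gen.ge.trans (sup_le h2 (s.sw_A (QB hy) hy' ▸ cj_le_of_le_of_mem h2 hy))
  obtain ⟨p, hp, hp'⟩ := s.exists_prime
  obtain ⟨p2, k, hk, hk', kB, pk⟩ := s.exists_pel hp hp'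
  haveI := Fact.mk hp
  have kn : zpowers k ≤ R ⊓ nor B := zpowers_le.2 ⟨hk, hk'⟩
  obtain ⟨n, hn, h2⟩ := exists_mul_mem_centralizer pk (not_dvd_card_of_isPGroup_ne hp p2
    (pQ.to_le (inf_le_left : Q ⊓ nor A ≤ Q))) (kn.trans (RA.trans nQ')) (y := y) fun a ha =>
      ⟨cm_mem (nQ (BX (kn ha).2)) hy, by
        simpa [commutatorElement_def, mul_assoc] using mul_mem (RA (kn ha)).1
          (s.nA_conj (QB hy) (inv_mem (RA (kn ha)).1) (inv_mem (kn ha).2))⟩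
  have tQ := mul_mem hn.1 hy
  have tA : n * y ∉ nor A := fun e => hy' (((nor A).mul_mem_cancel_left hn.2).1 e)
  set t := n * y
  have t2 : t * t = 1 := mem_bot.1 (hD ▸ s.free hk hk' kB (h0 (mul_mem tQ tQ)
    (s.sw_mul (QB tQ) tA (QB tQ) tA)) (com (mul_mem h2 h2) (mem_zpowers k)))
  have QZ : ∀ z ∈ zc B, z ∈ cen Q := fun z hz => by
    obtain ⟨w, hw, e⟩ := s.c.irr_z (X := zc B ⊓ cen Q) (inf_le_right.trans (le_normalizer_inf BX
      (le_normalizer_centralizer (BX.trans nQ)))) inf_le_left (fun e => inf_centralizer_ne_bot pZ pQ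
        (pCoreOf_le _) s.l.Z_ne (eq_bot_iff.2 (hD ▸ e))) hz
    rw [hD, mem_bot, inv_mul_eq_one] at e
    exact e ▸ hw.2
  have h3 : ∀ x ∈ Q, x ∉ nor A → x * x = 1 := fun x hx h => by
    have h4 := mul_mem hx tQ
    obtain ⟨a, ha, a', ha', e⟩ := s.l.dec (h0 h4 (s.sw_mul (QB hx) h (QB tQ) tA))
    have h5 := s.sw_mem (QB tQ) tA ha
    have h6 : t * a * t⁻¹ * a' ∈ Q := by
      have := mul_mem (cm_mem' tQ (nQ (BX (le_normalizer (s.t.AB ha))))) h4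
      rwa [e, commutatorElement_def, mul_assoc, inv_mul_cancel_left] at this
    have h7 : t * a * t⁻¹ * a' ∈ zc B := by_contra fun h => s.sw_not_Z (QB tQ) h (h1
      ⟨conj_mem_of_mem_normalizer (le_normalizer tQ) h6,
        s.symm.sw_mem (QB tQ) (s.sw_not (QB tQ) tA) (mul_mem h5 ha')⟩)
    have c1 := zcom h7 (s.t.AB ha)
    have c2 := com (QZ _ h7) tQ
    have h8 := ea_sq s.eZ h7
    have h9 : x = a * t * a⁻¹ * (t⁻¹ * (t * a * t⁻¹ * a') * t⁻¹) := by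
      rw [ea_inv s.t.eA ha, eq_mul_inv_of_mul_eq e, inv_eq_of_mul_eq_one_right t2]
      simp only [mul_assoc, ← mul_assoc t t, t2, one_mul, ← mul_assoc a a, ea_sq s.t.eA ha]
    generalize t * a * t⁻¹ * a' = w at *
    rw [c2.inv_left.eq, mul_assoc w, ← mul_inv_rev, t2, inv_one, mul_one] at h9
    rw [h9, ← sq, ((c1.mul_left c2).mul_left c1.inv_left).mul_pow, sq w, h8, conj_pow, sq, t2]
    group
  refine ch (N := closure {x | x ∈ Q ∧ x * x ≠ 1} ⊔ zc B) (le_normalizer_sup (fun g hg =>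
    mem_normalizer_of_cj_le ?_) le_rfl) (fun b hb => ?_) ((commutator_mono (sup_le ((closure_le _).2
      fun x hx => h0 hx.1 (by_contra fun h => hx.2 (h3 x hx.1 h))) inf_le_left) le_rfl).trans BB)
      (H52.le_cent_zc B)
  · rw [cj, MonoidHom.map_closure]
    refine closure_mono ?_
    rintro _ ⟨x, hx, rfl⟩
    exact ⟨conj_mem_of_mem_normalizer (nQ hg) hx.1, fun e => hx.2 (by simpa using e)⟩
  have h4 := QQ hb
  have h5 := commutator_le_right' QB hb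
  by_cases e : b * b = 1
  · exact mem_sup_right ((s.l.invol h5 e).elim (fun h => h1 ⟨h4, h⟩) fun h => by_contra fun h' =>
      s.sw_not_Z (QB tQ) h' (h1 ⟨conj_mem_of_mem_normalizer (le_normalizer tQ) h4,
        s.symm.sw_mem (QB tQ) (s.sw_not (QB tQ) tA) h⟩))
  · exact mem_sup_left (subset_closure ⟨h4, e⟩)

theorem sw_R_mem (hy : y ∈ nor B) (h : y ∉ nor A) (hg : g ∈ R) : y * g * y⁻¹ ∈ R' :=
  s.sw_R hy h ▸ conj_mem_cj hg

/-- for `D = 1` all of `N(B)` is semilinear on `Z` -/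
theorem semi_z (hD : zc B ⊓ cen R = ⊥) (hg : g ∈ nor B) : ∃ σ c, SL s.c.z g σ c := by
  by_cases h : g ∈ nor A
  · exact ⟨_, _, s.c.sl_z (s.nR_of h) hg⟩
  have hn : ∀ {g}, g ∈ nor B → g ∈ nn (zc B) (zc B ⊓ cen R) := fun hg =>
    ⟨Co.nZ hg, hD ▸ le_normalizer_bot ⊤ (mem_top _)⟩
  obtain ⟨σ, c, h0, e⟩ := exists_semi (s.c.z.α g).toAddEquiv fun l hl => by
    obtain ⟨k, ⟨hk, hk'⟩, w⟩ := s.c.scal_z hl
    have h1 := s.sw_R_mem hg h hk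
    have h2 := mul_mem (mul_mem hg hk') (inv_mem hg)
    have w' := s.c.sl_z (s.nR_of (s.nA_of h1 h2)) h2
    rw [s.l.ss s.c s.r s.c' h1 h2] at w'
    refine ⟨s.c.ca (g * k * g⁻¹) * s.c.cb (g * k * g⁻¹), fun t => ?_⟩
    obtain ⟨x, hx, rfl⟩ := s.c.z.surj t
    have h3 := w.eq x hx
    have h4 := w'.eq _ (conj_mem_of_mem_normalizer (Co.nZ hg) hx)
    rw [RingAut.one_apply] at h3 h4
    change s.c.z.α g • (l * s.c.z.ψ x) = _ * s.c.z.α g • s.c.z.ψ x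
    rw [← h3, s.c.z.α_ψ (hn hg) (conj_mem_of_mem_normalizer (Co.nZ hk') hx), s.c.z.α_ψ (hn hg) hx, ← h4]
    congr 1
    group
  exact ⟨σ, c, h0, fun x hx => (s.c.z.α_ψ (hn hg) hx).symm.trans (e _)⟩

theorem cen_iff (hD : zc B ⊓ cen R = ⊥) : g ∈ cen (zc B) ↔ ∀ z ∈ zc B, ⁅g, z⁆ ∈ zc B ⊓ cen R := by
  simp only [hD, mem_bot, cm_one, mem_cen, Commute.symm_iff]

theorem sl_ne (hD : zc B ⊓ cen R = ⊥) (hx : x ∈ nor B) (ht : T2 x) (h : x ∉ cen (zc B)) {σ : F ≃+* F}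
    {c : F} (w : SL s.c.z x σ c) : σ ≠ 1 := fun e =>
  h ((s.cen_iff hD).2 ((e ▸ w).triv s.c.two (Co.nZ hx) ht))

theorem mv_mul (hD : zc B ⊓ cen R = ⊥) (hP : IsPGroup 2 P) (h : P ≤ nor B) (hx : x ∈ P) (hy : y ∈ P)
    (h1 : x * x ∈ cen (zc B)) (h2 : y * y ∈ cen (zc B)) (e : x ∉ cen (zc B)) (e' : y ∉ cen (zc B)) :
    x * y ∈ cen (zc B) := by
  obtain ⟨σ, c, w⟩ := s.semi_z hD (h hx)
  obtain ⟨τ, c', w'⟩ := s.semi_z hD (h hy)
  have k : ∀ {x σ c}, x ∈ P → SL s.c.z x σ c → x * x ∈ cen (zc B) → σ * σ = 1 := fun hx w h1 =>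
    (((w.mul w (Co.nZ (h hx))).triv_iff (Co.nZ (h (mul_mem hx hx)))).1 ((s.cen_iff hD).1 h1)).1
  by_contra h3
  refine s.sl_ne hD (h (mul_mem hx hy)) (T2.of_mem hP (mul_mem hx hy)) h3 (w.mul w' (Co.nZ (h hy))) ?_
  rw [aut_eq_of_sq (k hx w h1) (k hy w' h2) (s.sl_ne hD (h hx) (T2.of_mem hP hx) e w)
    (s.sl_ne hD (h hy) (T2.of_mem hP hy) e' w'), k hy w' h2]

theorem sq_cen (hD : zc B ⊓ cen R = ⊥) (hq : q = 4) (hP : IsPGroup 2 P) (h : P ≤ nor B) (hx : x ∈ P) :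
    x * x ∈ cen (zc B) := by_contra fun e => by
  obtain ⟨σ, c, w⟩ := s.semi_z hD (h hx)
  exact s.sl_ne hD (h (mul_mem hx hx)) (T2.of_mem hP (mul_mem hx hx)) e (w.mul w (Co.nZ (h hx)))
    (aut_sq_four (s.hF.trans hq) σ)

theorem fix_le (hD : zc B ⊓ cen R = ⊥) (hx : x ∈ nor B) (ht : T2 x) (h : x ∉ cen (zc B)) :
    Nat.card ↥(zc B ⊓ cen1 x) ^ 2 ≤ q := by
  obtain ⟨σ, c, w⟩ := s.semi_z hD hx
  have := w.fix_le (Co.nZ hx) (s.sl_ne hD hx ht h w) (inf_le_left (b := cen1 x))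
    fun z hz => cm_one.2 (mem_cen1.1 hz.2).symm ▸ one_mem _
  rwa [hD, relIndex_bot_left, s.hF] at this

theorem cardZ' (hD : zc B ⊓ cen R = ⊥) : Nat.card (zc B) = q := by rw [s.cardZ, hD, card_bot, mul_one]

theorem gn_of (hD : zc B ⊓ cen R = ⊥) (hf : f ∈ zc B) (h : f ≠ 1) : Gn B R R' f :=
  ⟨hf, fun e => h (mem_bot.1 (hD ▸ mem_inf.2 ⟨hf, e⟩)), fun e => h (mem_bot.1 (s.D_bot hD ▸ mem_inf.2 ⟨hf, e⟩))⟩

theorem trans_z (hD : zc B ⊓ cen R = ⊥) (hf : f ∈ zc B) (h : f ≠ 1) (hz : z ∈ zc B) (h' : z ≠ 1) :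
    ∃ k ∈ R ⊓ nor B, k * f * k⁻¹ = z := by
  have h1 := fun {f} (hf : f ∈ zc B) (h : f ≠ 1) => mt (s.c.z.ker f hf).1 fun e => (s.gn_of hD hf h).l e.2
  obtain ⟨k, hk, w⟩ := s.c.scal_z (div_ne_zero (h1 hz h') (h1 hf h))
  have h2 := (s.c.z.eq_iff (conj_mem_of_mem_normalizer (Co.nZ hk.2) hf) hz).1 (by
    rw [w.eq f hf, RingAut.one_apply, div_mul_cancel₀ _ (h1 hf h)])
  rw [hD, mem_bot, inv_mul_eq_one] at h2
  exact ⟨k, hk, h2⟩

theorem Z_le_core (hc : CharP 2 (cen1 f)) (hD : zc B ⊓ cen R = ⊥) (hf : f ∈ zc B) : zc B ≤ pCoreOf 2 (cen1 f) := by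
  have BX := zc_le_cen1 hf
  have nQ := self_le_normalizer_pCoreOf (p := 2) (cen1 f)
  have QB := s.core_le BX
  have pQ := isPGroup_pCoreOf (p := 2) (cen1 f)
  have ch := fun {A} => hc.le_pCoreOf (A := A)
  set Q := pCoreOf 2 (cen1 f)
  by_cases hQ : Q ≤ nor A
  swap
  · obtain ⟨y, hy, hy'⟩ := SetLike.not_le_iff_exists.1 hQ
    exact s.sw_Z_le (BX.trans nQ) hy (QB hy) hy'
  by_cases h1 : Q ≤ B
  · exact ch (inf_le_left.trans BX) (inf_le_right.trans (centralizer_anti h1))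
  obtain ⟨x, hx, e⟩ := SetLike.not_le_iff_exists.1 h1
  obtain ⟨a, ha, h2⟩ := s.c.move_a s.l.bk (s.nR_of (hQ hx)) (QB hx)
    (s.sg_ne (hQ hx) (QB hx) (T2.of_mem pQ hx) e)
  intro z hz
  obtain ⟨a', ha', d, hd, -, rfl⟩ := s.t.sur_mem (cm_mem (hQ hx) ha) h2 hz
  rw [hD, mem_bot] at hd
  rw [hd, mul_one]
  exact cm_mem' (cm_mem' hx (nQ (BX (s.t.AB ha)))) (nQ (BX (s.t.AB' ha')))

/-- a subgroup of index two in a conjugate of `Z` -/
theorem four_gen (hD : zc B ⊓ cen R = ⊥) (hq : q = 4) (hf : f ∈ zc B) (h : f ≠ 1) (hg : g ∈ cen1 f)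
    (h1 : ¬ cj g (zc B) ≤ X) (h2 : f ∈ X) : cj g (zc B) ⊓ X = zpowers f := by
  have h3 := two_mul_card_le (inf_lt_left.2 h1)
  rw [card_cj, s.cardZ' hD, hq] at h3
  refine (eq_of_le_of_card_ge (zpowers_le.2 (mem_inf.2 ⟨mem_cj_of_comm hf (mem_cen1.1 hg), h2⟩)) ?_).symm
  rw [Nat.card_zpowers, orderOf_eq_prime (p := 2) (by rw [sq, ea_sq s.eZ hf]) h]
  omega

theorem sg_sw (hy : y ∈ nor B) (h : y ∉ nor A) (hg : g ∈ nor A) (hg' : g ∈ nor B) :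
    s.c.sg (y * g * y⁻¹) = s.c.sg g := by
  obtain ⟨e, he⟩ := aut_eq_pow (s.c.sg g)
  have h1 : ∀ k ∈ R', k ∈ nor B → g * k * g⁻¹ * (k ^ e)⁻¹ ∈ B := fun k hk hk' => by
    have kA := s.nA_of hk hk'
    have w := s.c.sl_a (s.nR_of kA) hk'
    rw [s.l.ss s.c s.r s.c' hk hk'] at w
    have w' := (s.c.sl_a (s.nR_of hg) hg').conj_pow w hg kA e
    rw [he _ w.ne, mul_inv_cancel₀ (pow_ne_zero e w.ne)] at w'
    have h2 := mul_mem (conj_mem_of_mem_normalizer (s.nR' hg hg') hk) (inv_mem (pow_mem hk e))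
    have h3 := mul_mem (mul_mem (mul_mem hg' hk') (inv_mem hg')) (inv_mem (pow_mem hk' e))
    have h4 := s.nA_of h2 h3
    obtain ⟨l, h0, w, h5⟩ := s.c'.lin _ h2 h3
    exact h5 (f2_sq_inj s.c'.two ((((Co.wt_b w h0).triv_iff h4).1
      ((w'.triv_iff h4).2 ⟨rfl, rfl⟩)).2.trans (one_pow 2).symm))
  have gA := s.nA_conj hy hg hg'
  have gB := mul_mem (mul_mem hy hg') (inv_mem hy)
  refine RingEquiv.ext fun l => ?_
  by_cases hl : l = 0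
  · simp [hl]
  obtain ⟨k, ⟨hk, hk'⟩, w⟩ := s.c.scal_z hl
  have h2 := conj_mem_of_mem_normalizer hy (h1 _ (s.sw_R_mem (inv_mem hy) (fun e => h (inv_mem_iff.1 e)) hk)
    (mul_mem (mul_mem (inv_mem hy) hk') (inv_mem (inv_mem hy))))
  rw [conj_pow, show y * (g * (y⁻¹ * k * y⁻¹⁻¹) * g⁻¹ * (y⁻¹ * k ^ e * y⁻¹⁻¹)⁻¹) * y⁻¹ =
    y * g * y⁻¹ * k * (y * g * y⁻¹)⁻¹ * (k ^ e)⁻¹ by group] at h2
  have h3 := ((((s.c.sl_z (s.nR_of gA) gB).conj_pow w (Co.nZ gB) (Co.nZ hk') e).triv_iff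
    (Co.nZ (le_normalizer h2))).1 fun z hz => cm_one.2 (zcom hz h2) ▸ one_mem _).2
  rw [he l hl, (mul_inv_eq_one₀ (pow_ne_zero e hl)).1 h3]

/-- `T / B` is abelian -/
theorem comm_B (hP : IsPGroup 2 P) (h : P ≤ nor B) (hx : x ∈ P) (hy : y ∈ P) : ⁅x, y⁆ ∈ B := by
  have h1 : ∀ {x y}, x ∈ P → y ∈ P → x ∈ nor A → ⁅x, y⁆ ∈ B := fun {x y} hx hy hx' => by
    have h2 := s.nA_conj (h hy) (inv_mem hx') (inv_mem (h hx))
    have h3 : ⁅x, y⁆ = x * (y * x⁻¹ * y⁻¹) := by group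
    have h4 : ⁅x, y⁆ ∈ P := cm_mem (le_normalizer hx) hy
    refine s.mem_B (h3 ▸ mul_mem hx' h2) (h h4) (T2.of_mem hP h4) ?_
    by_cases e : y ∈ nor A
    · exact s.c.sg_comm (s.nR_of hx') (h hx) (s.nR_of e) (h hy)
    · rw [h3, s.c.sg_mul (s.nR_of hx') (h hx) (s.nR_of h2) (h (mul_mem (mul_mem hy (inv_mem hx)) (inv_mem hy))),
        s.sg_sw (h hy) e (inv_mem hx') (inv_mem (h hx)), s.c.sg_inv (s.nR_of hx') (h hx), mul_inv_cancel]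
  by_cases e : x ∈ nor A
  · exact h1 hx hy e
  by_cases e' : y ∈ nor A
  · simpa using inv_mem (h1 hy hx e')
  rw [show ⁅x, y⁆ = ⁅x * y⁻¹, y⁆ by group]
  exact h1 (mul_mem hx (inv_mem hy)) hy (s.sw_mul (h hx) e (inv_mem (h hy)) fun h => e' (inv_mem_iff.1 h))

theorem comm_cj (hP : IsPGroup 2 P) (h : P ≤ nor (cj g B)) (hx : x ∈ P) (hy : y ∈ P) : ⁅x, y⁆ ∈ cj g B := by
  rw [nor, ← cj_normalizer, le_cj_iff] at h
  have := s.comm_B (isPGroup_cj _ hP) h (conj_mem_cj hx) (conj_mem_cj hy)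
  rw [mem_cj, show g⁻¹ * ⁅x, y⁆ * g = ⁅g⁻¹ * x * g⁻¹⁻¹, g⁻¹ * y * g⁻¹⁻¹⁆ by group]
  exact this

/-- `B` has a complement in a Sylow subgroup of `N(B)` -/
theorem exists_compl : ∃ U : Subgroup G, IsPGroup 2 U ∧ U ≤ nor B ∧ (∀ u ∈ U, u ∈ B → u = 1) ∧
    IsSyl 2 (B ⊔ U) (nor B) := by
  obtain ⟨p, hp, hp'⟩ := s.exists_prime
  haveI := Fact.mk hp
  have KB : R ⊓ nor B ⊔ R' ⊓ nor B ≤ nor B := sup_le inf_le_right inf_le_right
  have KA : R ⊓ nor B ⊔ R' ⊓ nor B ≤ nor A :=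
    sup_le (inf_le_left.trans s.l.bk.RA) fun x hx => s.nA_of hx.1 hx.2
  have h1 : ∀ k ∈ R ⊓ nor B ⊔ R' ⊓ nor B, s.c.sg k = 1 := fun k hk => by
    refine (sup_le (b := R' ⊓ nor B) (c := ⟨⟨⟨{k | k ∈ nor A ⊓ nor B ∧ s.c.sg k = 1}, ?_⟩, ?_⟩, ?_⟩)
      (fun k hk => ⟨⟨s.l.bk.RA hk.1, hk.2⟩, s.c.sg_R hk.1 hk.2⟩)
      (fun k hk => ⟨⟨s.nA_of hk.1 hk.2, hk.2⟩, s.l.ss s.c s.r s.c' hk.1 hk.2⟩) hk).2
    · exact fun ha hb => ⟨mul_mem ha.1 hb.1, by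
        rw [s.c.sg_mul (s.nR_of ha.1.1) ha.1.2 (s.nR_of hb.1.1) hb.1.2, ha.2, hb.2, mul_one]⟩
    · exact ⟨one_mem _, s.c.sg_one⟩
    · exact fun ha => ⟨inv_mem ha.1, by rw [s.c.sg_inv (s.nR_of ha.1.1) ha.1.2, ha.2, inv_one]⟩
  have n1 : nor A ⊓ nor B ≤ nor (R ⊓ nor B) := le_normalizer_inf (inf_le_left.trans s.l.nA_le)
    (le_normalizer_of_le inf_le_right)
  have n2 : nor A ⊓ nor B ≤ nor (R' ⊓ nor B) := le_normalizer_inf (fun x hx => s.nR' hx.1 hx.2)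
    (le_normalizer_of_le inf_le_right)
  have nK : nor B ≤ nor (R ⊓ nor B ⊔ R' ⊓ nor B) := fun y hy => by
    by_cases e : y ∈ nor A
    · exact le_normalizer_sup n1 n2 ⟨e, hy⟩
    · rw [← cj_eq_self_iff, cj_sup, cj_inf, cj_inf, s.sw_R hy e, s.symm.sw_R hy (s.sw_not hy e),
        cj_eq_self_of_mem hy, sup_comm]
  set K := R ⊓ nor B ⊔ R' ⊓ nor B
  obtain ⟨P, hP⟩ := exists_isSyl p K
  obtain ⟨U, hU⟩ := exists_isSyl 2 (nor B ⊓ nor P)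
  have UB := hU.le.trans inf_le_left
  obtain ⟨V, hV, h2⟩ := exists_isSyl_le (two_sup s.t.two hU.isPGroup UB) (sup_le le_normalizer UB)
  refine ⟨U, hU.isPGroup, UB, fun u hu e => ?_, le_antisymm h2 (fun v hv => ?_) ▸ hV⟩
  · have h3 : ∀ {R R' A A' : Subgroup G} {F F' : Type} [Field F] [Fintype F] [Field F'] [Fintype F']
        (s : WS q B R R' A A' F F'), R ⊓ nor B ≤ K → K ≤ nor (R ⊓ nor B) → u ∈ zc B ⊓ cen R :=
        fun s h h' => by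
      obtain ⟨p2, k, hk, hk', kB, pk⟩ := s.exists_pel hp hp'
      have h4 := hP.inf_of_le_normalizer h (hP.le.trans h')
      have h5 := IsPGroup.disjoint_of_ne p 2 p2 _ _ hP.isPGroup s.t.two
      obtain ⟨x, hx, h6⟩ := (bot_or_exists_ne_one (P ⊓ _)).resolve_left fun h6 => kB (by
        rw [← h4.eq_of_le pk (h6 ▸ bot_le) (zpowers_le.2 ⟨hk, hk'⟩), zpowers_eq_bot] at h6
        exact h6 ▸ B.one_mem)
      exact s.free hx.2.1 hx.2.2 (fun h => h6 (disjoint_def.1 h5 hx.1 h)) e (cm_one.1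
        (disjoint_def.1 h5 (cm_mem' hx.1 (hU.le hu).2) (cm_mem hx.2.2 e)))
    have h4 := h3 s le_sup_left ((le_inf KA KB).trans n1)
    exact s.DD h4.1 h4.2 (h3 s.symm le_sup_right ((le_inf KA KB).trans n2)).2
  · obtain ⟨t, ht, k, hk, rfl⟩ := (mem_sup_left_norm (UB.trans nK)).1 (hU.le_sup_of_normal
      (inf_le_left.trans nK) hV.isPGroup (le_sup_right.trans h2) (hV.le.trans (hP.frattini KB nK).ge) hv)
    rw [sup_comm]
    exact mul_mem_sup ht (s.mem_B (KA hk) (KB hk) (T2.of_mem hV.isPGroup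
      ((V.mul_mem_cancel_left (h2 (mem_sup_right ht))).1 hv)) (h1 k hk))

/-- (FB) -/
theorem fb (hz : z * z = 1) (hc : cen1 z ≤ nor B) (h : z ∈ cj g B) : cj g (zc B) ≤ B := by
  obtain ⟨T, hT, e⟩ := s.exists_syl
  have u := s.l.cj g
  have k : ∀ {E}, IsElementaryAbelian 2 E → z ∈ E → Nat.card A ≤ Nat.card E → E ≤ B := fun hE h =>
    s.l.side_le hT e hE (le_trans (fun x hx => mem_cen1.2 (ea_com hE hx h)) hc)
  rw [H52.cj_zc]
  exact (u.invol h hz).elim (fun h => u.tri.zA.trans (k u.tri.eA h (card_cj g A).ge))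
    fun h => u.tri.zA'.trans (k u.tri.eA' h (by rw [card_cj, s.t.card_eq]))

theorem exists_cj (hx : x ∈ cj g (zc B)) (hP : IsPGroup 2 P) (h : P ≤ cen1 x) :
    ∃ g, x ∈ cj g (zc B) ∧ P ≤ nor (cj g B) := by
  obtain ⟨V, hV, h1⟩ := exists_isSyl_le hP h
  obtain ⟨c, hc, h2⟩ := hV.exists_cj_le (isPGroup_cj g s.t.two) (zc_le_cen1 (H52.cj_zc g B ▸ hx))
  rw [cj_cj] at h2
  exact ⟨c * g, cj_cj c g (zc B) ▸ mem_cj_of_comm hx (mem_cen1.1 hc), h1.trans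
    ((s.wc.cj_of_mem (mem_top _)).le_normalizer hV.isPGroup h2 le_top)⟩

theorem exists_Z (hx : x * x = 1) (h : a * x * a⁻¹ ∈ B) : ∃ g, x ∈ cj g (zc B) := by
  obtain ⟨r, h1⟩ : ∃ r, r * (a * x * a⁻¹) * r⁻¹ ∈ zc B := (s.l.invol h (conj_sq hx a)).elim
    (fun h => (s.l.bk.fuse h).imp fun _ => And.right) fun h => (s.r.bk.fuse h).imp fun _ => And.right
  exact ⟨(r * a)⁻¹, mem_cj.2 (by simpa [mul_assoc] using h1)⟩

theorem exists_fix (h1 : φ ∈ nor A) (h2 : φ ∈ nor B) (h3 : φ * φ = 1) (h4 : φ ∉ B) :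
    ∃ a ∈ A ⊓ cen1 φ, a ∉ zc B :=
  let ⟨a, ha, h⟩ := s.c.move_a s.l.bk (s.nR_of h1) h2 (s.sg_ne h1 h2 (T2.of_sq h3) h4)
  ⟨_, ⟨cm_mem h1 ha, mem_cen1.2 (cm_comm s.t.eA h1 (h3 ▸ one_mem _) ha).symm⟩, h⟩

theorem gn_comm (ha : a ∈ A) (h : a ∉ zc B) (ha' : a' ∈ A') (h' : a' ∉ zc B) : Gn B R R' ⁅a, a'⁆ :=
  ⟨s.t.comm a ha a' ha', fun e => (s.t.reg a ha a' ha' ⟨s.t.comm a ha a' ha', e⟩).elim h h', fun e =>
    (s.r.tri.reg a' ha' a ha ⟨s.r.tri.comm a' ha' a ha, s.t.comm_inv ha ha' ▸ e⟩).elim h' h⟩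

theorem sw_inv (h : x * x = 1) (ha : a ∈ A) (hz : x * a * x⁻¹ * a' ∈ zc B)
    (e : Commute x (x * a * x⁻¹ * a')) : a * a' * x * (a * a' * x) = 1 := by
  have c1 := zcom hz (s.t.AB ha)
  have h8 := ea_sq s.eZ hz
  have h9 : a * a' * x = a * x * a⁻¹ * (x⁻¹ * (x * a * x⁻¹ * a') * x⁻¹) := by
    rw [ea_inv s.t.eA ha, inv_eq_of_mul_eq_one_right h]
    simp only [mul_assoc, ← mul_assoc x x, h, one_mul, ← mul_assoc a a, ea_sq s.t.eA ha]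
  generalize x * a * x⁻¹ * a' = w at *
  rw [e.inv_left.eq, mul_assoc w, ← mul_inv_rev, h, inv_one, mul_one] at h9
  rw [h9, ← sq, ((c1.mul_left e).mul_left c1.inv_left).mul_pow, sq w, h8, conj_pow, sq, h]
  group

theorem sw_fix (hx : x ∈ nor B) (h : x ∉ nor A) (ha : a ∈ A) (ha' : a' ∈ A')
    (e : x * (a * a') * x⁻¹ * (a * a') ∈ zc B) : x * a * x⁻¹ * a' ∈ zc B := by
  refine s.t.inf_eq.le ⟨?_, mul_mem (s.sw_mem hx h ha) ha'⟩
  have h1 := mul_mem (s.symm.sw_mem hx (s.sw_not hx h) ha') ha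
  have h2 := conj_mem_of_mem_normalizer' (s.t.nA (s.t.AB' ha')) h1
  have := mul_mem (s.t.zA e) (inv_mem h2)
  rwa [show x * (a * a') * x⁻¹ * (a * a') * (a'⁻¹ * (x * a' * x⁻¹ * a) * a')⁻¹ = x * a * x⁻¹ * a' by group]
    at this

theorem sq_Z (hb : b ∈ B) : b * b ∈ zc B := by
  obtain ⟨a, ha, a', ha', rfl⟩ := s.l.dec hb
  have := s.t.comm a ha a' ha'
  rwa [commutatorElement_def, ea_inv s.t.eA ha, ea_inv s.t.eA' ha', mul_assoc] at this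

variable (H : ∀ f, Gn B R R' f → cen1 f ≤ nor B)
include H

/-- involutions of field type are not fused into `B` -/
theorem fld_not (h1 : φ ∈ nor A) (h2 : φ ∈ nor B) (h3 : φ * φ = 1) (h4 : φ ∉ B) (g : G) :
    g * φ * g⁻¹ ∉ B := fun h => by
  obtain ⟨g, hg⟩ := s.exists_Z h3 h
  obtain ⟨g, hg, h5⟩ := s.exists_cj hg (s.t.two.to_le (inf_le_left (b := cen1 φ))) inf_le_right
  obtain ⟨a, ha, e⟩ := s.exists_fix h1 h2 h3 h4
  obtain ⟨a', ha', e'⟩ := s.symm.exists_fix (s.nA' h1 h2) h2 h3 h4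
  have h6 := s.gn_comm ha.1 e ha'.1 e'
  exact h4 (s.fb (ea_sq s.eZ h6.z) (H _ h6) (s.comm_cj (s.t.two.to_le inf_le_left) h5 ⟨s.t.AB ha.1, ha.2⟩
    ⟨s.t.AB' ha'.1, ha'.2⟩) hg)

theorem swap_case (h1 : φ ∈ nor A) (h2 : φ ∈ nor B) (h3 : φ * φ = 1) (h4 : φ ∉ B)
    (h5 : cj g (A ⊓ cen1 φ) ≤ nor B) (h6 : g * φ * g⁻¹ ∈ nor B) (h7 : g * φ * g⁻¹ ∉ nor A)
    (h8 : ¬ cj g (A ⊓ cen1 φ) ≤ zc B) : q = 4 ∧ zc B ⊓ cen R = ⊥ := by
  have hE := ea_cj (ea_mono s.t.eA (inf_le_left (b := cen1 φ))) g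
  have c1 : ∀ w ∈ cj g (A ⊓ cen1 φ), Commute (g * φ * g⁻¹) w := fun w hw => by
    simpa [mul_assoc] using (mem_cen1.1 (mem_cj.1 hw).2).symm.conj g
  have c2 : cj g (A ⊓ cen1 φ) ⊓ nor A ≤ zc B := fun w hw => s.sw_Z h6 h7 (by_contra fun e =>
    s.fld_not H hw.2 (h5 hw.1) (ea_sq hE hw.1) e g⁻¹ (by simpa using s.t.AB (mem_cj.1 hw.1).1))
    (ea_sq hE hw.1) (c1 w hw.1)
  obtain ⟨w, hw, e⟩ := SetLike.not_le_iff_exists.1 fun e : cj g (A ⊓ cen1 φ) ≤ nor A => h8 ((le_inf le_rfl e).trans c2)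
  have w1 := mem_cj.1 hw
  have k1 := s.sw_mul (h5 hw) e h6 h7
  have k2 := mul_mem (h5 hw) h6
  have k3 : w * (g * φ * g⁻¹) * (w * (g * φ * g⁻¹)) = 1 := by
    rw [← sq, (c1 w hw).symm.mul_pow, sq, sq, ea_sq hE hw, conj_sq h3, mul_one]
  have k4 : w * (g * φ * g⁻¹) ∉ B := by
    have := s.fld_not H (mul_mem (le_normalizer w1.1) h1) (mul_mem (le_normalizer (s.t.AB w1.1)) h2) (by
      rw [← sq, (mem_cen1.1 w1.2).mul_pow, sq, sq, ea_sq s.t.eA w1.1, h3, mul_one])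
      (fun h => h4 ((B.mul_mem_cancel_left (s.t.AB w1.1)).1 h)) g
    simpa [mul_assoc] using this
  have k5 := s.c.fix_z (s.nR_of k1) k2 (s.sg_ne k1 k2 (T2.of_sq k3) k4) c2 fun x hx =>
    cm_one.2 ((ea_com hE hw hx.1).mul_left (c1 x hx.1)) ▸ one_mem _
  rw [← inf_relIndex_right, show zc B ⊓ cen R ⊓ (cj g (A ⊓ cen1 φ) ⊓ nor A) = ⊥ from
    eq_bot_iff.2 fun d hd => s.sw_D_eq h6 h7 hd.1 (c1 d hd.2.1), relIndex_bot_left, s.hF] at k5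
  have k6 := card_le_two_mul (H := nor A) (K := cj g (A ⊓ cen1 φ)) fun x hx y hy e =>
    s.sw_mul (h5 hx) e (h5 hy)
  have k7 := H85.E2.card_le_sq (fun a ha => ea_sq s.t.eA ha) h1 (h3 ▸ one_mem _)
  rw [card_cj] at k6
  rw [s.t.card_A, s.cardZ] at k7
  have k8 := s.four_le
  have k9 : 0 < Nat.card ↥(zc B ⊓ cen R) := Nat.card_pos
  have k10 : q * Nat.card ↥(zc B ⊓ cen R) ≤ 4 := Nat.le_of_mul_le_mul_left (by nlinarith) (by omega : 0 < q)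
  exact ⟨by nlinarith, card_eq_one.1 (by nlinarith)⟩

/-- no elements of field type -/
theorem no_fld (hres : res 2 (⊤ : Subgroup G) = ⊤) (hg : g ∈ nor A) (hg' : g ∈ nor B) (ht : T2 g) : g ∈ B := by
  obtain ⟨U, pU, UB, U1, hT⟩ := s.exists_compl
  have hT' := (s.syl_of hT).1
  have pT := hT.isPGroup
  have dec := fun {t} => (mem_sup_right_norm UB (x := t)).1
  suffices h : ∀ u ∈ U, u ∈ nor A → u = 1 by
    obtain ⟨n, hn, h1⟩ := hT.exists_cj_le ht.isPGroup (zpowers_le.2 hg')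
    obtain ⟨b, hb, u, hu, e⟩ := dec (h1 (conj_mem_cj (mem_zpowers g)))
    have h2 := s.nA_conj hn hg hg'
    rw [e, (nor A).mul_mem_cancel_left (s.t.nA hb)] at h2
    rw [h u hu h2, mul_one] at e
    simpa only [mul_assoc, inv_mul_cancel_left, inv_mul_cancel, mul_one] using
      conj_mem_of_mem_normalizer' hn (e ▸ hb : n * g * n⁻¹ ∈ B)
  by_contra h
  obtain ⟨φ, ⟨hφ, h1⟩, h2, h3⟩ := exists_mem_pow_eq_one (pU.to_le (inf_le_left (b := nor A)))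
    fun e => h fun u hu hu' => mem_bot.1 (e ▸ mem_inf.2 ⟨hu, hu'⟩)
  rw [sq] at h3
  have h4 : φ ∉ B := fun e => h2 (U1 φ hφ e)
  have φT : φ ∈ B ⊔ U := mem_sup_right hφ
  have TT : ⁅B ⊔ U, B ⊔ U⁆ ≤ B := commutator_le.2 fun x hx y hy => s.comm_B pT hT.le hx hy
  have tr := fun D hD h0 h => H12.not_mem_res_of_extremal (D := D) (R := (B ⊔ U) ⊓ cen1 φ) hT' hD h3 φT h0
    ⟨φT, mem_cen1.2 (Commute.refl φ)⟩ (pT.to_le inf_le_left) (fun r hr => mem_cen1.1 hr.2) h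
    (hres.ge (mem_top φ))
  have xT : ∀ {g}, cj g ((B ⊔ U) ⊓ cen1 φ) ≤ B ⊔ U → g * φ * g⁻¹ ∈ B ⊔ U := fun h =>
    h (conj_mem_cj ⟨φT, mem_cen1.2 (Commute.refl φ)⟩)
  refine tr B TT h4 fun g hg => ?_
  by_cases e : g * φ * g⁻¹ ∈ nor A
  · exact s.fld_mul pT hT.le (xT hg) φT e h1 (conj_sq h3 g ▸ B.one_mem) (h3 ▸ B.one_mem)
      (s.fld_not H h1 (UB hφ) h3 h4 g) h4
  have x2 := hT.le (xT hg)
  have k : ∀ {E}, E ≤ B → cj g (E ⊓ cen1 φ) ≤ nor B := fun h =>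
    ((cj_mono g (inf_le_inf_right _ (h.trans le_sup_left))).trans hg).trans hT.le
  obtain ⟨a, ha, ea⟩ := s.exists_fix h1 (UB hφ) h3 h4
  obtain ⟨hq, hD⟩ : q = 4 ∧ zc B ⊓ cen R = ⊥ := by
    by_cases e1 : cj g (A ⊓ cen1 φ) ≤ zc B
    · refine (s.symm.swap_case (fun f hf => H f hf.symm) (s.nA' h1 (UB hφ)) (UB hφ) h3 h4 (k s.t.AB') x2
        (s.sw_not x2 e) fun e2 => ?_).imp_right s.symm.D_bot
      obtain ⟨a', ha', ea'⟩ := s.symm.exists_fix (s.nA' h1 (UB hφ)) (UB hφ) h3 h4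
      exact ea (s.t.mem_Z ha.1 ha'.1 ea' (by
        simpa [mul_assoc] using (ea_com s.eZ (e1 (conj_mem_cj ha)) (e2 (conj_mem_cj ha'))).conj g⁻¹))
    · exact s.swap_case H h1 (UB hφ) h3 h4 (k s.t.AB) x2 e e1
  obtain ⟨b, hb, y, hy, e1⟩ := dec (xT hg)
  rw [e1, (nor A).mul_mem_cancel_left (s.t.nA hb)] at e
  have φZ : φ ∉ cen (zc B) := fun h => h4 (s.l.mem_B_of_cen (s.nR_of h1) (UB hφ) (T2.of_sq h3) h)
  refine (tr _ (TT.trans (H52.le_cent_zc B)) φZ fun g hg => s.mv_mul hD pT hT.le (xT hg) φT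
    (conj_sq h3 g ▸ one_mem _) (h3 ▸ one_mem _) (fun h5 => ?_) φZ).elim
  have x2 := hT.le (xT hg)
  have h6 : g * φ * g⁻¹ ∉ nor A := fun h => s.fld_not H h1 (UB hφ) h3 h4 g
    (s.l.mem_B_of_cen (s.nR_of h) x2 (T2.of_sq (conj_sq h3 g)) h5)
  have y1 : y ∈ (B ⊔ U) ⊓ cen1 φ := ⟨mem_sup_right hy, mem_cen1.2 (cm_one.1 (U1 _ (cm_mem (le_normalizer hy) hφ)
    (TT (commutator_mem_commutator (mem_sup_right hy) φT))))⟩
  have a1 : a ∈ (B ⊔ U) ⊓ cen1 φ := ⟨mem_sup_left (s.t.AB ha.1), ha.2⟩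
  have h7 := TT (commutator_mem_commutator (hg (conj_mem_cj y1)) (hg (conj_mem_cj a1)))
  have h8 : Commute (g * φ * g⁻¹) ⁅g * y * g⁻¹, g * a * g⁻¹⁆ := by
    simpa [commutatorElement_def, mul_assoc] using
      (mem_cen1.1 (cm_mem (le_normalizer y1.2) a1.2)).symm.conj g
  obtain ⟨u, hu, u', hu', e2⟩ := s.l.dec h7
  have h9 := s.sw_fix x2 h6 hu hu' (by rw [← e2, h8.eq, mul_inv_cancel_right]; exact s.sq_Z h7)
  have h10 := s.sw_inv (conj_sq h3 g) hu h9 (com h5 h9).symm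
  rw [← e2, ← sq, h8.symm.mul_pow, sq, sq, conj_sq h3, mul_one, ← conjugate_commutatorElement] at h10
  exact ea (s.sw_sq (UB hy) e ha.1 (by simpa using h10))

omit H in
theorem idx_two (N : ∀ g ∈ nor A, g ∈ nor B → T2 g → g ∈ B) (hP : IsPGroup 2 P) (h : P ≤ nor (cj g B))
    (hx : x ∈ P) (hy : y ∈ P) (e : x ∉ cj g B) (e' : y ∉ cj g B) : x * y ∈ cj g B := by
  rw [nor, ← cj_normalizer] at h
  have k : ∀ {x}, x ∈ P → g⁻¹ * x * g ∈ nor A → x ∈ cj g B := fun hx h1 => mem_cj.2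
    (N _ h1 (mem_cj.1 (h hx)) (T2.of_mem (isPGroup_cj g⁻¹ hP) (by simpa using conj_mem_cj (g := g⁻¹) hx)))
  exact k (mul_mem hx hy) (by
    simpa [mul_assoc] using s.sw_mul (mem_cj.1 (h hx)) (mt (k hx) e) (mem_cj.1 (h hy)) (mt (k hy) e'))

/-- `B` is a Sylow subgroup -/
theorem syl_B (hres : res 2 (⊤ : Subgroup G) = ⊤) : IsSyl 2 B ⊤ := by
  obtain ⟨U, pU, UB, U1, hT⟩ := s.exists_compl
  have hT' := (s.syl_of hT).1
  have pT := hT.isPGroup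
  have N := fun g => s.no_fld H hres (g := g)
  by_contra h0
  obtain ⟨y, hy, h2, h3⟩ := exists_mem_pow_eq_one pU fun e => h0 (by rwa [e, sup_bot_eq] at hT')
  rw [sq] at h3
  have h4 : y ∉ B := fun e => h2 (U1 y hy e)
  have yB := UB hy
  have h5 : y ∉ nor A := fun e => h4 (N y e yB (T2.of_sq h3))
  have yT : y ∈ B ⊔ U := mem_sup_right hy
  refine H12.not_mem_res_of_extremal hT' (commutator_le.2 fun x hx y hy => s.comm_B pT hT.le hx hy) h3 yT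
    h4 (mem_zpowers y) (two_zpowers h3) (fun r ⟨n, e⟩ => e ▸ ((Commute.refl y).zpow_left n).eq)
    (fun g hg => ?_) (hres.ge (mem_top y))
  have xT := hg (conj_mem_cj (mem_zpowers y))
  refine N _ (s.sw_mul (hT.le xT) (fun e => ?_) yB h5) (hT.le (mul_mem xT yT)) (T2.of_mem pT (mul_mem xT yT))
  obtain ⟨g, hg⟩ := s.exists_Z h3 (N _ e (hT.le xT) (T2.of_mem pT xT))
  have pP := s.t.two.to_le (inf_le_left (b := cen1 y))
  obtain ⟨g, hg, h6⟩ := s.exists_cj hg pP inf_le_right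
  have k : ∀ w ∈ zc B, Commute y w → w ∈ cj g B → w = 1 := fun w hw e h => by_contra fun e' =>
    h4 (s.fb (ea_sq s.eZ hw) (H w ⟨hw, fun h => e' (s.sw_D_eq yB h5 ⟨hw, h⟩ e),
      fun h => e' (s.symm.sw_D_eq yB (s.sw_not yB h5) ⟨hw, h⟩ e)⟩) h hg)
  obtain ⟨a, ha, h7⟩ := s.t.exists_not_mem
  have b1 := cm_mem yB (s.t.AB ha)
  have b2 := s.sq_Z b1
  have b3 := mt (s.sw_sq yB h5 ha) h7
  have b4 : y * ⁅y, a⁆ * y⁻¹ = ⁅y, a⁆⁻¹ := by
    simp only [commutatorElement_def, ea_inv s.t.eA ha, inv_eq_of_mul_eq_one_right h3, mul_inv_rev, mul_assoc,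
      ← mul_assoc y y, h3, one_mul]
  set b := ⁅y, a⁆
  have b5 : Commute y (b * b) := by
    rw [Commute, SemiconjBy, ← mul_inv_eq_iff_eq_mul, ← conj_mul, b4, ← mul_inv_rev, ea_inv s.eZ b2]
  have b6 := mt (k _ b2 b5) b3
  have k' : ∀ w ∈ zc B, Commute y w → w ≠ 1 → w = b * b := fun w hw e h => by
    rw [← ea_inv s.eZ b2, ← mul_eq_one_iff_eq_inv]
    exact k _ (mul_mem hw b2) (e.mul_right b5) (s.idx_two N pP h6 ⟨hw.1, mem_cen1.2 e.symm⟩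
      ⟨b2.1, mem_cen1.2 b5.symm⟩ (mt (k w hw e) h) b6)
  obtain ⟨z, hz, h8⟩ : ∃ z ∈ zc B, ¬ Commute y z := by
    by_contra! h8
    have := card_le_two_mul (H := ⊥) (K := zc B) fun u hu v hv e e' => by
      rw [k' u hu (h8 u hu) e, k' v hv (h8 v hv) e', ea_sq s.eZ b2]; exact one_mem _
    rw [inf_bot_eq, card_bot, s.cardZ] at this
    have := s.hq
    have : 0 < Nat.card ↥(zc B ⊓ cen R) := Nat.card_pos
    nlinarith
  have h9 := k' _ (cm_mem (Co.nZ yB) hz) (cm_comm s.eZ (Co.nZ yB) (h3 ▸ one_mem _) hz) (mt cm_one.1 h8)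
  have h10 : b * z ∈ B ⊓ cen1 y := ⟨mul_mem b1 hz.1, mem_cen1.2 (Commute.symm (by
    rw [Commute, SemiconjBy, ← mul_inv_eq_iff_eq_mul, ← conj_mul, b4,
      show y * z * y⁻¹ = ⁅y, z⁆ * z by group, h9]
    group))⟩
  refine b6 ?_
  rw [show b * b = b * z * (b * z) by rw [← sq (b * z), (zcom hz b1).mul_pow, sq z, ea_sq s.eZ hz, sq, mul_one]]
  exact by_contra fun h => h (s.idx_two N pP h6 h10 h10 (fun e => h (mul_mem e e)) fun e => h (mul_mem e e))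

end WS

end H96.H97.QU
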