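import Cfsg.Agent.H96.QUJA1
import Cfsg.Agent.H96.QUTW

/-! Tower QU, job JA3: one class of sides over a witness. -/

set_option autoImplicit false

namespace H96.H97.QU

open Subgroup Cfsg _root_.H98 _root_.H96 _root_.H96.CG H98.H96.CG _root_.H97.QU
open H52 (Vv Cv zc)
open scoped commutatorElement

universe u

variable {G : Type u} [Group G] [Finite G] {q s : ℕ} {B R A A' M S T P X : Subgroup G} {g t z : G}

/-- the Baumann subgroup of a 2-overgroup normalising the block -/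
theorem bmP_of (k : Bk q B R A A') (hS : IsSyl 2 S (nor A)) (e : bm 2 S = B) (hP : IsPGroup 2 P) (h1 : B ≤ P)
    (h2 : P ≤ nor R) : bm 2 P = B := by
  have h3 : bm 2 (P ⊓ nor B) = B := e ▸ hS.bm_eq (hP.to_le inf_le_left) (e ▸ le_inf h1 le_normalizer)
    fun g hg => k.nA (h2 hg.1) (e ▸ hg.2)
  by_cases h : P ⊓ nor B < P
  · have h4 := le_normalizer_bm (p := 2) (le_refl (nor (P ⊓ nor B)))
    rw [h3] at h4
    exact ((lt_inf_normalizer hP h).not_ge (inf_le_inf_left P h4)).elim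
  · rwa [eq_of_le_of_not_lt inf_le_left h] at h3

namespace WA

variable (w : WA M S q R A A' t)
include w

theorem SB : S ≤ nor (bm 2 S) := le_normalizer_bm le_normalizer

theorem tB : t ∈ nor (bm 2 S) := le_normalizer_bm le_rfl w.tS

theorem lt : S < S ⊔ zpowers t := left_lt_sup.2 fun e => w.ns t (zpowers_le.1 e) w.sw

theorem nS : S ⊔ zpowers t ≤ nor S := sup_le le_normalizer (zpowers_le.2 w.tS)

theorem t2 (hS : IsPGroup 2 S) : T2 t := by
  obtain ⟨k, e⟩ := T2.of_mem hS w.tt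
  exact ⟨k + 1, by rw [pow_succ', pow_mul, sq, e]⟩

theorem two (hS : IsPGroup 2 S) : IsPGroup 2 ↥(S ⊔ zpowers t) :=
  (two_sup hS (t2 w hS).isPGroup (zpowers_le.2 w.tS))

theorem jtS : jt 2 S = bm 2 S := (jt_bm S).symm.trans w.cl.jt_B

end WA

/-- a 2-central involution in the centre of a good subgroup -/
theorem Kit.exists_tc (kit : Kit M s) (hS : Good M S) : ∃ z, TC z ∧ z ∈ zc S ∧ z ∈ zc (bm 2 S) := by
  obtain ⟨T, hT, h1, h2⟩ := kit.up S hS.two hS.le
  have h3 : T ≠ ⊥ := fun e => kit.o2 (eq_bot_iff.2 ((hT.of_le h2 le_top).pCoreOf_le.trans e.le))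
  obtain ⟨z, hz, z1⟩ := (bot_or_exists_ne_one _).resolve_left (oz_ne_bot hT.isPGroup h3)
  obtain ⟨e1, e2, e3⟩ := mem_oz.1 hz
  have h4 := kit.good_z S T hS hT h1 h2 ⟨e1, e2⟩
  refine ⟨z, ⟨by rwa [← sq], z1, T, hT, e1, e2⟩, ⟨h4, centralizer_anti h1 e2⟩, ?_,
    centralizer_anti ((bm_le S).trans h1) e2⟩
  rw [bm_eq]
  exact ⟨h4, centralizer_anti (((oz_le _).trans (jt_le S)).trans h1) e2⟩

theorem jobA3 : JA3.{u} := fun G _ _ M S X R A A' s q t kit x c w gen => by
  have k := w.bk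
  have SA : S ≤ nor A := fun u hu => by
    rcases k.tri.op.cmp (k.tri.op.cj_of_mem (WA.SB w hu)) with e | e | e
    · exact cj_eq_self_iff.1 e.1
    · exact (w.ns u hu e.1).elim
    · exact (k.tri.op.of_sup gen (k.tri.op.cj_of_mem (WA.SB w hu)) e).elim
  obtain ⟨z, hz, -, hz'⟩ := Kit.exists_tc kit x.good
  have cA := kit.tcD z A hz (H12.ea_isPGroup k.tri.eA) (k.tri.zA hz')
  have x' := (kit.wit_of S _ x.good c.ge SA cA fun e => w.nM (k.RA.trans e)).1
  have nA := luA (Kit.cx kit x' c) le_rfl k.RA k w.nM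
  have u : UW q (bm 2 S) R A A' := ⟨k, gen, nA, fun P => bmP_of k x'.syl rfl⟩
  have l2 : S ⊔ zpowers t ≤ M := sup_le x.good.le (zpowers_le.2 w.tM)
  refine ⟨⟨u, WA.tB w, WA.t2 w x.good.two, w.sw, ?_⟩, kit.res, UW.cen_A u cA, kit.chM, by_contra fun n => ?_,
    kit.tcD z _ hz (H12.ea_isPGroup k.tri.eZ) hz', kit.cz⟩
  · refine Kit.nobot kit x' c k.RA w.nM (WA.two w x.good.two) (WA.lt w) l2
      ((H12.ea_isPGroup k.tri.eZ).to_le (inf_le_left.trans inf_le_left))
      ((cen_symm (inf_le_left.trans inf_le_right)).trans (centralizer_le_normalizer _))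
      (sup_le (le_normalizer_inf (le_normalizer_inf (H52.n_zc (WA.SB w)) (le_normalizer_centralizer (SA.trans nA)))
        (le_normalizer_centralizer ?_)) (zpowers_le.2 (cj_eq_self_iff.1 ?_)))
    · rw [← cj_normalizer, ← cj_eq_self w.tS]
      exact cj_mono t (SA.trans nA)
    · rw [cj_inf, cj_inf, cj_centralizer, cj_centralizer, cj_cj, cj_eq_self (H52.n_zc le_rfl (WA.tB w)),
        cj_eq_self (nA (SA w.tt)), inf_right_comm]
  · exact (card_lt_of_lt (WA.lt w)).ne' ((kit.wit_of _ _ (kit.good_up S _ x.good (WA.two w x.good.two) le_sup_left l2)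
      (c ▸ (card_lt_of_lt (WA.lt w)).le) (le_normalizer_bm (WA.nS w))
      (kit.good_ch _ _ w.wit.good le_normalizer le_rfl) n).2.trans c.symm)

end H96.H97.QU
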