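import Cfsg.Agent.H97.QULib
import Cfsg.Agent.S0205

/-! Tower QU, job JK2a: the global `C*(G,T)` reduction with a group of automorphisms. -/

set_option autoImplicit false
set_option linter.style.haveILetI false

namespace H96.H97.QU

open Subgroup Cfsg _root_.H98 _root_.H96 _root_.H96.CG H98.H96.CG _root_.H97.QU
open H52 (Vv Cv zc)
open scoped commutatorElement

universe u

section Map

variable {G G' : Type u} [Group G] [Group G'] {q : ℕ} {B R A A' L Y X C : Subgroup G} {f : G →* G'}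

theorem map_le_cen_iff (hf : Function.Injective f) : X.map f ≤ cen (Y.map f) ↔ X ≤ cen Y :=
  ⟨H52.le_centralizer_of_map hf, map_le_centralizer_map f⟩

theorem map_le_nor_iff (hf : Function.Injective f) : X.map f ≤ nor (Y.map f) ↔ X ≤ nor Y :=
  ⟨H52.le_normalizer_of_map hf, map_le_normalizer_map f⟩

theorem char_map (φ : G ≃* G) (e : B.map φ.toMonoidHom = B) (h : C ≤ B) (hC : (C.subgroupOf B).Characteristic) :
    C.map φ.toMonoidHom = C := by
  refine Eq.trans ?_ (au_char ((φ.subgroupMap B).trans (MulEquiv.subgroupCongr e)) h hC)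
  conv_lhs => rw [← map_subgroupOf_eq_of_le h, map_map]
  rfl

variable [Finite G] [Finite G']

theorem yd_map (hf : Function.Injective f) (y : YD 2 q B L Y) : YD 2 q (B.map f) (L.map f) (Y.map f) := by
  have e1 := map_pCoreOf_of_injective (p := 2) hf
  have e2 := fun X => map_res (p := 2) f X
  refine ⟨y.vtx.map hf, y.syl.map_of_injective hf, e2 L ▸ block_map hf y.blk, H12.ea_map y.ea f,
    by rw [← e1, ← Subgroup.map_sup, y.gen], ?_, ?_, ?_, fun h => ?_, ?_⟩
  · rintro _ ⟨⟨x, hx, rfl⟩, h⟩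
    rw [← H52.map_Vv hf, ← H52.map_Cv hf] at h
    refine e1 L ▸ mem_map_of_mem f (y.stb ⟨hx, zpowers_le.1 ((map_le_nor_iff hf).1 ?_), fun c hc =>
      (mem_map_iff_mem hf).1 ?_⟩)
    · rw [MonoidHom.map_zpowers]; exact zpowers_le.2 h.1
    · rw [map_commutatorElement]; exact h.2 _ (mem_map_of_mem f hc)
  · rw [← e2, ← e1, ← map_inf_centralizer hf, ← map_inf_centralizer hf, ← H52.map_Vv hf, ← Subgroup.map_sup]
    exact map_mono y.y1
  · rw [← e2, ← e1, ← map_inf_centralizer hf, ← map_commutator]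
    exact map_le_centralizer_map f y.y2
  · rw [← map_inf_centralizer hf, ← H52.map_Vv hf, ← Subgroup.map_sup]
    exact map_mono (y.y3 h)
  · rw [← e2, ← e1, ← e1, ← map_commutator]
    exact map_le_centralizer_map f y.y4

theorem bk_map (hf : Function.Injective f) (k : Bk q B R A A') :
    Bk q (B.map f) (R.map f) (A.map f) (A'.map f) := by
  obtain ⟨L, Y, y, rfl, rfl, rfl⟩ := k
  exact ⟨_, _, yd_map hf y, map_res f L, H52.map_Vv hf L, by rw [Subgroup.map_sup, map_zc hf]⟩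

theorem uno_map (φ : G ≃* G') (u : Uno q B R A A') :
    Uno q (B.map φ.toMonoidHom) (R.map φ.toMonoidHom) (A.map φ.toMonoidHom) (A'.map φ.toMonoidHom) := by
  have sur : ∀ D : Subgroup G', ∃ D₀ : Subgroup G, D₀.map φ.toMonoidHom = D := fun D =>
    ⟨_, map_comap_eq_self_of_surjective φ.surjective D⟩
  have hf : Function.Injective φ.toMonoidHom := φ.injective
  refine ⟨bk_map hf u.bk, by rw [← Subgroup.map_sup, u.gen], fun D h1 h2 h3 h4 => ?_, fun P h1 h2 h3 => ?_⟩
  · obtain ⟨D, rfl⟩ := sur D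
    obtain ⟨⟨h5, T, h6, h7⟩, h8⟩ := u.sb D (isPGroup_of_map_injective hf h1) (fun e => h2 (by rw [e, Subgroup.map_bot]))
      ((map_le_nor_iff hf).1 h3) ((map_le_nor_iff hf).1 h4)
    rw [nor, nor, ← map_equiv_normalizer_eq, ← map_equiv_normalizer_eq]
    exact ⟨⟨h5.map _, _, h6.map_of_injective hf, block_map hf h7⟩, map_mono h8⟩
  · obtain ⟨P, rfl⟩ := sur P
    rw [← map_bm hf, u.bmP P (isPGroup_of_map_injective hf h1) ((map_le_map_iff_of_injective hf).1 h2)
      ((map_le_nor_iff hf).1 h3)]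

end Map

section Aut

variable {G : Type u} [Group G] [Finite G] {T M : Subgroup G} {Φ : Set (G ≃* G)}

/-- the reduction in the presence of a set of automorphisms -/
theorem aut_main (h : Amb G) (hT : IsSyl 2 T ⊤) (h0 : T ≠ ⊥) (hM : M ≠ ⊤) (hΦ : ∀ φ ∈ Φ, T.map φ.toMonoidHom = T)
    (β : ∀ D : Subgroup G, IsPGroup 2 D → D ≠ ⊥ → (∀ φ ∈ Φ, D.map φ.toMonoidHom = D) → nor D ≤ M) :
    SE G ∨ Four G ∨ ∃ q R R' A A', ∃ φ ∈ Φ, TB q T R R' A A' ∧ 2 < q ∧ ¬ R ≤ M ∧ A.map φ.toMonoidHom = A' := by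
  have c : Cst T M := ⟨(centralizer_le_normalizer _).trans (β _ (H12.ea_isPGroup (ea_oz T))
    (oz_ne_bot hT.isPGroup h0) fun φ e => by rw [map_oz φ.injective, hΦ φ e]), fun C h1 h2 h3 =>
    β C (hT.isPGroup.to_le (h1.trans (bm_le T))) h2 fun φ e =>
      char_map φ (by rw [map_bm φ.injective, hΦ φ e]) h1 h3⟩
  have j2 := H57.CGQ.jobQ2.{u}
  rcases stage jobCo jobJ j2 h hT c hM with e | e | ⟨q, B, R, A, A', T₁, s, cl, k, hR, hq, h1, h2, H⟩
  · exact .inl e
  · exact .inr (.inl e)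
  rcases or_assoc.2 H with H | sg
  swap
  · rcases rerun jobCo jobJ j2 h h1 sg.cst (h.nor_ne sg.W_two sg.W_ne) h2 with
      e | e | ⟨q₁, R₁, A₁, A₁', k₁, n, l, -⟩
    · exact .inl e
    · exact .inr (.inl e)
    refine (n fun g hg => nor_Wb fun R₂ h₂ => ?_).elim
    obtain ⟨A₂, A₂', k₂⟩ := sg.bk h₂
    rwa [cj_eq_self (LU.le_nor cl sg.k2 (sg.lu h₂) l k₂ k₁ hg)]
  have u₀ : Uno q B R A A' := H.elim (fun ⟨_, t⟩ => t.l) fun n => n.toUno
  subst h2
  obtain ⟨g, hg, rfl⟩ := (h1.of_le ((le_normalizer_jt le_normalizer).trans s.nB) le_top).exists_cj_eq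
    (hT.of_le (c.le hT.isPGroup hM) le_top)
  have u := u₀.cj g
  rw [cj_jt] at u
  have hR' : ¬ cj g R ≤ M := fun e => hR ((cj_le_iff.1 e).trans (cj_eq_self_of_mem (inv_mem hg)).le)
  generalize cj g R = R, cj g A = A, cj g A' = A', cj g T₁ = T at *
  have hB : ∀ φ ∈ Φ, (jt 2 T).map φ.toMonoidHom = jt 2 T := fun φ e => by
    rw [H12.map_thompsonSubgroupOf _ _ φ.injective, hΦ φ e]
  obtain ⟨φ, hφ, e⟩ : ∃ φ ∈ Φ, A.map φ.toMonoidHom = A' := by
    by_contra! n
    exact hR' (u.bk.RA.trans (β A (H12.ea_isPGroup u.tri.eA) u.A_ne fun φ e =>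
      (u.max_or (H12.mem_maxEA_of_card_le u.maxA ((map_mono u.tri.AB).trans (hB φ e).le) (H12.ea_map u.tri.eA _)
        (card_map_of_injective φ.injective).ge)).resolve_right (n φ e)))
  have u' := uno_map φ u
  rw [hB φ hφ, e] at u'
  have tb : TB q _ R _ A A' := ⟨u, u.bk.tri.symm.opp_eq u'.bk.tri ▸ u'⟩
  have e' := ((syl_of_tb h hq tb ⟨β _ u.tri.two u.B_ne hB, hR', s.g0⟩).eq_of_le hT.isPGroup (jt_le T) le_top).symm
  rw [e'] at tb
  exact .inr (.inr ⟨q, R, _, A, A', φ, hφ, tb, hq, hR', e⟩)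

end Aut

section Hat

variable {X : Type u} [Group X] {K S M : Subgroup X} {z : X}

theorem map_conjNormal [K.Normal] (t : X) (D : Subgroup K) :
    (D.map (MulAut.conjNormal t : K ≃* K).toMonoidHom).map K.subtype = cj t (D.map K.subtype) := by
  rw [map_map, cj, map_map]; rfl

variable [Finite X] (h : Hat K S M z)
include h

theorem Hat.sylK : IsSyl 2 (S ⊓ K) K := h.syl.inf_of_le_normalizer le_top (le_top.trans h.nK)

theorem Hat.ne_bot : S ⊓ K ≠ ⊥ := fun e => by
  haveI := h.simple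
  exact h.nab ⟨⟨IsSimpleGroup.comm_iff_isSolvable.2 (Cfsg.Agent.S0205.result
    (Nat.odd_iff.2 (Nat.two_dvd_ne_zero.1 (h.sylK.eq_bot_iff.1 e))))⟩⟩

/-- an `S`-invariant subgroup of `K` of characteristic two lies in `M` -/
theorem Hat.beta' {Y : Subgroup X} (h1 : S ⊓ K ≤ Y) (h2 : Y ≤ K) (h3 : S ≤ nor Y) (h4 : CharP 2 Y) : Y ≤ M :=
  le_sup_right.trans (h.beta (Y := S ⊔ Y) le_sup_left (h4.of_res_le (res_sup_le_right h.syl.isPGroup h3) le_sup_right))

end Hat

theorem jobK2a : JK2a.{u} := fun X _ _ K S M z h amb => by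
  haveI := normal_of_top_le_normalizer h.nK
  have eS : (S.subgroupOf K).map K.subtype = S ⊓ K := subgroupOf_map_subtype S K
  have inj := map_injective K.subtype_injective
  have key : ∀ (D : Subgroup K) (t : X), D.map (MulAut.conjNormal t : K ≃* K).toMonoidHom = D ↔
      t ∈ nor (D.map K.subtype) := fun D t => by
    rw [← cj_eq_self_iff, ← map_conjNormal, inj.eq_iff]
  refine (aut_main (T := S.subgroupOf K) (M := M.subgroupOf K) (Φ := {φ | ∃ t ∈ S, φ = MulAut.conjNormal t}) amb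
    (by rw [← inf_subgroupOf_right]; exact h.sylK.subgroupOf_top) (fun e => h.ne_bot (by rw [← eS, e, Subgroup.map_bot]))
    (fun e => h.KM (subgroupOf_eq_top.1 e)) ?_ fun D h1 h2 h3 => ?_).imp_right (Or.imp_right ?_)
  · rintro _ ⟨t, ht, rfl⟩
    rw [key, eS]
    exact le_normalizer_inf le_normalizer (le_top.trans h.nK) ht
  · have h4 : S ≤ nor (D.map K.subtype) := fun t ht => (key D t).1 (h3 _ ⟨t, ht, rfl⟩)
    have e : (nor D).map K.subtype = K ⊓ nor (D.map K.subtype) := le_antisymm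
      (le_inf (map_subtype_le _) (map_le_normalizer_map _ le_rfl)) fun x hx => ⟨⟨x, hx.1⟩,
        zpowers_le.1 ((map_le_nor_iff K.subtype_injective).1 (by
          rw [MonoidHom.map_zpowers]; exact zpowers_le.2 hx.2)), rfl⟩
    exact map_le_iff_le_comap.1 (h.beta' (e ▸ le_inf inf_le_right (inf_le_left.trans h4)) (map_subtype_le _)
      (e ▸ le_normalizer_inf (le_top.trans h.nK) (le_normalizer_of_le h4))
      ((amb.loc D h1 h2).map_of_injective K.subtype_injective))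
  · rintro ⟨q, R, R', A, A', _, ⟨t, ht, rfl⟩, tb, hq, hR, e⟩
    exact ⟨q, R, R', A, A', t, amb, tb, hq, fun e => hR (map_le_iff_le_comap.1 e), ht,
      by rw [← map_conjNormal, e]⟩

end H96.H97.QU
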