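import Cfsg.Agent.H96.QUTool

/-! Tower QU, job JK2b: two opposite blocks in the almost simple group. -/

set_option autoImplicit false
set_option linter.style.haveILetI false

namespace H96.H97.QU

open Subgroup Cfsg _root_.H98 _root_.H96 _root_.H96.CG H98.H96.CG _root_.H97.QU
open H52 (Vv Cv zc)
open scoped commutatorElement

universe u

variable {G : Type u} [Group G]

/-- one side of the configuration, seen in an overgroup -/
structure PW (q : ℕ) (B R A A' : Subgroup G) : Prop where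
  bk : Bk q B R A A'
  gen : A ⊔ A' = B
  nA : nor A ≤ nor R
  cA : B ⊓ cen A = A
  V : pCoreOf 2 R = A
  BR : B ≤ R
  hq : 2 < q

variable [Finite G] {q : ℕ} {B R R' A A' P E K : Subgroup G} {c g w : G}

namespace PW

variable (l : PW q B R A A')
include l

theorem fix (hc : c ∈ cen B) (h2 : T2 c) : ∃ d ∈ zc B, c * d ∈ cen R := by
  have t := l.bk.tri
  have cA := centralizer_anti t.AB hc
  have h1 : A ⊔ zpowers c ≤ cen A := sup_le (H12.ea_le_centralizer t.eA) (zpowers_le.2 cA)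
  have h3 : ⁅A ⊔ zpowers c, R⁆ ≤ A := (l.bk.comm_V ((h1.trans (centralizer_le_normalizer _)).trans l.nA)
    (l.V.symm ▸ h1)).trans l.V.le
  have h4 : A ⊔ zpowers c ≤ cen (A ⊔ zpowers c) := by
    rw [cen, centralizer_sup]
    exact le_inf h1 (sup_le (cen_symm (zpowers_le.2 cA)) (cen_symm (zpowers_le.2 (mem_cen.2 fun y hy => by
      obtain ⟨n, rfl⟩ := hy; exact (Commute.refl c).zpow_left n))))
  have h5 := mem_centralizer_sup_of_index (W := A) (two_sup (H12.ea_isPGroup t.eA) h2.isPGroup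
    (zpowers_le.2 (centralizer_le_normalizer _ cA))) h4 (nor_of_comm (h3.trans le_sup_left))
    (l.bk.syl.of_le l.BR le_sup_left).not_dvd_relIndex (mem_sup_right (mem_zpowers c)) hc fun r hr => by
      rw [← commutatorElement_inv]
      exact inv_mem (h3 (commutator_mem_commutator (mem_sup_right (mem_zpowers c)) hr))
  obtain ⟨n, hn, a, ha, rfl⟩ := (mem_sup_right_norm ((le_sup_left.trans h4).trans
    ((centralizer_anti inf_le_left).trans (centralizer_le_normalizer _)))).1 h5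
  refine ⟨a⁻¹, inv_mem (mem_inf.2 ⟨t.AB ha, ?_⟩), by simpa using hn.2⟩
  simpa using mul_mem (inv_mem (centralizer_anti l.BR hn.2)) hc

theorem nR (hg : g ∈ nor B) (h : g ∈ nor R) : g ∈ nor A ∧ g ∈ nor A' := ⟨l.bk.nA h hg, l.bk.nA' h hg⟩

variable (r : PW q B R' A' A)
include r

/-- an element of `c Z` centralising both blocks -/
theorem fix2 (hc : c ∈ cen B) (h2 : T2 c)
    (dec : zc B ⊓ cen R ≠ ⊥ → ∀ z ∈ zc B, ∃ d ∈ zc B ⊓ cen R, d⁻¹ * z ∈ zc B ⊓ cen R') :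
    ∃ d ∈ zc B, c * d ∈ cen R ∧ c * d ∈ cen R' := by
  obtain ⟨d, hd, e⟩ := l.fix hc h2
  obtain ⟨d', hd', e'⟩ := r.fix hc h2
  have hz := mul_mem (inv_mem hd) hd'
  by_cases hD : zc B ⊓ cen R = ⊥
  · obtain ⟨h, h1, h2, h3⟩ := r.bk.torus jobCo r.hq
    have nR := normalizer_le_normalizer_centralizer R (l.nA (r.nR h2 (le_normalizer h1)).2)
    have nZ := H52.n_zc le_rfl h2
    have e1 : (c * d)⁻¹ * (h * (c * d) * h⁻¹) = ⁅h, d⁻¹ * d'⁆⁻¹ * 1 := by
      have f1 := (com e' h1).eq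
      have f2 := (zcom hz (conj_mem_of_mem_normalizer nZ (inv_mem hz)).1).eq
      calc _ = (c * d)⁻¹ * (h * (c * d') * h⁻¹) * (h * (d⁻¹ * d')⁻¹ * h⁻¹) := by group
        _ = d⁻¹ * d' * (h * (d⁻¹ * d')⁻¹ * h⁻¹) := by rw [f1]; group
        _ = _ := by rw [commutatorElement_def]; group
    have e2 : ⁅h, d⁻¹ * d'⁆ = 1 := inv_eq_one.1 (mem_bot.1 (hD.le (mem_inf.2 ⟨inv_mem (cm_mem nZ hz), by
      rw [← mul_one ⁅h, _⁆⁻¹, ← e1]
      exact mul_mem (inv_mem e) (conj_mem_of_mem_normalizer nR e)⟩)))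
    exact ⟨d, hd, e, by simpa [mul_assoc] using mul_mem e' (inv_mem (h3 _ hz (e2 ▸ one_mem _)))⟩
  · obtain ⟨x, hx, f⟩ := dec hD _ hz
    refine ⟨d * x, mul_mem hd hx.1, mul_assoc c d x ▸ mul_mem e hx.2, ?_⟩
    simpa [mul_assoc] using mul_mem e' (inv_mem f.2)

theorem invol (hb : g ∈ B) (h : g * g = 1) : g ∈ A ∨ g ∈ A' :=
  (l.bk.tri.invol hb h).imp (fun e => l.cA.le ⟨hb, e⟩) fun e => r.cA.le ⟨hb, e⟩

/-- the centraliser of `B` in a 2-group -/
theorem cb [IsSimpleGroup K] (hK : ¬ IsMulCommutative K) (nK : ⊤ ≤ nor K) (cK : cen K = ⊥) (hB : IsSyl 2 B K)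
    (h1 : R ≤ K) (h2 : R' ≤ K) (dd : ∀ d ∈ zc B, d ∈ cen R → d ∈ cen R' → d = 1)
    (dec : zc B ⊓ cen R ≠ ⊥ → ∀ z ∈ zc B, ∃ d ∈ zc B ⊓ cen R, d⁻¹ * z ∈ zc B ⊓ cen R')
    (sw : ∀ n ∈ nor B, cj n R = R ∧ cj n R' = R' ∨ cj n R = R' ∧ cj n R' = R)
    (hP : IsPGroup 2 P) (BP : B ≤ P) : P ⊓ cen B ≤ B := by
  have PK : P ⊓ K = B := hB.eq_of_le (hP.to_le inf_le_left) (le_inf BP hB.le) inf_le_right
  by_contra n
  obtain ⟨c, hc, e1, -, e3⟩ := exists_step (hP.to_le (inf_le_left : P ⊓ cen B ≤ P))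
    (inf_lt_left.2 n : P ⊓ cen B ⊓ B < _)
  obtain ⟨d, hd, f1, f2⟩ := l.fix2 r hc.2 (T2.of_mem hP hc.1) dec
  have wB : c * d ∉ B := fun e => e1 ⟨hc, by simpa using mul_mem e (inv_mem hd.1)⟩
  have wP : c * d ∈ P := mul_mem hc.1 (BP hd.1)
  have w2 : c * d * (c * d) = 1 := dd _ (by
    rw [show c * d * (c * d) = c * (d * c) * d by group, (com hc.2 hd.1).eq, ← mul_assoc, mul_assoc _ d d]
    exact mul_mem (mem_inf.2 ⟨e3.2, e3.1.2⟩) (mul_mem hd hd)) (mul_mem f1 f1) (mul_mem f2 f2)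
  generalize c * d = w at *
  have wK : w ∉ K := fun e => wB (PK.le ⟨wP, e⟩)
  have wc := centralizer_anti l.BR f1
  have nB := centralizer_le_normalizer _ wc
  have wi := inv_eq_of_mul_eq_one_right w2
  have mem : ∀ {x}, x ∈ B ⊔ zpowers w → x ∉ K → w * x ∈ B := fun hx h => by
    have := (mem_sup_zp nB (w2 ▸ one_mem B) hx).resolve_left fun e => h (hB.le e)
    simpa [wi, mul_assoc, w2] using conj_mem_of_mem_normalizer nB this
  have pS : IsPGroup 2 ↥(B ⊔ zpowers w) := hP.to_le (sup_le BP (zpowers_le.2 wP))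
  have hS : IsSyl 2 (B ⊔ zpowers w) (K ⊔ zpowers w) := by
    obtain ⟨Q, hQ, e⟩ := exists_isSyl_le pS (sup_le_sup_right hB.le _)
    refine (le_antisymm e fun x hx => ?_) ▸ hQ
    have QK := hB.eq_of_le (hQ.isPGroup.to_le (inf_le_left : Q ⊓ K ≤ Q)) (le_inf (le_sup_left.trans e) hB.le)
      inf_le_right
    rcases mem_sup_zp (nK (mem_top w)) (w2 ▸ one_mem K) (hQ.le hx) with f | f
    · exact mem_sup_left (QK.le ⟨hx, f⟩)
    · simpa using mul_mem_sup (QK.le ⟨Q.mul_mem hx (Q.inv_mem (e (mem_sup_right (mem_zpowers w)))), f⟩)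
        (mem_zpowers w)
  have cz : ∀ {x}, x ∈ cen B → Commute w x → B ⊔ zpowers w ≤ cen1 x := fun hx e =>
    sup_le (fun b hb => mem_cen1.2 (com hx hb)) (zpowers_le.2 (mem_cen1.2 e))
  have out : ∀ g, g * w * g⁻¹ ∉ K := fun g e => wK (by
    simpa [mul_assoc] using conj_mem_of_mem_normalizer' (nK (mem_top g)) e)
  have key : ∀ g ∈ K ⊔ zpowers w, w * (g * w * g⁻¹) ∈ zc B → g * w * g⁻¹ = w := fun g hg e => by
    have e0 : g * w * g⁻¹ = w * (w * (g * w * g⁻¹)) := by rw [← mul_assoc w w, w2, one_mul]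
    obtain ⟨n, -, n1, n2⟩ := burn hS hg (cz wc (Commute.refl w)) (cz (e0 ▸ mul_mem wc e.2)
      (e0 ▸ (Commute.refl w).mul_right (com wc e.1).symm))
    have n3 : n ∈ nor B := by
      have := le_normalizer_inf le_rfl (le_top.trans nK) n1
      rwa [hB.eq_of_le (pS.to_le inf_le_left) (le_inf le_sup_left hB.le) inf_le_right] at this
    have g1 := (cj_centralizer n R).le (conj_mem_cj f1)
    have g2 := (cj_centralizer n R').le (conj_mem_cj f2)
    rw [n2] at g1 g2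
    rw [e0, dd _ e ?_ ?_, mul_one]
    · rcases sw n n3 with f | f
      exacts [mul_mem f1 (f.1 ▸ g1), mul_mem f1 (f.2 ▸ g2)]
    · rcases sw n n3 with f | f
      exacts [mul_mem f2 (f.2 ▸ g2), mul_mem f2 (f.1 ▸ g1)]
  refine wB (mem_bot.1 (cK.le (zstar_cen hK le_sup_left (le_top.trans nK) hS (mem_sup_right (mem_zpowers w)) w2
    fun g hg e => ?_)) ▸ one_mem B)
  have b1 := mem e (out g)
  have b2 : w * (g * w * g⁻¹) * (w * (g * w * g⁻¹)) = 1 := by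
    have f := (com wc b1).eq
    rw [mul_assoc w, ← mul_assoc (g * w * g⁻¹), ← mul_left_inj (g * w * g⁻¹)⁻¹, ← mul_assoc, mul_inv_cancel_right,
      ← mul_assoc, f, ← mul_assoc, w2, one_mul, one_mul, eq_inv_iff_mul_eq_one]
    exact conj_sq w2 g
  have fin : ∀ x ∈ K, x ∈ cen1 w → x * (w * (g * w * g⁻¹)) * x⁻¹ ∈ zc B → g * w * g⁻¹ = w := fun x hx c f => by
    have c' := (mem_cen1.1 c).eq
    have := key (x * g) (mul_mem (mem_sup_left hx) hg) (by
      rwa [show w * (x * g * w * (x * g)⁻¹) = w * x * (g * w * g⁻¹) * x⁻¹ by group, ← c', mul_assoc x w])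
    rw [← mul_right_inj x, ← mul_left_inj x⁻¹, c', mul_inv_cancel_right]
    exact Eq.trans (by group) this
  rcases l.invol r b1 b2 with f | f
  · obtain ⟨x, hx, e⟩ := l.bk.fuse f
    exact fin x (h1 hx) (mem_cen1.2 (com f1 hx)) e
  · obtain ⟨x, hx, e⟩ := r.bk.fuse f
    exact fin x (h2 hx) (mem_cen1.2 (com f2 hx)) e

variable {F F' : Type} [Field F] [Fintype F] [Field F'] (k : Co B R A A' F) (c' : Co B R' A' A F')
  (hP : IsPGroup 2 P) (BP : B ≤ P) (h1 : P ≤ nor R) (h2 : P ≤ nor B) (cb : P ⊓ cen B ≤ B)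
include c' hP BP h1 h2 cb

theorem memB (hg : g ∈ P) (e : k.sg g = 1) : g ∈ B := by
  have t := l.bk.tri
  obtain ⟨y, hy, e1, -⟩ := k.act_like l.bk l.hq (h1 hg) (h2 hg) (T2.of_mem hP hg) e
  rw [l.V] at e1
  have g1 := mul_mem (inv_mem (BP (t.AB' hy))) hg
  have n1 := r.nA (l.nR (h2 g1) (h1 g1)).2
  obtain ⟨x, hx, e2, -⟩ := c'.act_like r.bk r.hq n1 (h2 g1) (T2.of_mem hP g1) (c'.sg_of_b r.bk n1 (h2 g1)
    fun a ha => by rw [(com e1 ha).symm.commutator_eq]; exact one_mem _)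
  rw [r.V] at e2
  have := cb (mem_inf.2 ⟨mul_mem (inv_mem (BP (t.AB hx))) g1, by
    rw [← l.gen, cen, centralizer_sup]
    exact mem_inf.2 ⟨mul_mem (inv_mem (H12.ea_le_centralizer t.eA hx)) e1, e2⟩⟩)
  simpa using mul_mem (t.AB' hy) (mul_mem (t.AB hx) this)

include k in
theorem bmP (hF : Fintype.card F = q) (j : jt 2 B = B) : bm 2 P = B := by
  have t := l.bk.tri
  have mB := fun {g} => l.memB r k c' hP BP h1 h2 cb (g := g)
  have h : jt 2 P ≤ B := by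
    refine H12.thompsonSubgroupOf_le_iff.2 fun E hE => by_contra fun n => ?_
    obtain ⟨φ, hφ, n⟩ := SetLike.not_le_iff_exists.1 n
    have s1 : ∀ x ∈ E, x ∉ B → k.sg x ≠ 1 := fun x hx f e => f (mB (hE.1 hx) e)
    have h3 := card_le_two_mul (H := B) (K := E) fun x hx y hy f f' => mB (hE.1 (mul_mem hx hy))
      (k.sg_mul_of_sq (h1 (hE.1 hx)) (h2 (hE.1 hx)) (h1 (hE.1 hy)) (h2 (hE.1 hy))
        (by rw [ea_sq hE.2.1 hx, k.sg_one]) (by rw [ea_sq hE.2.1 hy, k.sg_one]) (s1 x hx f) (s1 y hy f'))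
    have cm : ∀ x ∈ E ⊓ B, ⁅φ, x⁆ ∈ zc B := fun x hx => by
      rw [(ea_com hE.2.1 hφ hx.1).commutator_eq]; exact one_mem _
    have h4 : (zc B).relIndex (E ⊓ B) ^ 2 ≤ q := hF ▸
      (t.ea_or (H12.ea_mono hE.2.1 inf_le_left) inf_le_right).elim
        (fun f => k.fix_a l.bk (h1 (hE.1 hφ)) (h2 (hE.1 hφ)) (s1 φ hφ n) ((le_inf inf_le_right f).trans l.cA.le) cm)
        fun f => k.fix_b l.bk (h1 (hE.1 hφ)) (h2 (hE.1 hφ)) (s1 φ hφ n) ((le_inf inf_le_right f).trans r.cA.le) cm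
    have h5 := two_mul_le (inf_lt_left.2 fun f : zc B ≤ E ⊓ B => s1 φ hφ n (k.sg_of_cen (h1 (hE.1 hφ))
      (h2 (hE.1 hφ)) (mem_cen.2 fun z hz => ea_com hE.2.1 (f hz).1 hφ)))
    have h6 := H12.card_mul_relIndex (inf_le_right : zc B ⊓ (E ⊓ B) ≤ _)
    have h7 := hE.2.2 A (t.AB.trans BP) t.eA
    rw [inf_relIndex_right] at h6
    rw [t.card_A] at h7
    have h8 : q * Nat.card (zc B) ≤ (zc B).relIndex (E ⊓ B) * Nat.card (zc B) := by nlinarith
    have h9 := Nat.le_of_mul_le_mul_right h8 Nat.card_pos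
    have := l.hq
    nlinarith
  rw [bm_eq, ← jt_eq_of_le h BP, j]
  refine le_antisymm (fun g hg => mB hg.1 (k.sg_of_cen (h1 hg.1) (h2 hg.1) (centralizer_anti
    (le_oz t.eZ inf_le_left inf_le_right) hg.2))) (le_inf BP (cen_symm fun x hx => (mem_oz.1 hx).2.1))

end PW

theorem jobK2b : JK2b.{u} := fun X _ _ K S M z q R R' A A' t h b => by
  haveI := normal_of_top_le_normalizer h.nK
  haveI := h.simple
  obtain ⟨F, F', _, _, _, _, ⟨s⟩⟩ := exists_ts b.amb b.tb b.hq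
  have hι := K.subtype_injective
  have inj := map_injective hι
  have eS : (S.subgroupOf K).map K.subtype = S ⊓ K := subgroupOf_map_subtype S K
  have hB : IsSyl 2 (S.subgroupOf K) ⊤ := by rw [← inf_subgroupOf_right]; exact h.sylK.subgroupOf_top
  have SB : S ≤ nor (S ⊓ K) := le_normalizer_inf le_normalizer (le_top.trans h.nK)
  generalize S.subgroupOf K = B at s eS hB
  -- moving a block by an element of `X`
  have mv : ∀ {R R₁ A A' A₁ A₁' : Subgroup K}, Uno q B R A A' → Uno q B R₁ A₁ A₁' → ∀ g : X,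
      cj g (A.map K.subtype) = A₁.map K.subtype → cj g (R.map K.subtype) = R₁.map K.subtype := by
    intro R R₁ A A' A₁ A₁' u u₁ g e
    rw [← map_conjNormal, inj.eq_iff] at e ⊢
    have v := uno_map (MulAut.conjNormal g) u
    rw [e] at v
    have h1 := hB.map_of_injective (f := (MulAut.conjNormal g : K ≃* K).toMonoidHom) (MulEquiv.injective _)
    rw [map_top_of_surjective _ (MulEquiv.surjective _)] at h1
    obtain ⟨n, hn, e⟩ := (h1.of_le v.tri.nA le_top).exists_cj_eq (hB.of_le u₁.tri.nA le_top)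
    have v' := v.cj n
    rw [e, cj_eq_self hn] at v'
    have := u₁.eq_of b.amb (u₁.bk.tri.opp_eq v'.bk.tri ▸ v')
    rw [← cj_inj (g := n), this, cj_eq_self (u₁.nA_le hn)]
  have pw : ∀ {R R' A A' : Subgroup K} {F F' : Type} [Field F] [Fintype F] [Field F'] [Fintype F'],
      TS q B R R' A A' F F' → PW q (S ⊓ K) (R.map K.subtype) (A.map K.subtype) (A'.map K.subtype) := fun s =>
    ⟨eS ▸ bk_map hι s.l.bk, by rw [← Subgroup.map_sup, s.l.gen, eS],
      fun g hg => cj_eq_self_iff.1 (mv s.l s.l g (cj_eq_self hg)),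
      by rw [← eS, ← map_inf_centralizer hι, s.l.cenA], by rw [← map_pCoreOf_of_injective hι, s.V_eq],
      eS ▸ map_mono s.B_le, s.hq⟩
  have l := pw s
  have r := pw s.symm
  have mz : ∀ {x : K}, (x : X) ∈ zc (S ⊓ K) ↔ x ∈ zc B := by
    rw [← eS, ← map_zc hι]; exact mem_map_iff_mem hι
  have mc : ∀ {x : K} {R : Subgroup K}, (x : X) ∈ cen (R.map K.subtype) ↔ x ∈ cen R := fun {x R} => by
    rw [← zpowers_le, ← zpowers_le (g := x), ← map_le_cen_iff hι, MonoidHom.map_zpowers]; rfl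
  have dd : ∀ d ∈ zc (S ⊓ K), d ∈ cen (R.map K.subtype) → d ∈ cen (R'.map K.subtype) → d = 1 := fun d h1 h2 h3 =>
    congrArg Subtype.val (s.DD (d := ⟨d, h1.1.2⟩) (mz.1 h1) (mc.1 h2) (mc.1 h3))
  have cb := fun {P} => l.cb r (P := P) h.nab h.nK h.cK h.sylK (map_subtype_le R) (map_subtype_le R') dd
    (fun e y hy => by
      obtain ⟨d, hd, f⟩ := s.dec (z := ⟨y, hy.1.2⟩) (fun f => e (eq_bot_iff.2 fun x hx => congrArg Subtype.val
        (mem_bot.1 (f.le (show (⟨x, hx.1.1.2⟩ : K) ∈ _ from ⟨mz.1 hx.1, mc.1 hx.2⟩))))) (mz.1 hy)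
      exact ⟨d, ⟨mz.2 hd.1, mc.2 hd.2⟩, mz.2 f.1, mc.2 f.2⟩) fun n hn => by
    rcases l.bk.tri.op.cmp (l.bk.tri.op.cj_of_mem hn) with e | e | e
    · exact .inl ⟨mv s.l s.l n e.1, mv s.r s.r n e.2⟩
    · exact .inr ⟨mv s.l s.r n e.1, mv s.r s.l n e.2⟩
    · exact (l.bk.tri.op.of_sup l.gen (l.bk.tri.op.cj_of_mem hn) e).elim
  obtain ⟨F₁, _, _, hF, ⟨c⟩⟩ := jobCo X q _ _ _ _ l.bk l.hq
  obtain ⟨F₂, _, _, -, ⟨c'⟩⟩ := jobCo X q _ _ _ _ r.bk r.hq
  refine ⟨⟨⟨l.bk, l.gen, l.nA, fun P hP h1 h2 => l.bmP r c c' hP h1 h2 ?_ (cb hP h1) hF ?_⟩, SB b.tS,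
    T2.of_mem h.syl.isPGroup b.tS, b.sw, eq_bot_iff.2 fun d hd => dd d hd.1.1 hd.1.2 (mv s.l s.r t b.sw ▸ hd.2)⟩,
    (cb h.syl.isPGroup inf_le_left).trans inf_le_right⟩
  · rw [← h.sylK.eq_of_le (hP.to_le inf_le_left) (le_inf h1 inf_le_right) inf_le_right]
    exact le_normalizer_inf le_normalizer (le_top.trans h.nK)
  · rw [← eS, jt, ← H12.map_thompsonSubgroupOf _ _ hι, ← jt, s.l.jt_B]

end H96.H97.QU
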