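import Cfsg.Agent.H96.QUTW
import Cfsg.Agent.H57.CGQ

/-! Tower QU, job JQ2 (copy-edit of `H57/CGQ` under the weak hypotheses). -/

set_option autoImplicit false

namespace H96.H97.QU

open Subgroup Cfsg _root_.H98 _root_.H96 _root_.H96.CG H98.H96.CG _root_.H97.QU
open H52 (Vv Cv zc)
open H57.CGQ (conj_eq com_of idx2 mem_two mem_sup_two comm2 fz exists_d)
open scoped commutatorElement

universe u

namespace Q2

variable {G : Type u} [Group G] [Finite G] {B R R' A A' T D H K E U M : Subgroup G} {g x y a a' v t d e τ : G}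

section
variable (u : UW 2 B R A A') (ha : a ∈ A) (n : a ∉ zc B) (ha' : a' ∈ A') (n' : a' ∉ zc B)
include u ha n ha' n'

theorem zD : ⁅a, a'⁆ ∉ zc B ⊓ cen R := fun h => (u.tri.reg a ha a' ha' h).elim n n'

theorem fixz (hg : g ∈ nor B) : Commute g ⁅a, a'⁆ := by
  have := le_normalizer_commutator le_rfl le_rfl hg
  rw [u.comm_B, comm2 u.tri ha n ha' n'] at this
  exact mem_cen1.1 ((nor_zpowers (ea_sq u.tri.eZ (u.tri.comm a ha a' ha'))).le this)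

theorem VZ (hx : x ∈ pCoreOf 2 R) (h : x ∈ zc B) : x = 1 ∨ x = ⁅a, a'⁆ :=
  mem_two (ea_sq u.tri.eZ (u.tri.comm a ha a' ha')) ((comm2 u.tri ha n ha' n').le (u.bk.V_inf.le ⟨hx, h⟩))

theorem fuseV (hx : x ∈ pCoreOf 2 R) (h : x ≠ 1) : IsConj x ⁅a, a'⁆ := by
  obtain ⟨r, hr, e⟩ := u.bk.fuse (u.bk.V_le hx)
  exact isConj_iff.2 ⟨r, (VZ u ha n ha' n' (conj_mem_of_mem_normalizer (self_le_normalizer_pCoreOf R hr) hx)
    e).resolve_left (mt conj_eq_one_iff.1 h)⟩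

end

/-- `B = ⟨v, t⟩ × ⟨d⟩` -/
structure Q (B R A A' : Subgroup G) (v t d : G) : Prop where
  u : UW 2 B R A A'
  v1 : v ∈ pCoreOf 2 R
  v2 : v ∉ zc B
  t1 : t ∈ A'
  t2 : t ∉ zc B
  d1 : d ∈ zc B ⊓ cen R
  d2 : d ≠ 1
  d3 : ∀ x ∈ zc B ⊓ cen R, x = 1 ∨ x = d
  sw : ∀ e ∈ nor B, Commute e d → e ∈ nor R

namespace Q

variable (s : Q B R A A' v t d)
include s

theorem vA : v ∈ A := s.u.bk.V_le s.v1

theorem zZ : ⁅v, t⁆ ∈ zc B := s.u.tri.comm v s.vA t s.t1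

theorem zV : ⁅v, t⁆ ∈ pCoreOf 2 R := (s.u.bk.V_inf.ge (commutator_mem_commutator s.vA s.t1)).1

theorem zD : ⁅v, t⁆ ∉ zc B ⊓ cen R := Q2.zD s.u s.vA s.v2 s.t1 s.t2

theorem dd : d * d = 1 := ea_sq s.u.tri.eZ s.d1.1

theorem tt : t * t = 1 := ea_sq s.u.tri.eA' s.t1

theorem zz : ⁅v, t⁆ * ⁅v, t⁆ = 1 := ea_sq s.u.tri.eZ s.zZ

theorem memZ (hx : x ∈ zc B) : x = 1 ∨ x = d ∨ x = ⁅v, t⁆ ∨ x = ⁅v, t⁆ * d := by
  by_cases h : x ∈ zc B ⊓ cen R
  · rcases s.d3 x h with e | e <;> simp [e]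
  · rcases s.d3 _ (idx2 s.u.tri.idxD s.zZ hx s.zD h) with e | e
    · simp [eq_inv_of_mul_eq_one_right e, inv_eq_of_mul_eq_one_right s.zz]
    · simp [eq_inv_mul_of_mul_eq e, inv_eq_of_mul_eq_one_right s.zz]

theorem tV : t ∈ nor (pCoreOf 2 R) := le_normalizer_pCoreOf s.u.bk.nR (s.u.tri.AB' s.t1)

theorem NB : pCoreOf 2 R ⊔ zpowers t ≤ B :=
  sup_le (s.u.bk.V_le.trans s.u.tri.AB) (zpowers_le.2 (s.u.tri.AB' s.t1))

theorem zN : ⁅v, t⁆ ∈ pCoreOf 2 R ⊔ zpowers t := mem_sup_left s.zV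

theorem memN (hx : x ∈ pCoreOf 2 R ⊔ zpowers t) : x ∈ pCoreOf 2 R ∨ x * t⁻¹ ∈ pCoreOf 2 R :=
  mem_sup_two (s.tt ▸ one_mem _) s.tV hx

theorem dN : d ∉ pCoreOf 2 R ⊔ zpowers t := fun h => by
  rcases s.memN h with h | h
  · exact (VZ s.u s.vA s.v2 s.t1 s.t2 h s.d1.1).elim s.d2 fun e => s.zD (e ▸ s.d1)
  · exact s.t2 (s.u.tri.inf_eq.le ⟨by
      simpa using mul_mem (inv_mem (s.u.bk.V_le h)) (s.u.tri.zA s.d1.1), s.t1⟩)

theorem cover (hx : x ∈ B) : x ∈ pCoreOf 2 R ⊔ zpowers t ∨ x * d ∈ pCoreOf 2 R ⊔ zpowers t := by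
  have hZ : zc B ≤ pCoreOf 2 R ⊔ zpowers t ⊔ zpowers d := fun w hw => by
    rcases s.memZ hw with e | e | e | e <;> rw [e]
    exacts [one_mem _, mem_sup_right (mem_zpowers _), mem_sup_left s.zN, mul_mem_sup s.zN (mem_zpowers _)]
  have h : B ≤ pCoreOf 2 R ⊔ zpowers t ⊔ zpowers d := s.u.V_sup.ge.trans (sup_le (le_sup_left.trans le_sup_left)
    fun y hy => by
      by_cases h : y ∈ zc B
      · exact hZ h
      · simpa [mul_assoc, s.tt] using mul_mem (hZ (idx2 s.u.tri.idx' hy s.t1 h s.t2))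
          (mem_sup_left (mem_sup_right (mem_zpowers t))))
  simpa only [inv_eq_of_mul_eq_one_right s.dd] using mem_sup_two (s.dd ▸ one_mem _)
    (le_normalizer_of_le_centralizer le_rfl (centralizer_anti s.NB s.d1.1.2)) (h hx)

theorem cls (hx : x ∈ pCoreOf 2 R ⊔ zpowers t) (h : x * x = 1) (h1 : x ≠ 1) :
    IsConj x ⁅v, t⁆ ∨ IsConj x t := by
  rcases s.memN hx with h2 | h2
  · exact .inl (fuseV s.u s.vA s.v2 s.t1 s.t2 h2 h1)
  have h3 : x ∈ A' := (s.u.invol (s.NB hx) h).resolve_left fun e => s.t2 (s.u.tri.inf_eq.le ⟨by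
    simpa using mul_mem (inv_mem (s.u.bk.V_le h2)) e, s.t1⟩)
  rcases VZ s.u s.vA s.v2 s.t1 s.t2 h2 (s.u.tri.inf_eq.le ⟨s.u.bk.V_le h2, A'.mul_mem h3 (A'.inv_mem s.t1)⟩)
    with e | e
  · exact .inr (mul_inv_eq_one.1 e ▸ IsConj.refl _)
  · exact .inr (isConj_iff.2 ⟨v⁻¹, by rw [mul_inv_eq_iff_eq_mul.1 e, commutatorElement_def]; group⟩)

theorem commN : ⁅B, B⁆ ≤ pCoreOf 2 R ⊔ zpowers t := by
  rw [s.u.comm_B, ← s.u.bk.V_inf]
  exact inf_le_left.trans le_sup_left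

/-- conjugates in `B` of an involution not fused to `z` or `t` -/
theorem out (h2 : y * y = 1) (h1 : y ≠ 1) (n : ¬ IsConj y ⁅v, t⁆) (n' : ¬ IsConj y t) (h : g * y * g⁻¹ ∈ B) :
    g * y * g⁻¹ * d ∈ pCoreOf 2 R ⊔ zpowers t := (s.cover h).resolve_left fun e =>
  (s.cls e (H57.CGQ.conj_sq h2 g) (mt conj_eq_one_iff.1 h1)).elim (fun e => n ((isConj_iff.2 ⟨g, rfl⟩).trans e))
    fun e => n' ((isConj_iff.2 ⟨g, rfl⟩).trans e)

theorem syl (h : res 2 (⊤ : Subgroup G) = ⊤) (hT : IsSyl 2 B ⊤) (hy : y ∈ zc B) (hd : d * y ∈ pCoreOf 2 R ⊔ zpowers t)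
    (n : ¬ IsConj y ⁅v, t⁆) (n' : ¬ IsConj y t) : False := by
  have h2 := ea_sq s.u.tri.eZ hy
  have h3 : y ∉ pCoreOf 2 R ⊔ zpowers t := fun e => s.dN (by simpa using mul_mem hd (inv_mem e))
  refine H12.not_mem_res_of_extremal hT s.commN h2 hy.1 h3 (mem_zpowers y) (two_zpowers h2)
    (fun r hr => ?_) (fun g hg => ?_) (h.ge (mem_top y))
  · rcases mem_two h2 hr with rfl | rfl <;> simp
  · simpa [mul_assoc, ← mul_assoc d d, s.dd] using mul_mem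
      (s.out h2 (fun e => h3 (e ▸ one_mem _)) n n' (hg (conj_mem_cj (mem_zpowers y)))) hd

end Q

namespace Q

variable (s : Q B R A A' v t d) (r : UW 2 B R' A' A) (hd : ⁅v, t⁆ * d ∈ cen R') (hU : IsSyl 2 U (nor B))
  (BU : B ≤ U)
include s hU BU

theorem m1 (he : e ∈ U) (h : Commute e d) : e ∈ B := by
  have h1 := s.sw e (hU.le he) h
  refine (s.u.cZ (P := U ⊓ nor R) hU.isPGroup.to_inf_left (le_inf BU s.u.bk.nR) inf_le_right).le
    ⟨⟨he, h1⟩, mem_cen.2 fun x hx => ?_⟩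
  have := fixz s.u s.vA s.v2 s.t1 s.t2 (hU.le he)
  rcases s.memZ hx with e | e | e | e <;> rw [e]
  exacts [Commute.one_left _, h.symm, this.symm, (this.mul_right h).symm]

theorem m2 (he : e ∈ U) (h : e ∉ B) : e * d * e⁻¹ = ⁅v, t⁆ * d := by
  rcases s.memZ (conj_mem_of_mem_normalizer (H52.n_zc hU.le he) s.d1.1) with H | H | H | H
  · exact absurd (conj_eq_one_iff.1 H) s.d2
  · exact absurd (s.m1 hU BU he (com_of H)) h
  · rw [← conj_eq (fixz s.u s.vA s.v2 s.t1 s.t2 (hU.le he)), mul_left_inj, mul_right_inj] at H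
    exact absurd (H ▸ s.d1) s.zD
  · exact H

theorem m4 (he : e ∈ U) (hx : x ∈ U) (h : e ∉ B) (h' : x ∉ B) : x * e ∈ B :=
  s.m1 hU BU (mul_mem hx he) (com_of (by
    rw [show x * e * d * (x * e)⁻¹ = x * (e * d * e⁻¹) * x⁻¹ by group, s.m2 hU BU he h, ← conj_mul,
      s.m2 hU BU hx h', conj_eq (fixz s.u s.vA s.v2 s.t1 s.t2 (hU.le hx)), ← mul_assoc, s.zz, one_mul]))

theorem m3 (he : e ∈ U) (h : e ∈ nor A) : e ∈ B :=
  s.m1 hU BU he (com_of ((s.d3 _ (conj_mem_of_mem_normalizer (le_normalizer_inf (H52.n_zc inf_le_left)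
    (le_normalizer_centralizer inf_le_right) (mem_inf.2 ⟨hU.le he, s.u.nA_le h⟩)) s.d1)).resolve_left
      (mt conj_eq_one_iff.1 s.d2)))

include r hd

theorem m3' (he : e ∈ U) (h : e ∈ nor A') : e ∈ B := by
  by_contra H
  have h1 := conj_mem_of_mem_normalizer (normalizer_le_normalizer_centralizer R' (r.nA_le h)) hd
  rw [← conj_mul, s.m2 hU BU he H, conj_eq (fixz s.u s.vA s.v2 s.t1 s.t2 (hU.le he)), ← mul_assoc, s.zz,
    one_mul] at h1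
  refine Q2.zD r s.t1 s.t2 s.vA s.v2 ?_
  rw [s.u.tri.comm_inv s.vA s.t1]
  exact ⟨s.zZ, by simpa using mul_mem hd (inv_mem h1)⟩

theorem m5 (hE : IsElementaryAbelian 2 E) (h : E ≤ U) (hc : Nat.card E = Nat.card A) : E ≤ B := by
  classical
  by_contra H
  obtain ⟨e, he, n⟩ := SetLike.not_le_iff_exists.1 H
  have f : ∀ {S : Subgroup G} {x : G}, S ≤ B → IsElementaryAbelian 2 S → x ∈ E → x ∈ S →
      (∀ b ∈ B, Commute x b → b ∈ S) → e ∈ nor S := fun {S x} h1 h2 h3 h4 h5 =>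
    mem_normalizer_of_cj_le fun y hy => h5 y (cj_le_of_le h1 (hU.le (h he)) hy)
      (ea_com (H96.ea_cj h2 e) (conj_eq (ea_com hE he h3) ▸ conj_mem_cj h4) hy)
  have h4 : ∀ x ∈ E, x ∈ B → x = 1 ∨ x = ⁅v, t⁆ := fun x hx hx' => by
    have h5 : x ∈ zc B := by
      by_contra n'
      exact n ((s.u.invol hx' (ea_sq hE hx)).elim
        (fun H => s.m3 hU BU (h he) (f s.u.tri.AB s.u.tri.eA hx H fun b => s.u.cent H n'))
        fun H => s.m3' r hd hU BU (h he) (f s.u.tri.AB' s.u.tri.eA' hx H fun b => s.u.cent' H n'))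
    have h6 := ea_com hE he hx
    rcases s.memZ h5 with H | H | H | H
    exacts [.inl H, absurd (s.m1 hU BU (h he) (H ▸ h6)) n, .inr H, absurd (s.m1 hU BU (h he) (inv_mul_cancel_left ⁅v, t⁆ d ▸
      (fixz s.u s.vA s.v2 s.t1 s.t2 (hU.le (h he))).inv_right.mul_right (H ▸ h6))) n]
  have h5 : (E : Set G) ⊆ ([1, ⁅v, t⁆, 1 * e⁻¹, ⁅v, t⁆ * e⁻¹].toFinset : Finset G) := fun x hx => by
    simp only [List.coe_toFinset, List.mem_cons, Set.mem_ofPred_eq]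
    by_cases H : x ∈ B
    · have := h4 x hx H
      tauto
    · have := h4 _ (mul_mem hx he) (s.m4 hU BU (h he) (h hx) n H)
      simp only [← eq_mul_inv_iff_mul_eq] at this
      tauto
  have h6 := Set.ncard_le_ncard h5
  rw [Set.ncard_coe_finset] at h6
  have h7 := h6.trans (List.toFinset_card_le _)
  have h8 := relIndex_mul_relIndex ⊥ _ _ bot_le (inf_le_left : zc B ⊓ cen R ≤ zc B)
  have h9 := (one_lt_card_iff_ne_bot (zc B ⊓ cen R)).2 fun e => s.d2 (mem_bot.1 (e ▸ s.d1))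
  rw [relIndex_bot_left, relIndex_bot_left, s.u.tri.idxD] at h8
  change Nat.card E ≤ 4 at h7
  rw [hc, s.u.tri.card_A] at h7
  omega

theorem m6 (h : cj g B ≤ U) : cj g B = B := by
  refine eq_of_le_of_card_ge ?_ (card_cj g B).ge
  conv_lhs => rw [← s.u.gen, cj_sup]
  exact sup_le (s.m5 r hd hU BU (H96.ea_cj s.u.tri.eA g) ((cj_mono g s.u.tri.AB).trans h) (card_cj g A))
    (s.m5 r hd hU BU (H96.ea_cj s.u.tri.eA' g) ((cj_mono g s.u.tri.AB').trans h)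
      ((card_cj g A').trans s.u.tri.card_eq))

theorem sylU : IsSyl 2 U ⊤ := isSyl_of_isSyl_normalizer (hU.of_le (le_inf le_top le_normalizer)
  fun _ hg => cj_eq_self_iff.1 (s.m6 r hd hU BU (cj_le_of_le BU hg.2)))

theorem nz : ¬ IsConj d ⁅v, t⁆ := fun e => s.zD (fz (wc_of_isSyl (s.sylU r hd hU BU) BU
  fun _ _ => s.m6 r hd hU BU) s.zZ s.d1.1 (fun _ hg => fixz s.u s.vA s.v2 s.t1 s.t2 hg) e.symm ▸ s.d1)

theorem swap (h : res 2 (⊤ : Subgroup G) = ⊤) (he : e ∈ U) (n : e ∉ B) (ht : t = e * v * e⁻¹)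
    (H : e * e = 1 ∨ ∀ x ∈ U, x ∉ B → x * x ≠ 1) : False := by
  have hz := fixz s.u s.vA s.v2 s.t1 s.t2 (hU.le he)
  have vv := ea_sq s.u.tri.eA s.vA
  have f : ∀ x ∈ pCoreOf 2 R, x ∉ zc B → ∃ ζ ∈ zc B, ζ ∈ pCoreOf 2 R ∧ x = ζ * v ∧ e * x * e⁻¹ = ζ * t :=
    fun x hx h => by
    have h1 := idx2 s.u.tri.idx (s.u.bk.V_le hx) s.vA h s.v2
    have h2 : x = x * v * v := by rw [mul_assoc, vv, mul_one]
    refine ⟨x * v, h1, mul_mem hx s.v1, h2, ?_⟩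
    rw [h2, ← conj_mul, ← ht, ← h2]
    rcases VZ s.u s.vA s.v2 s.t1 s.t2 (mul_mem hx s.v1) h1 with e | e <;> rw [e]
    exacts [by simp, by rw [conj_eq hz]]
  have n1 : e ∈ nor (pCoreOf 2 R ⊔ zpowers t) := mem_normalizer_of_cj_le (by
    rw [cj_sup]
    refine sup_le (cj_le_iff.2 fun x hx => mem_cj.2 ?_) (cj_le_iff.2 (zpowers_le.2 (mem_cj.2 ?_))) <;> rw [inv_inv]
    · by_cases h : x ∈ zc B
      · rcases VZ s.u s.vA s.v2 s.t1 s.t2 hx h with e | e <;> rw [e]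
        exacts [by simp, (conj_eq hz).symm ▸ s.zN]
      · obtain ⟨ζ, -, h1, -, h2⟩ := f x hx h
        exact h2 ▸ mul_mem_sup h1 (mem_zpowers t)
    · refine mem_sup_left ?_
      simpa [ht, mul_assoc] using conj_mem_of_mem_normalizer
        (le_normalizer_pCoreOf s.u.bk.nR (s.m4 hU BU he he n n)) s.v1)
  have n2 : B ≤ nor (pCoreOf 2 R ⊔ zpowers t) := le_normalizer_of_commutator_le s.commN s.NB
  have n3 : ⁅U, U⁆ ≤ pCoreOf 2 R ⊔ zpowers t := by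
    refine H12.commutator_le_of_relIndex_dvd_sq (p := 2) (fun x hx => ?_) ?_
    · by_cases h : x ∈ B
      · exact n2 h
      · simpa using mul_mem (n2 (s.m4 hU BU he hx n h)) (inv_mem n1)
    · rw [← relIndex_mul_relIndex _ _ _ s.NB BU,
        relIndex_eq_two_iff_exists_notMem_and.2 ⟨d, s.d1.1.1, s.dN, fun b hb => (s.cover hb).symm⟩,
        relIndex_eq_two_iff_exists_notMem_and.2 ⟨e, he, n, fun b hb =>
          or_iff_not_imp_right.2 (s.m4 hU BU he hb n)⟩]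
      rfl
  have c1 := s.nz r hd hU BU
  have c2 : ¬ IsConj d t := fun c => c1 ((c.trans (isConj_iff.2 ⟨e, ht.symm⟩).symm).trans
    (fuseV s.u s.vA s.v2 s.t1 s.t2 s.v1 fun e => s.v2 (e ▸ one_mem _)))
  have tr : ∀ D₀ : Subgroup G, pCoreOf 2 R ⊔ zpowers t ≤ D₀ → d ∉ D₀ →
      (∀ y ∈ U, y ∉ B → y * y = 1 → y * d ∈ D₀) → False := fun D₀ h1 h2 h3 => by
    refine H12.not_mem_res_of_extremal (s.sylU r hd hU BU) (n3.trans h1) s.dd (BU s.d1.1.1) h2 (mem_zpowers d)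
      (two_zpowers s.dd) (fun r hr => ?_) (fun g hg => ?_) (h.ge (mem_top d))
    · rcases mem_two s.dd hr with rfl | rfl <;> simp
    · by_cases h4 : g * d * g⁻¹ ∈ B
      · exact h1 (s.out s.dd s.d2 c1 c2 h4)
      · exact h3 _ (hg (conj_mem_cj (mem_zpowers d))) h4 (H57.CGQ.conj_sq s.dd g)
  rcases H with H | H
  swap
  · exact tr _ le_rfl s.dN fun y hy h1 h2 => absurd h2 (H y hy h1)
  have ei := inv_eq_of_mul_eq_one_right H
  have ed := s.m2 hU BU he n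
  refine tr (pCoreOf 2 R ⊔ zpowers t ⊔ zpowers (d * e)) le_sup_left (fun h1 => ?_) fun y hy h1 h2 => ?_
  · rcases mem_sup_two (by
      rw [show d * e * (d * e) = d * (e * d * e⁻¹) by rw [ei]; group, ed, ← (zcom s.zZ s.d1.1.1).eq,
        ← mul_assoc, s.dd, one_mul]; exact s.zN) (mul_mem (n2 s.d1.1.1) n1) h1 with h2 | h2
    · exact s.dN h2
    · have := B.mul_mem (B.mul_mem (B.inv_mem s.d1.1.1) (B.inv_mem (s.NB h2))) s.d1.1.1
      exact n (by simpa [mul_assoc] using this)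
  rcases s.cover (s.m4 hU BU he hy n h1) with h3 | h3'
  · have : y * d = y * e * ⁅v, t⁆ * (d * e) := by
      rw [mul_assoc _ _ (d * e), ← mul_assoc _ d, ← ed, inv_mul_cancel_right, mul_assoc, ← mul_assoc e, H, one_mul]
    exact this ▸ mul_mem_sup (mul_mem h3 s.zN) (mem_zpowers _)
  exfalso
  obtain ⟨m, h3, rfl⟩ : ∃ m ∈ pCoreOf 2 R ⊔ zpowers t, y = m * d * e :=
    ⟨_, h3', by rw [mul_assoc _ d d, s.dd, mul_one, mul_assoc, H, mul_one]⟩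
  have h4 : m * (e * m * e⁻¹) = ⁅v, t⁆ := by
    have c := (zcom s.d1.1 (conj_mem_of_mem_normalizer (hU.le he) (s.NB h3))).eq
    rw [← inv_eq_of_mul_eq_one_right s.zz, eq_inv_iff_mul_eq_one, ← h2]
    calc _ = m * (e * m * e⁻¹ * d) * (⁅v, t⁆ * d) := by
          rw [mul_assoc, mul_assoc m, mul_assoc _ d, ← mul_assoc d, (zcom s.zZ s.d1.1.1).eq, mul_assoc _ d d, s.dd,
            mul_one]
      _ = _ := by rw [c, ← ed, ei]; simp only [mul_assoc]; rw [← mul_assoc e e, H, one_mul]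
  have hA : cj e A = A' := (s.u.cj_or (cj_le_of_le s.u.tri.AB (hU.le he))).resolve_left
    fun c => n (s.m3 hU BU he (cj_eq_self_iff.1 c))
  have hA' : cj e A' = A := by rw [← hA, cj_cj, H, cj_one]
  have z1 : m ∉ zc B := fun h5 => by
    have h6 : Commute e m := by
      rcases s.memZ h5 with c | c | c | c
      exacts [c ▸ Commute.one_right _, absurd (c ▸ h3) s.dN, c ▸ hz,
        absurd (inv_mul_cancel_left ⁅v, t⁆ d ▸ mul_mem (inv_mem s.zN) (c ▸ h3)) s.dN]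
    rw [conj_eq h6, ea_sq s.u.tri.eZ h5] at h4
    exact s.zD (h4 ▸ one_mem _)
  have z2 : m ∉ A := fun h5 => z1 (s.u.tri.inf_eq.le ⟨h5, eq_mul_inv_of_mul_eq h4 ▸
    A'.mul_mem (s.u.tri.zA' s.zZ) (A'.inv_mem (hA.le (conj_mem_cj h5)))⟩)
  have z3 : m ∉ A' := fun h5 => z1 (s.u.tri.inf_eq.le ⟨eq_mul_inv_of_mul_eq h4 ▸
    A.mul_mem (s.u.tri.zA s.zZ) (A.inv_mem (hA'.le (conj_mem_cj h5))), h5⟩)
  have h5 := (s.memN h3).resolve_left fun c => z2 (s.u.bk.V_le c)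
  obtain ⟨ζ, h6, -, h7, h8⟩ := f _ h5 fun c => z3 (by simpa using mul_mem (s.u.tri.zA' c) s.t1)
  have h9 : e * m * e⁻¹ = ζ * t * v := by
    have : v = e * t * e⁻¹ := by rw [ht, ei]; simp only [mul_assoc, H, mul_one]; rw [← mul_assoc, H, one_mul]
    rw [← h8, this, conj_mul, inv_mul_cancel_right]
  rw [h9, mul_inv_eq_iff_eq_mul.1 h7] at h4
  refine s.zD (h4 ▸ ?_)
  rw [show ζ * v * t * (ζ * t * v) = ζ * (v * t * ζ) * t * v by group,
    (zcom h6 (mul_mem (s.u.tri.AB s.vA) (s.u.tri.AB' s.t1))).eq, ← mul_assoc, ea_sq s.u.tri.eZ h6, one_mul,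
    mul_assoc v, s.tt, mul_one, vv]
  exact one_mem _

end Q

theorem tb (w : TG M 2 B R A A' τ) : Four G := by
  have h := w.res
  have l := w.toUW
  have r := w.toTW.r
  by_cases hD : zc B ⊓ cen R = ⊥
  · have h1 := l.tri.idxD
    rw [hD, relIndex_bot_left] at h1
    exact ⟨A, l.tri.eA, by rw [l.tri.card_A, h1], w.cA⟩
  have hD' : zc B ⊓ cen (cj τ R) ≠ ⊥ := fun e => hD (cj_eq_bot_iff.1 (by
    rwa [cj_inf, cj_centralizer, cj_eq_self (H52.n_zc le_rfl w.tB)]))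
  have h1 : ∀ x ∈ zc B ⊓ cen R, x ∈ zc B ⊓ cen (cj τ R) → x = 1 := fun x hx hx' => w.toTW.DD hx.1 hx.2 hx'.2
  have sw : ∀ d ∈ zc B ⊓ cen R, d ≠ 1 → ∀ e ∈ nor B, Commute e d → e ∈ nor R := fun d d1 d2 e he c =>
    l.nA_le (by_contra fun n => d2 (w.toTW.DD d1.1 d1.2 (by
      rw [← w.toTW.swR he n, ← conj_eq c]; exact (cj_centralizer e R).le (conj_mem_cj d1.2))))
  generalize cj τ R = R' at r hD' h1
  exfalso
  obtain ⟨d, d1, d2⟩ := exists_d hD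
  obtain ⟨d', d1', d2'⟩ := exists_d hD'
  obtain ⟨v, v1, v2⟩ := SetLike.not_le_iff_exists.1 l.bk.V_not_le
  obtain ⟨t, t1, t2⟩ := SetLike.not_le_iff_exists.1 r.bk.V_not_le
  have vA := l.bk.V_le v1
  have s : ∀ t ∈ A', t ∉ zc B → Q B R A A' v t d := fun t t1 t2 => ⟨l, v1, v2, t1, t2, d1, d2, fun x hx => by
    refine or_iff_not_imp_left.2 fun e => ?_
    have := h1 _ (mul_mem hx d1) (idx2 r.tri.idxD hx.1 d1.1 (mt (h1 x hx) e) (mt (h1 d d1) d2))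
    rw [eq_inv_of_mul_eq_one_left this, ea_inv l.tri.eZ d1.1], sw d d1 d2⟩
  have hd : ∀ t ∈ A', t ∉ zc B → ⁅v, t⁆ * d ∈ cen R' := fun t t1 t2 => by
    rcases (s t t1 t2).memZ d1'.1 with e | e | e | e
    exacts [absurd e d2', absurd (h1 _ (e ▸ d1) d1') d2',
      absurd (l.tri.comm_inv vA t1 ▸ e ▸ d1') (zD r t1 t2 vA v2), e ▸ d1'.2]
  obtain ⟨U, hU, BU⟩ := exists_isSyl_le l.tri.two (le_normalizer : B ≤ nor B)
  have tA := r.bk.V_le t1
  by_cases H : U ≤ B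
  · have h2 := (s t tA t2).nz r (hd t tA t2) hU BU
    exact (s t tA t2).syl h (le_antisymm H BU ▸ (s t tA t2).sylU r (hd t tA t2) hU BU) d1.1
      ((s t tA t2).dd ▸ one_mem _) h2 fun e => h2 (e.trans (l.tri.comm_inv vA tA ▸
        fuseV r tA t2 vA v2 t1 fun e => t2 (e ▸ one_mem _)))
  obtain ⟨e, he, n, H'⟩ : ∃ e ∈ U, e ∉ B ∧ (e * e = 1 ∨ ∀ x ∈ U, x ∉ B → x * x ≠ 1) := by
    by_cases H' : ∀ x ∈ U, x ∉ B → x * x ≠ 1
    · obtain ⟨e, he, n⟩ := SetLike.not_le_iff_exists.1 H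
      exact ⟨e, he, n, .inr H'⟩
    · push Not at H'
      obtain ⟨e, he, n, H'⟩ := H'
      exact ⟨e, he, n, .inl H'⟩
  have h2 : e * v * e⁻¹ ∈ A' := ((l.cj_or (cj_le_of_le l.tri.AB (hU.le he))).resolve_left
    fun c => n ((s t tA t2).m3 hU BU he (cj_eq_self_iff.1 c))).le (conj_mem_cj vA)
  have h3 : e * v * e⁻¹ ∉ zc B := fun c => v2 (by
    simpa [mul_assoc] using conj_mem_of_mem_normalizer' (H52.n_zc hU.le he) c)
  exact (s _ h2 h3).swap r (hd _ h2 h3) hU BU h he n rfl H'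

end Q2

theorem jobQ2 : JQ2.{u} := fun _ _ _ _ _ _ _ _ _ w => Q2.tb w

end H96.H97.QU
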