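import Cfsg.Agent.H96.QUTW

/-! Tower QU, job JTW. -/

set_option autoImplicit false

namespace H96.H97.QU

open Subgroup Cfsg _root_.H98 _root_.H96 _root_.H96.CG H98.H96.CG _root_.H97.QU
open H52 (Vv Cv zc)
open scoped commutatorElement

universe u

variable {G : Type u} [Group G] [Finite G] {q : ℕ} {B R R' A A' M : Subgroup G} {f y z : G}

namespace WS

variable {F F' : Type} [Field F] [Fintype F] [Field F'] [Fintype F'] (s : WS q B R R' A A' F F')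
include s

/-- `M ≤ N(B)` -/
theorem le_nB_M (hM : CharP 2 M) (BX : nor B ≤ M) (hc : CharP 2 (nor (zc B))) (hy₀ : y ∈ nor B)
    (hy₀' : y ∉ nor A) : M ≤ nor B := by
  have nQ := self_le_normalizer_pCoreOf (p := 2) M
  have QB := s.core_le (le_normalizer.trans BX)
  have pQ := isPGroup_pCoreOf (p := 2) M
  have pZ := H12.ea_isPGroup s.eZ
  have ch := fun {N} h1 => le_core_of_chain' (W := N) hM h1 (le_normalizer.trans BX)
  set Q := pCoreOf 2 M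
  have fin : B ≤ Q → M ≤ nor B := fun h => s.wc.le_normalizer_of pQ h le_top nQ
  have BB : ⁅B, B⁆ ≤ zc B := s.l.comm_B.le.trans (commutator_le.2 s.t.comm)
  have nQ' : nor A ⊓ nor B ≤ nor (Q ⊓ nor A) :=
    le_normalizer_inf (inf_le_right.trans (BX.trans nQ)) (le_normalizer_of_le inf_le_left)
  have RA : R ⊓ nor B ≤ nor A ⊓ nor B := inf_le_inf_right _ s.l.bk.RA
  have h0 : ∀ {x}, x ∈ Q → x ∈ nor A → x ∈ B := fun hx h => s.mem_B h (QB hx) (T2.of_mem pQ hx)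
    (s.c.sg_of_norm (pQ.to_le inf_le_left) (inf_le_right.trans s.l.nA_le) (inf_le_left.trans QB)
      (RA.trans nQ') ⟨hx, h⟩)
  have BQ := le_normalizer.trans (BX.trans nQ)
  by_cases h1 : Q ⊓ A ≤ zc B
  swap
  · have h2 : ∀ a ∈ A, ∃ x ∈ Q ⊓ A, x⁻¹ * a ∈ zc B := fun a ha =>
      s.c.irr_a (le_normalizer_inf (inf_le_right.trans (BX.trans nQ))
        (inf_le_left.trans s.l.bk.RA)) inf_le_right h1 ha
    have ZQ : zc B ≤ Q := s.Z_le.trans (commutator_le.2 fun a ha a' ha' => by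
      obtain ⟨x, hx, e⟩ := h2 a ha
      have e1 : ⁅a, a'⁆ = x * ⁅x⁻¹ * a, a'⁆ * x⁻¹ * ⁅x, a'⁆ := by
        simp only [commutatorElement_def]; group
      rw [e1, cm_one.2 (zcom e (s.t.AB' ha')).symm, mul_one, mul_inv_cancel, one_mul]
      exact cm_mem' hx.1 (BQ (s.t.AB' ha')))
    have h3 : A ≤ Q := fun a ha => by
      obtain ⟨x, hx, e⟩ := h2 a ha
      simpa using mul_mem hx.1 (ZQ e)
    exact fin (s.l.gen.ge.trans (sup_le h3 (s.sw_A hy₀ hy₀' ▸ cj_le_of_le h3 (nQ (BX hy₀)))))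
  have h2 : ∀ x ∈ Q, x ∈ nor A → x * x = 1 → x ∈ zc B := fun x hx h e =>
    (s.l.invol (h0 hx h) e).elim (fun h => h1 ⟨hx, h⟩) fun h => by_contra fun h' =>
      s.sw_not_Z hy₀ h' (h1 ⟨conj_mem_of_mem_normalizer (nQ (BX hy₀)) hx,
        s.symm.sw_mem hy₀ (s.sw_not hy₀ hy₀') h⟩)
  by_cases hQ : Q ≤ nor A
  · refine fin (ch (N := Q ⊓ zc B) (fun g hg => mem_normalizer_fintype fun w hw => ?_)
      (le_inf (commutator_le_left' BQ) ((commutator_mono (fun x hx => h0 hx (hQ hx)) le_rfl).trans BB))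
      ((H52.le_cent_zc B).trans (centralizer_anti inf_le_right)))
    have h3 := conj_mem_of_mem_normalizer (nQ hg) hw.1
    exact ⟨h3, h2 _ h3 (hQ h3) (conj_sq (ea_sq s.eZ hw.2) g)⟩
  obtain ⟨y, hy, hy'⟩ := SetLike.not_le_iff_exists.1 hQ
  have ZQ := s.sw_Z_le BQ hy (QB hy) hy'
  by_cases hD : zc B ⊓ cen R = ⊥
  · have QZ : ∀ z ∈ zc B, z ∈ cen Q := fun z hz => by
      obtain ⟨w, hw, e⟩ := s.c.irr_z (X := zc B ⊓ cen Q) (inf_le_right.trans (le_normalizer_inf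
        (H52.n_zc le_rfl) (le_normalizer_centralizer (BX.trans nQ)))) inf_le_left
        (fun e => inf_centralizer_ne_bot pZ pQ (H52.n_zc QB) s.l.Z_ne (eq_bot_iff.2 (hD ▸ e))) hz
      rw [hD, mem_bot, inv_mul_eq_one] at e
      exact e ▸ hw.2
    have e : oz 2 Q = zc B := le_antisymm (fun w hw => h2 w (oz_le Q hw) (by_contra fun h =>
      s.t.not_le fun a ha => s.sw_sq (QB (oz_le Q hw)) h ha (ea_sq (ea_oz Q)
        (cm_mem' hw (le_normalizer_oz BQ (s.t.AB ha))))) (ea_sq (ea_oz Q) hw)) (le_oz s.eZ ZQ QZ)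
    exact (e ▸ le_normalizer_oz (p := 2) nQ).trans (s.nZ_le hc hD)
  obtain ⟨p, hp, hp'⟩ := s.exists_prime
  obtain ⟨p2, k, hk, hk', kB, pk⟩ := s.exists_pel hp hp'
  haveI := Fact.mk hp
  have kn : zpowers k ≤ R ⊓ nor B := zpowers_le.2 ⟨hk, hk'⟩
  obtain ⟨n, hn, h3⟩ := exists_mul_mem_centralizer pk (not_dvd_card_of_isPGroup_ne hp p2
    (pQ.to_le (inf_le_left : Q ⊓ nor A ≤ Q))) (kn.trans (RA.trans nQ')) (y := y) fun a ha =>
      ⟨cm_mem (nQ (BX (kn ha).2)) hy, by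
        simpa [commutatorElement_def, mul_assoc] using mul_mem (RA (kn ha)).1
          (s.nA_conj (QB hy) (inv_mem (RA (kn ha)).1) (inv_mem (kn ha).2))⟩
  have tQ := mul_mem hn.1 hy
  have tA : n * y ∉ nor A := fun e => hy' (((nor A).mul_mem_cancel_left hn.2).1 e)
  have h4 := s.sw_R_mem (QB tQ) tA hk
  rw [(com h3 (mem_zpowers k)).symm.eq, mul_inv_cancel_right] at h4
  refine (s.t.one_lt.ne' (s.t.idxD ▸ relIndex_eq_one.2 fun z hz => s.free hk hk' kB hz.1 ?_)).elim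
  obtain ⟨d, hd, e⟩ := s.dec hD hz
  simpa using (com hd.2 hk).mul_right (com e.2 h4)

theorem tr_step (hD : zc B ⊓ cen R ≠ ⊥) (hf : f ∈ zc B) (h : f ∉ cen R) (hz : z ∈ zc B)
    (h' : z ∉ cen R) : ∃ k ∈ nor B, (k * f * k⁻¹)⁻¹ * z ∈ zc B ⊓ cen R ∧ ⁅k, f⁆ ∈ zc B ⊓ cen R' := by
  have h1 := fun {f} (hf : f ∈ zc B) (h : f ∉ cen R) => mt (s.c.z.ker f hf).1 fun e => h e.2
  obtain ⟨k, hk, w⟩ := s.c.scal_z (div_ne_zero (h1 hz h') (h1 hf h))
  exact ⟨k, hk.2, (s.c.z.eq_iff (conj_mem_of_mem_normalizer (Co.nZ hk.2) hf) hz).1 (by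
    rw [w.eq f hf, RingAut.one_apply, div_mul_cancel₀ _ (h1 hf h)]), s.comm_D' hD hk.1 hk.2 hf⟩

/-- `N(B)` is transitive on generic elements -/
theorem trans_gn (hf : Gn B R R' f) (hz : Gn B R R' z) : ∃ k ∈ nor B, k * f * k⁻¹ = z := by
  by_cases hD : zc B ⊓ cen R = ⊥
  · obtain ⟨k, hk, e⟩ := s.trans_z hD hf.z hf.ne hz.z hz.ne
    exact ⟨k, hk.2, e⟩
  obtain ⟨k, hk, e1, e2⟩ := s.tr_step hD hf.z hf.l hz.z hz.l
  have h1 := conj_mem_of_mem_normalizer (Co.nZ hk) hf.z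
  have h2 : k * f * k⁻¹ ∉ cen R' := fun e => hf.r (by
    simpa [commutatorElement_def, mul_assoc] using (cen R').mul_mem ((cen R').inv_mem e2.2) e)
  obtain ⟨k', hk', e3, e4⟩ := s.symm.tr_step (fun e => hD (s.symm.D_bot e)) h1 h2 hz.z hz.r
  refine ⟨k' * k, mul_mem hk' hk, ?_⟩
  rw [show k' * k * f * (k' * k)⁻¹ = k' * (k * f * k⁻¹) * k'⁻¹ by group]
  generalize k * f * k⁻¹ = v at *
  refine inv_mul_eq_one.1 (s.DD e3.1 ?_ e3.2)
  have h3 : (k' * v * k'⁻¹)⁻¹ * z = v⁻¹ * ⁅k', v⁆⁻¹ * v * (v⁻¹ * z) := by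
    simp only [commutatorElement_def]; group
  rw [h3, (zcom (inv_mem e4.1) (inv_mem h1.1)).eq, inv_mul_cancel_right]
  exact mul_mem (inv_mem e4.2) e1.2

end WS

theorem jobTW : JTW.{u} := by
  intro G _ _ M B R A A' q t h hq
  have w := h.toTW
  obtain ⟨F, F', _, _, _, _, ⟨s⟩⟩ := w.exists_ts hq
  have hM := s.le_nB_M h.chM h.nB h.nZ w.tB w.not_nA
  obtain ⟨T, hT, h1⟩ := exists_isSyl_le w.t2.isPGroup (zpowers_le.2 w.tB)
  have BT : B ≤ T := hT.le_of_le_normalizer s.t.two le_normalizer hT.le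
  obtain ⟨z, hz, z1⟩ := (bot_or_exists_ne_one _).resolve_left (inf_centralizer_ne_bot
    (H12.ea_isPGroup s.eZ) hT.isPGroup (H52.n_zc hT.le) s.l.Z_ne)
  have c := com hz.2 (h1 (mem_zpowers t))
  have gz : Gn B R (cj t R) z := ⟨hz.1, fun e => z1 (s.sw_D_eq w.tB w.not_nA ⟨hz.1, e⟩ c),
    fun e => z1 (s.symm.sw_D_eq w.tB (s.sw_not w.tB w.not_nA) ⟨hz.1, e⟩ c)⟩
  have h2 := (h.cz T z (s.syl_of hT).1 (hT.le.trans h.nB) ⟨BT hz.1.1, hz.2⟩ z1).trans hM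
  have h3 := s.syl_B (fun f hf => by
    obtain ⟨k, hk, rfl⟩ := s.trans_gn gz hf
    rw [← cj_cen1]
    exact cj_le_of_le_of_mem h2 hk) h.res
  exact w.not_nA (s.t.nA ((h3.eq_of_le hT.isPGroup BT le_top).le (h1 (mem_zpowers t))))

end H96.H97.QU
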