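/- RF tower (row S5262), slot A1: the automorphisms of `Q₁`. -/
import Cfsg.Agent.H90.RFKit2
import Cfsg.Agent.H55.OcA

set_option autoImplicit false
set_option linter.unusedSectionVars false
set_option linter.unusedSimpArgs false

open Subgroup H63.Oc H90.RF H55.Oc

universe v

namespace H96.RFA1

variable {K : Type*} [Field K] [CharP K 2] {T : TF K} {β : Co T → Co T} {a c d e x : Co T}

theorem e1 (hc : c ∈ sQ1 T) (ha : a ∈ sA T) :
    c * a = a * c * ww T (c.b8 * a.a5) (c.b2 * a.a5) := by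
  have h : c.a1 = 0 := hc
  obtain ⟨h1, h2, h3, h4, h5, h6, h7, h8, h9⟩ := ha
  ext <;> simp [ww, h, h1, h2, h3, h4, h5, h6, h7, h8, h9] <;> grind

theorem e2 (hc : c ∈ sQ1 T) (he : e ∈ sA7 T) (hx : x ∈ sA T) (k : e * c = c * e * x) :
    x.a5 = e.a7 * T.σ c.b2 + T.σ c.b8 * e.a3 := by
  have h : c.a1 = 0 := hc
  obtain ⟨h1, h2, h3, h4, h5, h6, h7⟩ := he
  obtain ⟨k1, k2, k3, k4, k5, k6, k7, k8, k9⟩ := hx
  have := congrArg Co.a5 k
  simp [h, h1, h2, h3, h4, h5, h6, h7, k1, k2, k3, k4, k5, k6, k7, k8, k9] at this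
  grind

theorem e3 (hd : d ∈ sD T) (he : e ∈ sA7 T) :
    d * e = e * d * ww T (d.a8 * e.a3 + e.a7 * d.b4) (d.b6 * e.a3 + e.a7 * d.a2) := by
  obtain ⟨k1, k2, k3⟩ := hd
  obtain ⟨h1, h2, h3, h4, h5, h6, h7⟩ := he
  ext <;> simp [ww, h1, h2, h3, h4, h5, h6, h7, k1, k2, k3] <;> grind

theorem e4 (hc : c ∈ sD T) (hd : d ∈ sD T) (hx : x ∈ sA T) (k : c * d = d * c * x) :
    x.a5 = c.a8 * d.a2 + c.b6 * d.b4 + d.a8 * c.a2 + d.b6 * c.b4 := by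
  obtain ⟨h1, h2, h3⟩ := hc
  obtain ⟨h4, h5, h6⟩ := hd
  obtain ⟨k1, k2, k3, k4, k5, k6, k7, k8, k9⟩ := hx
  have := congrArg Co.a5 k
  simp [h1, h2, h3, h4, h5, h6, k1, k2, k3, k4, k5, k6, k7, k8, k9] at this
  grind

theorem wwW (s r : K) : ww T s r ∈ sW T := ⟨rfl, rfl, rfl, rfl, rfl, rfl, rfl, rfl, rfl, rfl⟩

theorem ww_mul (s r s' r' : K) : ww T (s + s') (r + r') = ww T s r * ww T s' r' := by
  ext <;> simp [ww]

theorem ww_inj {s r s' r' : K} (h : ww T s r = ww T s' r') : s = s' ∧ r = r' :=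
  ⟨congrArg Co.a6 h, congrArg Co.a4 h⟩

theorem eq_ww (h : c ∈ sW T) : c = ww T c.a6 c.a4 := by
  obtain ⟨h1, h2, h3, h4, h5, h6, h7, h8, h9, h10⟩ := h
  ext <;> simp [ww, h1, h2, h3, h4, h5, h6, h7, h8, h9, h10]

theorem x5A (v : K) : x5 T v ∈ sA T := ⟨rfl, rfl, rfl, rfl, rfl, rfl, rfl, rfl, rfl⟩
theorem WQ : sW T ≤ sQ1 T := fun _ h => h.1
theorem AQ : sA T ≤ sQ1 T := fun _ h => h.1
theorem A7Q : sA7 T ≤ sQ1 T := fun _ h => h.1
theorem DQ : sD T ≤ sQ1 T := fun _ h => h.1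

section

variable (h : Au (sQ1 T) β)
include h

theorem rel (hc : c ∈ sQ1 T) (hd : d ∈ sQ1 T) (hx : x ∈ sQ1 T) (k : c * d = d * c * x) :
    β c * β d = β d * β c * β x := by
  rw [← h.mul c hc d hd, k, h.mul _ (mul_mem hd hc) x hx, h.mul d hd c hc]

theorem cm_tr {X : Subgroup (Co T)} (hX : X ≤ sQ1 T) (p : Pr β X) (hc : c ∈ sQ1 T)
    (k : Cm (sQ1 T) X c) : Cm (sQ1 T) X (β c) := fun d hd => by
  obtain ⟨d, hd', rfl⟩ := h.sur d hd
  obtain ⟨x, hx, e⟩ := k d hd'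
  exact ⟨β x, p x hx, rel h hc hd' (hX hx) e⟩

theorem prB : Pr β ⊥ := fun c hc => by rw [mem_bot.1 hc, h.one]; exact one_mem _

theorem prW : Pr β (sW T) := fun c hc =>
  (W_iff1 _).2 ⟨h.mem c hc.1, cm_tr h bot_le (prB h) hc.1 ((W_iff1 c).1 hc).2⟩

theorem prA : Pr β (sA T) := fun c hc =>
  (A_iff1 _).2 ⟨h.mem c hc.1, cm_tr h WQ (prW h) hc.1 ((A_iff1 c).1 hc).2⟩

theorem prA7 : Pr β (sA7 T) := fun c hc =>
  (A7_iff _).2 ⟨h.mem c hc.1, cm_tr h AQ (prA h) hc.1 ((A7_iff c).1 hc).2⟩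

theorem b1 (hc : c ∈ sQ1 T) (ha : a ∈ sA T) : β (ww T (c.b8 * a.a5) (c.b2 * a.a5)) =
    ww T ((β c).b8 * (β a).a5) ((β c).b2 * (β a).a5) :=
  mul_left_cancel ((rel h hc (AQ ha) (WQ (wwW _ _)) (e1 hc ha)).symm.trans
    (e1 (h.mem c hc) (prA h a ha)))

theorem b1' (s r v : K) : β (ww T (s * v) (r * v)) =
    ww T ((β (y2 T r * y8 T s)).b8 * (β (x5 T v)).a5) ((β (y2 T r * y8 T s)).b2 * (β (x5 T v)).a5) := by
  have := b1 h (c := y2 T r * y8 T s) (by simp [mem_sQ1, y2, y8]) (x5A v)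
  simpa [y2, y8, x5] using this

theorem ww_ne : β (ww T 1 0) ≠ 1 := fun k =>
  one_ne_zero (congrArg Co.a6 (h.inj _ (WQ (wwW _ _)) k))

theorem m_ne : (β (x5 T 1)).a5 ≠ 0 := fun k => ww_ne h (by
  have := b1' h 1 0 1
  rw [k, mul_one, mul_one, mul_zero, mul_zero] at this
  exact this)

theorem prD : Pr β (sD T) := fun c hc => by
  have := b1 h hc.1 (x5A 1)
  rw [hc.2.1, hc.2.2, zero_mul, show ww T 0 0 = 1 from rfl, h.one] at this
  obtain ⟨k1, k2⟩ := ww_inj (show ww T 0 0 = _ from this)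
  exact ⟨h.mem c hc.1, (mul_eq_zero.1 k2.symm).resolve_right (m_ne h),
    (mul_eq_zero.1 k1.symm).resolve_right (m_ne h)⟩

theorem part1 : ∀ i, Pr β (z1 T i)
  | 0 => prB h
  | 1 => prW h
  | 2 => prA h
  | 3 => prA7 h
  | 4 => prD h
  | _ + 5 => h.mem

theorem scal (s r v : K) : β (ww T (s * v) (r * v)) =
    ww T ((β (ww T s r)).a6 * ((β (x5 T v)).a5 / (β (x5 T 1)).a5))
      ((β (ww T s r)).a4 * ((β (x5 T v)).a5 / (β (x5 T 1)).a5)) := by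
  have k := b1' h s r 1
  rw [mul_one, mul_one] at k
  have := m_ne h
  rw [b1' h s r v, k]
  congr 1 <;> simp only [ww] <;> field_simp

theorem add (s r s' r' : K) : β (ww T (s + s') (r + r')) =
    ww T ((β (ww T s r)).a6 + (β (ww T s' r')).a6) ((β (ww T s r)).a4 + (β (ww T s' r')).a4) := by
  rw [ww_mul, h.mul _ (WQ (wwW _ _)) _ (WQ (wwW _ _)), ww_mul, ← eq_ww (prW h _ (wwW _ _)),
    ← eq_ww (prW h _ (wwW _ _))]

theorem canc {s s' : K} (k : ww T ((β (ww T 1 0)).a6 * s) ((β (ww T 1 0)).a4 * s) =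
    ww T ((β (ww T 1 0)).a6 * s') ((β (ww T 1 0)).a4 * s')) : s = s' := by
  obtain ⟨k1, k2⟩ := ww_inj k
  by_contra hne
  refine ww_ne h ?_
  rw [eq_ww (prW h _ (wwW 1 0)), (mul_eq_mul_left_iff.1 k1).resolve_left hne,
    (mul_eq_mul_left_iff.1 k2).resolve_left hne]
  rfl

theorem part3 [Finite K] : ∃ (φ : RingAut K) (a b c d : K), ∀ s r,
    β (ww T s r) = ww T (a * φ s + b * φ r) (c * φ s + d * φ r) := by
  have s1 : ∀ v, β (ww T v 0) = _ := fun v => by simpa only [one_mul, zero_mul] using scal h 1 0 v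
  have s2 : ∀ v, β (ww T 0 v) = _ := fun v => by simpa only [one_mul, zero_mul] using scal h 0 1 v
  let f : K →+* K :=
    { toFun := fun v => (β (x5 T v)).a5 / (β (x5 T 1)).a5
      map_one' := div_self (m_ne h)
      map_mul' := fun u v => canc h (by
        rw [← s1, ← mul_assoc, ← mul_assoc]
        have := scal h u 0 v
        rw [zero_mul] at this
        rw [this, s1 u]
        rfl)
      map_zero' := by rw [show x5 T 0 = 1 from rfl, h.one, Co.one_a5, zero_div]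
      map_add' := fun u v => canc h (by
        rw [← s1, mul_add, mul_add]
        have := add h u 0 v 0
        rw [add_zero] at this
        rw [this, s1 u, s1 v]
        rfl) }
  refine ⟨RingEquiv.ofBijective f (Finite.injective_iff_bijective.1 f.injective), (β (ww T 1 0)).a6,
    (β (ww T 0 1)).a6, (β (ww T 1 0)).a4, (β (ww T 0 1)).a4, fun s r => ?_⟩
  have := add h s 0 0 r
  rw [add_zero, zero_add] at this
  rw [this, s1 s, s2 r]
  rfl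

theorem part2 (hW : ∀ c ∈ sW T, β c = c) : Cg (z1 T) 5 β id := by
  have p1 : ∀ c ∈ sQ1 T, ∀ a ∈ sA T, c.b8 * a.a5 = (β c).b8 * (β a).a5 ∧
      c.b2 * a.a5 = (β c).b2 * (β a).a5 := fun c hc a ha =>
    ww_inj ((hW _ (wwW _ _)).symm.trans (b1 h hc ha))
  have y8Q : y8 T 1 ∈ sQ1 T := rfl
  have y2Q : y2 T 1 ∈ sQ1 T := rfl
  have hm := m_ne h
  obtain ⟨m, em⟩ : ∃ m, (β (x5 T 1)).a5 = m := ⟨_, rfl⟩
  rw [em] at hm
  have q1 : ∀ c ∈ sQ1 T, c.b8 = (β c).b8 * m ∧ c.b2 = (β c).b2 * m := fun c hc => by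
    have := p1 c hc _ (x5A 1)
    rw [em] at this
    simpa only [x5, mul_one] using this
  have q2 : ∀ a ∈ sA T, (β a).a5 = m * a.a5 := fun a ha => by
    have k1 := (p1 _ y8Q a ha).1
    have k2 := (q1 _ y8Q).1
    simp only [y8] at k1 k2
    grind
  have p2 : ∀ c ∈ sQ1 T, ∀ e ∈ sA7 T, m * (e.a7 * T.σ c.b2 + T.σ c.b8 * e.a3) =
      (β e).a7 * T.σ (β c).b2 + T.σ (β c).b8 * (β e).a3 := fun c hc e he => by
    obtain ⟨x, hx, k⟩ := ((A7_iff e).1 he).2 c hc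
    rw [← e2 hc he hx k, ← q2 x hx]
    exact e2 (h.mem c hc) (prA7 h e he) (prA h x hx) (rel h he.1 hc hx.1 k)
  have q3 : ∀ e ∈ sA7 T, (β e).a3 = m * T.σ m * e.a3 ∧ (β e).a7 = m * T.σ m * e.a7 := fun e he => by
    have k1 := p2 _ y8Q e he
    have k2 := p2 _ y2Q e he
    have k3 := congrArg T.σ (q1 _ y8Q).1
    have k4 := congrArg T.σ (q1 _ y8Q).2
    have k5 := congrArg T.σ (q1 _ y2Q).1
    have k6 := congrArg T.σ (q1 _ y2Q).2
    simp only [y8, y2, map_mul, map_one, map_zero] at k1 k2 k3 k4 k5 k6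
    constructor <;> grind
  have p3 : ∀ d ∈ sD T, ∀ e ∈ sA7 T,
      d.a8 * e.a3 + e.a7 * d.b4 = (β d).a8 * (β e).a3 + (β e).a7 * (β d).b4 ∧
      d.b6 * e.a3 + e.a7 * d.a2 = (β d).b6 * (β e).a3 + (β e).a7 * (β d).a2 := fun d hd e he =>
    ww_inj ((hW _ (wwW _ _)).symm.trans (mul_left_cancel
      ((rel h hd.1 he.1 (WQ (wwW _ _)) (e3 hd he)).symm.trans (e3 (prD h d hd) (prA7 h e he)))))
  have x3A : x3 T 1 ∈ sA7 T := ⟨rfl, rfl, rfl, rfl, rfl, rfl, rfl⟩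
  have x7A : x7 T 1 ∈ sA7 T := ⟨rfl, rfl, rfl, rfl, rfl, rfl, rfl⟩
  have q4 : ∀ d ∈ sD T, d.a8 = (β d).a8 * (m * T.σ m) ∧ d.b6 = (β d).b6 * (m * T.σ m) ∧
      d.b4 = (β d).b4 * (m * T.σ m) ∧ d.a2 = (β d).a2 * (m * T.σ m) := fun d hd => by
    have k1 := p3 d hd _ x3A
    have k2 := p3 d hd _ x7A
    rw [(q3 _ x3A).1, (q3 _ x3A).2] at k1
    rw [(q3 _ x7A).1, (q3 _ x7A).2] at k2
    simp only [x3, x7, mul_one, mul_zero, zero_mul, add_zero, zero_add, one_mul] at k1 k2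
    exact ⟨k1.1, k1.2, k2.1.trans (mul_comm _ _), k2.2.trans (mul_comm _ _)⟩
  have y6D : y6 T 1 ∈ sD T := ⟨rfl, rfl, rfl⟩
  have y4D : y4 T 1 ∈ sD T := ⟨rfl, rfl, rfl⟩
  obtain rfl : m = 1 := by
    have k := e4 (prD h _ y6D) (prD h _ y4D) (prA h _ (x5A 1)) (rel h y6D.1 y4D.1 (x5A 1).1 c64)
    obtain ⟨k1, k2, k3, k4⟩ := q4 _ y6D
    obtain ⟨k5, k6, k7, k8⟩ := q4 _ y4D
    simp only [y6, y4] at k k1 k2 k3 k4 k5 k6 k7 k8
    rw [em] at k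
    refine eq_one_of_pw (T := T) hm (i := 3) (j := 2) 0 rfl ?_
    rw [zpow_ofNat, zpow_ofNat]
    grind
  simp only [map_one, mul_one, one_mul] at q1 q2 q3 q4
  intro i hi c hc
  interval_cases i
  · rw [hW c hc]; exact mem_bot.2 (inv_mul_cancel c)
  · obtain ⟨k1, k2, k3, k4, k5, k6, k7, k8, k9⟩ := prA h c hc
    have k := q2 c hc
    obtain ⟨h1, h2, h3, h4, h5, h6, h7, h8, h9⟩ := (hc : c ∈ sA T)
    exact memW (h1.trans k1.symm) (h2.trans k2.symm) (h3.trans k3.symm) (h4.trans k4.symm)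
      (h5.trans k5.symm) (h6.trans k6.symm) (h7.trans k7.symm) (h8.trans k8.symm)
      (h9.trans k9.symm) k.symm
  · obtain ⟨k1, k2, k3, k4, k5, k6, k7⟩ := prA7 h c hc
    have k := q3 c hc
    obtain ⟨h1, h2, h3, h4, h5, h6, h7⟩ := (hc : c ∈ sA7 T)
    exact memA (h1.trans k1.symm) (h2.trans k2.symm) (h3.trans k3.symm) k.1.symm
      (h4.trans k4.symm) (h5.trans k5.symm) k.2.symm (h6.trans k6.symm) (h7.trans k7.symm)
  · obtain ⟨k1, k2, k3⟩ := prD h c hc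
    obtain ⟨k4, k5, k6, k7⟩ := q4 c hc
    obtain ⟨h1, h2, h3⟩ := (hc : c ∈ sD T)
    show c⁻¹ * β c ∈ sA7 T
    simp [mem_sA7, h1, h2, h3, k1, k2, k3, ← k4, ← k5, ← k6, ← k7, CharTwo.add_self_eq_zero]
  · have k1 : (β c).a1 = 0 := h.mem c hc
    have h1 : c.a1 = 0 := hc
    obtain ⟨k2, k3⟩ := q1 c hc
    show c⁻¹ * β c ∈ sD T
    simp [mem_sD, h1, k1, ← k2, ← k3, CharTwo.add_self_eq_zero]

end

theorem jobA1 : JobA1.{v} := fun _ _ _ _ _ _ h => ⟨part1 h, part2 h, part3 h⟩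

end H96.RFA1
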