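import Cfsg.Agent.H96.SPGRM

/-! STD-SP (row S3129), type I fusion: claim A. -/

set_option autoImplicit false
set_option linter.unusedSectionVars false

namespace H96.SPG

open H64.SG (Cz mem_Cz)
open H67.UA hiding Par
open H67.SP
open H59.SO (Om E gam Ind)
open H56 H58 QuadraticMap
open H86.SPI H96.SPM

universe u

variable {n : ℕ} {F : Type} [Field F] [StarRing F] [TrivialStar F] [CharP F 2] [Finite F] [Par n F]

theorem hf_inv {x : XU n F} (hx : x * x = 1) (a b : Vn n F) : hf (ac x a) b = hf a (ac x b) := by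
  rw [hf_ac_left, inv_eq_of_mul_eq_one_right hx]

/-- `(ker N)^⊥ = im N` -/
theorem im_or_ker {x : XU n F} (hx : x * x = 1) (d : Vn n F) :
    (∃ y, d = ac x y + y) ∨ ∃ y, ac x y = y ∧ hf d y = 1 := by
  let N : Vn n F →ₗ[F] Vn n F :=
    { toFun := fun y => ac x y + y
      map_add' := fun a b => by rw [ac_add]; abel
      map_smul' := fun c a => by rw [ac_smul, smul_add]; rfl }
  by_cases h : d ∈ LinearMap.range N
  · obtain ⟨y, hy⟩ := h
    exact Or.inl ⟨y, hy.symm⟩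
  obtain ⟨φ, h1, h2⟩ := Submodule.exists_le_ker_of_notMem h
  have key : ∀ v, hf v (fun i => φ (ev i.rev)) = φ v := fun v => by
    conv_rhs => rw [pi_eq_sum_univ v]
    simp only [hf, star_trivial, Fin.rev_rev, map_sum, map_smul, smul_eq_mul]
    refine Finset.sum_congr rfl fun i _ => ?_
    congr 2
    funext j
    rw [ev_apply]
    exact if_congr eq_comm rfl rfl
  refine Or.inr ⟨(φ d)⁻¹ • fun i => φ (ev i.rev), ?_, by
    rw [hf_smul_right', key, inv_mul_cancel₀ h1]⟩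
  rw [ac_smul]
  congr 1
  refine eq_of_hf fun z => ?_
  have h3 : φ (ac x z + z) = 0 := h2 ⟨z, rfl⟩
  rw [hf_inv hx, hf_comm, key, hf_comm, key]
  rw [map_add] at h3
  linear_combination h3 - φ z * two0 F

theorem lf_add {a b : Vn n F} (h : hf a b = 0) : lf (a + b) = lf a + lf b := by
  rw [lf, q0_add, h, add_zero, rt_add]; simp [lf]

theorem jobCA : H86.SPG.JobCA.{u} := by
  intro n F _ _ _ _ _ _ G _ _ e t _ _ hD hN ⟨δ, Φ, hΦ⟩ u d hu hd
  have hI := mi n F
  obtain ⟨ha, hsq, -⟩ := hD.alt u d hu hd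
  have hud : ac u d = d := hD.uq u _ _ (fun v => by
    rw [← hf_inv hu, ← hd, ← ac_mul, hu, ac_one, hf_comm]) hd
  have hxd : ac (u * TT d) d = d := by rw [ac_mul, ac_TT, hf_self, zero_smul, add_zero, hud]
  generalize u * TT d = x at ha hsq hxd ⊢
  obtain ⟨j, g, hj, hx⟩ := hN.nf x hsq ha
  have hw : (iO n F δ x).1 ((iO n F δ g).1 (w1 n F)) = (iO n F δ g).1 (w1 n F) := by
    rw [← O.mul_apply, ← Subgroup.coe_mul, ← map_mul, hx, inv_mul_cancel_right, map_mul,
      Subgroup.coe_mul, O.mul_apply, hI.ind δ (al n F j), mem_X0.1 (hN.nfa j hj).2.2]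
  have hw2 : ((iO n F δ g).1 (w1 n F)).2.2 = 1 := snd_fix (hI.isIo δ g).1 _
  generalize (iO n F δ g).1 (w1 n F) = w at hw hw2
  obtain ⟨w', h1, h2, h3⟩ : ∃ w', (iO n F δ x).1 w' = w' ∧ w'.2.2 = 1 ∧
      polar (QD n F δ) (lf d) w' = 0 := by
    rcases im_or_ker hsq d with ⟨y, rfl⟩ | ⟨y, hy, hy1⟩
    · refine ⟨w, hw, hw2, ?_⟩
      rw [lf_add (ha y), polar_add_left, ← hI.lf δ]
      conv_lhs => enter [1]; rw [← hw, O.map_polar]
      exact CharTwo.add_self_eq_zero _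
    · refine ⟨w + polar (QD n F δ) (lf d) w • lf y, ?_, ?_, ?_⟩
      · rw [map_add, map_smul, hw, hI.lf, hy]
      · simpa [lf] using hw2
      · rw [polar_add_right, polar_smul_right, polar_lf δ d (lf y)]
        simp [lf, hy1, CharTwo.add_self_eq_zero]
  have hc : t * e (TT d) = e (TT d) * t := by
    have := hΦ.act (iO n F δ (TT d))
    rw [hI.ti, hΦ.res] at this
    exact mul_inv_eq_iff_eq_mul.1 this
  have hq : Φ (E (QD n F δ) (lf d) w') * Φ (E (QD n F δ) (lf d) w') = 1 := by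
    rw [← map_mul, H59.SO.E_sq, map_one]
  refine ⟨Φ (E (QD n F δ) (lf d) w'), ?_, ?_⟩
  · rw [← hΦ.res, ← map_mul, ← map_mul, H59.SO.comm_E (by rw [hI.lf, hxd]) h1]
  · have := hΦ.act (E (QD n F δ) (lf d) w')
    rw [tO_E, h2, one_smul, H59.SO.E_add (QD_lf δ d) h3 (polar_w0' δ _), ← io_TT hI.toMI1, map_mul,
      hΦ.res, mul_inv_eq_iff_eq_mul] at this
    rw [inv_eq_of_mul_eq_one_right hq, mul_assoc, this, hc, ← mul_assoc, ← mul_assoc, hq, one_mul]

end H96.SPG
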