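import Cfsg.Agent.H86.SPGDef
import Cfsg.Agent.H96.SPMi

/-! STD-SP (row S3129), type I fusion: the model relations `RM`. -/

set_option autoImplicit false
set_option linter.unusedSectionVars false

namespace H96.SPG

open H67.UA hiding Par
open H67.SP
open H67.SA (la cm)
open H59.SO (Om E gam Ind)
open H56 H58 QuadraticMap
open H86.SPI H96.SPM

universe u

variable {n : ℕ} {F : Type} [Field F] [StarRing F] [TrivialStar F] [CharP F 2] [Finite F] [Par n F]

theorem lf_ev (i : Fin (n + 1)) : lf (ev i : Vn n F) = (ev i, 0, 0) := lf_of (q0_ev i)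

theorem polar_u (δ : F) {y : Vn n F} (hy : Hy y) (a b : F) :
    polar (QD n F δ) (lf (ev 0)) (y, a, b) = 0 := by
  rw [polar_lf, q0_ev, rt_zero, zero_mul, add_zero]; exact hf_symm hy.1

theorem tO_E (δ : F) (x : Vn n F) (w : WW n F) :
    tO n F δ (E (QD n F δ) (lf x) w) = E (QD n F δ) (lf x) (w + w.2.2 • w0 n F) := by
  rw [tO, H59.SO.gam_E_one (Gam.ofO_c _), Gam.ofO_apply, Gam.ofO_apply,
    refl_apply_of_orth (polar_w0 δ _), refl_apply, QD_w0, polar_w0, H59.SO.sub2 F, inv_one, one_mul]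

theorem hf10 : hf (ev 1 : Vn n F) (ev 0) = 0 := by
  have h5 := Par.five (n := n) (F := F)
  rw [hf_ev, if_neg]
  intro h
  have := congrArg Fin.val h
  rw [Fin.val_rev, Fin.val_zero, Fin.val_one', Nat.mod_eq_of_lt (by omega)] at this
  omega

theorem TT_id (x v : Vn n F) (h : hf v x = 0) :
    TT x * (TT v * EE x (rt (1 + q0 v) • v) (q0 v)) = TT (v + (1 + rt (q0 v)) • x) := by
  refine ac_ext fun y => ?_
  rw [ac_mul, ac_mul, ac_TT, ac_TT, ac_TT, ac_EE (ok (by rw [hf_smul_left, h, mul_zero]) _), rt_add,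
    show rt (1 : F) = 1 from sq_inj (rt_sq 1 |>.trans (one_pow 2).symm)]
  have hs := rt_sq (q0 v)
  generalize rt (q0 v) = s at hs ⊢
  funext i
  simp only [hf_add_left, hf_add_right, hf_smul_left, hf_smul_right', h, hf_symm h, hf_self,
    Pi.add_apply, Pi.smul_apply, smul_eq_mul, mul_zero, add_zero, ← hs]
  linear_combination (-(s * hf y x * x i)) * two0 F

theorem jobRM : H86.SPG.JobRM.{u} := by
  intro n F _ _ _ _ _ _ G _ _ e t _ _ ⟨δ, Φ, hΦ⟩
  have hI := mi n F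
  have hT := mT n F
  have h1 : q0 (ev 1 : Vn n F) = 0 := q0_ev 1
  have hsq : Φ (Ew δ (ev 1)) * Φ (Ew δ (ev 1)) = 1 := by rw [← map_mul, H59.SO.E_sq, map_one]
  have hinv : (Φ (Ew δ (ev 1)))⁻¹ = Φ (Ew δ (ev 1)) := inv_eq_of_mul_eq_one_right hsq
  have hc : ∀ g, t * e g = e g * t := fun g => by
    have := hΦ.act (iO n F δ g)
    rw [hI.ti, hΦ.res] at this
    exact mul_inv_eq_iff_eq_mul.1 this
  have ht : Φ (Ew δ (ev 1)) * t * (Φ (Ew δ (ev 1)))⁻¹ = t * e (TT (ev 1)) := by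
    have := hΦ.act (Ew δ (ev 1))
    rw [hI.tw δ _ h1, map_mul, hΦ.res, mul_inv_eq_iff_eq_mul] at this
    rw [hinv, mul_assoc, this, hc, ← mul_assoc, ← mul_assoc, hsq, one_mul]
  refine ⟨δ, fun y a b => Φ (E (QD n F δ) (lf (ev 0)) (y, a, b)), Φ (Ew δ (ev 1)),
    fun y a b y' a' b' hy hy' => ?_, fun y a hy => ?_, fun y a b hy => ?_,
    fun v y a b hv hy => ?_, hsq, fun y a b hy => ?_, ht, fun v hv hv1 => ?_⟩
  · rw [← map_mul, ← H59.SO.E_add (QD_lf δ _) (polar_u δ hy a b) (polar_u δ hy' a' b')]; rfl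
  · rw [← hΦ.res, hI.ee δ _ _ _ hy.1]
  · rw [hΦ.act, tO_E]
    simp [w0]
  · rw [← hΦ.res, ← map_inv, ← map_mul, ← map_mul, H59.SO.E_conj, hI.lf, ac_TT, hf_symm hv.1,
      zero_smul, add_zero, io_TT hI.toMI1, H59.SO.E_apply (QD_lf δ v) (polar_w0' δ _), polar_w0,
      polar_lf, QD_w0, hf_comm v y]
    congr 2
    refine Prod.ext ?_ (Prod.ext ?_ ?_)
    · funext i
      simp [lf, w0]; ring
    · simp [lf, w0]; ring
    · simp [lf, w0]
  · rw [← map_inv, ← map_mul, ← map_mul, H59.SO.E_conj, Ew_lf δ h1 hf10, q0_ev, rt_zero, zero_smul,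
      add_zero, H59.SO.E_apply (QD_lf δ _) (polar_lf_w1 δ h1), polar_w1, polar_lf, QD_w1, h1,
      rt_zero, hf_comm (ev 1) y, lf_ev 1]
    congr 2
    refine Prod.ext ?_ (Prod.ext ?_ ?_)
    · funext i
      simp [w1]; ring
    · simp [w1]
    · simp [w1]
  · have hp : ac (TT v) (ev 1) = (ev 1 : Vn n F) := by
      rw [ac_TT, hf_symm hv1, zero_smul, add_zero]
    have h2 : Φ (Ew δ (ev 1)) * e (TT v) * (Φ (Ew δ (ev 1)))⁻¹ = e (th (ev 1) (TT v)) := by
      rw [hinv, ← hΦ.res, ← hΦ.res, hT.io δ _ _ h1 hp, map_mul, map_mul]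
    rw [← TT_id (ev 1) v hv1, ← hT.tt _ _ h1 hv1, map_mul, ← mul_assoc t, ← ht, ← h2]
    group

end H96.SPG
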