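import Cfsg.Agent.H96.TwJ
import Cfsg.Agent.H98.CGJ3

/-! Two opposite blocks interchanged by an element of `N(B)`: only `q = 4`, `D = 1` survives. -/

set_option autoImplicit false

namespace H96.PU

open Subgroup Cfsg H98 H96 H96.CG H98.H96.CG
open H52 (zc)
open scoped commutatorElement

universe u

variable {G : Type u} [Group G] [Finite G] {q : ℕ} {B R R' A A' X P Q T E W Y : Subgroup G}
  {a a' b d f g g' h w x y z φ : G}

theorem exists_odd_pow (h : g ∉ X) (h2 : g * g ∈ X) : ∃ n, T2 (g ^ n) ∧ g ^ n ∉ X := by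
  obtain ⟨k, m, hm, e⟩ := Nat.exists_eq_two_pow_mul_odd (orderOf_pos g).ne'
  refine ⟨m, ⟨k, by rw [← pow_mul, mul_comm, ← e, pow_orderOf_eq_one]⟩, fun h3 => h ?_⟩
  obtain ⟨j, rfl⟩ := hm
  rwa [pow_succ, pow_mul, sq, X.mul_mem_cancel_left (pow_mem h2 j)] at h3

namespace TW

variable {F F' : Type} [Field F] [Fintype F] [Field F'] [Fintype F'] (s : TW q B R R' A A' F F')
include s

theorem sg_sw (hy : y ∈ nor B) (h : y ∉ nor A) (hg : g ∈ nor A) (hg' : g ∈ nor B) :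
    s.c.sg (y * g * y⁻¹) = s.c.sg g := by
  obtain ⟨e, he⟩ := aut_eq_pow (s.c.sg g)
  have h1 : ∀ k ∈ R', k ∈ nor B → g * k * g⁻¹ * (k ^ e)⁻¹ ∈ B := fun k hk hk' => by
    have kA := s.nA_of hk hk'
    have w := s.c.sl_a (s.nR_of kA) hk'
    rw [s.l.ss s.c s.r s.c' hk hk'] at w
    have w' := (s.c.sl_a (s.nR_of hg) hg').conj_pow w hg kA e
    rw [he _ w.ne, mul_inv_cancel₀ (pow_ne_zero e w.ne)] at w'
    have h2 := mul_mem (conj_mem_of_mem_normalizer (s.nR' hg hg') hk) (inv_mem (pow_mem hk e))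
    have h3 := mul_mem (mul_mem (mul_mem hg' hk') (inv_mem hg')) (inv_mem (pow_mem hk' e))
    have h4 := s.nA_of h2 h3
    obtain ⟨l, h0, w, h5⟩ := s.c'.lin _ h2 h3
    exact h5 (f2_sq_inj s.c'.two ((((Co.wt_b w h0).triv_iff h4).1
      ((w'.triv_iff h4).2 ⟨rfl, rfl⟩)).2.trans (one_pow 2).symm))
  have gA := s.nA_conj hy hg hg'
  have gB := mul_mem (mul_mem hy hg') (inv_mem hy)
  refine RingEquiv.ext fun l => ?_
  by_cases hl : l = 0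
  · simp [hl]
  obtain ⟨k, ⟨hk, hk'⟩, w⟩ := s.c.scal_z hl
  have h2 := conj_mem_of_mem_normalizer hy (h1 _ (s.sw_R_mem (inv_mem hy) (fun e => h (inv_mem_iff.1 e)) hk)
    (mul_mem (mul_mem (inv_mem hy) hk') (inv_mem (inv_mem hy))))
  rw [conj_pow, show y * (g * (y⁻¹ * k * y⁻¹⁻¹) * g⁻¹ * (y⁻¹ * k ^ e * y⁻¹⁻¹)⁻¹) * y⁻¹ =
    y * g * y⁻¹ * k * (y * g * y⁻¹)⁻¹ * (k ^ e)⁻¹ by group] at h2
  have h3 := ((((s.c.sl_z (s.nR_of gA) gB).conj_pow w (Co.nZ gB) (Co.nZ hk') e).triv_iff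
    (Co.nZ (le_normalizer h2))).1 fun z hz => cm_one.2 (zcom hz h2) ▸ one_mem _).2
  rw [he l hl, (mul_inv_eq_one₀ (pow_ne_zero e hl)).1 h3]

theorem comm_B (hP : IsPGroup 2 P) (h : P ≤ nor B) (hx : x ∈ P) (hy : y ∈ P) : ⁅x, y⁆ ∈ B := by
  have h1 : ∀ {x y}, x ∈ P → y ∈ P → x ∈ nor A → ⁅x, y⁆ ∈ B := fun {x y} hx hy hx' => by
    have h2 := s.nA_conj (h hy) (inv_mem hx') (inv_mem (h hx))
    have h3 : ⁅x, y⁆ = x * (y * x⁻¹ * y⁻¹) := by group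
    have h4 : ⁅x, y⁆ ∈ P := cm_mem (le_normalizer hx) hy
    refine s.mem_B (h3 ▸ mul_mem hx' h2) (h h4) (T2.of_mem hP h4) ?_
    by_cases e : y ∈ nor A
    · exact s.c.sg_comm (s.nR_of hx') (h hx) (s.nR_of e) (h hy)
    · rw [h3, s.c.sg_mul (s.nR_of hx') (h hx) (s.nR_of h2) (h (mul_mem (mul_mem hy (inv_mem hx)) (inv_mem hy))),
        s.sg_sw (h hy) e (inv_mem hx') (inv_mem (h hx)), s.c.sg_inv (s.nR_of hx') (h hx), mul_inv_cancel]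
  by_cases e : x ∈ nor A
  · exact h1 hx hy e
  by_cases e' : y ∈ nor A
  · simpa using inv_mem (h1 hy hx e')
  rw [show ⁅x, y⁆ = ⁅x * y⁻¹, y⁆ by group]
  exact h1 (mul_mem hx (inv_mem hy)) hy (s.sw_mul (h hx) e (inv_mem (h hy)) fun h => e' (inv_mem_iff.1 h))

theorem comm_cj (hP : IsPGroup 2 P) (h : P ≤ nor (cj g B)) (hx : x ∈ P) (hy : y ∈ P) : ⁅x, y⁆ ∈ cj g B := by
  rw [nor, ← cj_normalizer, le_cj_iff] at h
  have := s.comm_B (isPGroup_cj _ hP) h (conj_mem_cj hx) (conj_mem_cj hy)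
  rw [mem_cj, show g⁻¹ * ⁅x, y⁆ * g = ⁅g⁻¹ * x * g⁻¹⁻¹, g⁻¹ * y * g⁻¹⁻¹⁆ by group]
  exact this

theorem exists_compl : ∃ U : Subgroup G, IsPGroup 2 U ∧ U ≤ nor B ∧ (∀ u ∈ U, u ∈ B → u = 1) ∧
    IsSyl 2 (B ⊔ U) (nor B) := by
  obtain ⟨p, hp, hp'⟩ := s.exists_prime
  haveI := Fact.mk hp
  have KB : R ⊓ nor B ⊔ R' ⊓ nor B ≤ nor B := sup_le inf_le_right inf_le_right
  have KA : R ⊓ nor B ⊔ R' ⊓ nor B ≤ nor A :=
    sup_le (inf_le_left.trans s.l.bk.RA) fun x hx => s.nA_of hx.1 hx.2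
  have h1 : ∀ k ∈ R ⊓ nor B ⊔ R' ⊓ nor B, s.c.sg k = 1 := fun k hk => by
    refine (sup_le (b := R' ⊓ nor B) (c := ⟨⟨⟨{k | k ∈ nor A ⊓ nor B ∧ s.c.sg k = 1}, ?_⟩, ?_⟩, ?_⟩)
      (fun k hk => ⟨⟨s.l.bk.RA hk.1, hk.2⟩, s.c.sg_R hk.1 hk.2⟩)
      (fun k hk => ⟨⟨s.nA_of hk.1 hk.2, hk.2⟩, s.l.ss s.c s.r s.c' hk.1 hk.2⟩) hk).2
    · exact fun ha hb => ⟨mul_mem ha.1 hb.1, by
        rw [s.c.sg_mul (s.nR_of ha.1.1) ha.1.2 (s.nR_of hb.1.1) hb.1.2, ha.2, hb.2, mul_one]⟩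
    · exact ⟨one_mem _, s.c.sg_one⟩
    · exact fun ha => ⟨inv_mem ha.1, by rw [s.c.sg_inv (s.nR_of ha.1.1) ha.1.2, ha.2, inv_one]⟩
  have n1 : nor A ⊓ nor B ≤ nor (R ⊓ nor B) := le_normalizer_inf (inf_le_left.trans s.l.nA_le)
    (le_normalizer_of_le inf_le_right)
  have n2 : nor A ⊓ nor B ≤ nor (R' ⊓ nor B) := le_normalizer_inf (fun x hx => s.nR' hx.1 hx.2)
    (le_normalizer_of_le inf_le_right)
  have nK : nor B ≤ nor (R ⊓ nor B ⊔ R' ⊓ nor B) := fun y hy => by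
    by_cases e : y ∈ nor A
    · exact le_normalizer_sup n1 n2 ⟨e, hy⟩
    · rw [← cj_eq_self_iff, cj_sup, cj_inf, cj_inf, s.sw_R hy e, s.symm.sw_R hy (s.sw_not hy e),
        cj_eq_self_of_mem hy, sup_comm]
  set K := R ⊓ nor B ⊔ R' ⊓ nor B
  obtain ⟨P, hP⟩ := exists_isSyl p K
  obtain ⟨U, hU⟩ := exists_isSyl 2 (nor B ⊓ nor P)
  have UB := hU.le.trans inf_le_left
  obtain ⟨V, hV, h2⟩ := exists_isSyl_le (two_sup s.t.two hU.isPGroup UB) (sup_le le_normalizer UB)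
  refine ⟨U, hU.isPGroup, UB, fun u hu e => ?_, le_antisymm h2 (fun v hv => ?_) ▸ hV⟩
  · have h3 : ∀ {R R' A A' : Subgroup G} {F F' : Type} [Field F] [Fintype F] [Field F'] [Fintype F']
        (s : TW q B R R' A A' F F'), R ⊓ nor B ≤ K → K ≤ nor (R ⊓ nor B) → u ∈ zc B ⊓ cen R :=
        fun s h h' => by
      obtain ⟨p2, k, hk, hk', kB, pk⟩ := s.exists_pel hp hp'
      have h4 := hP.inf_of_le_normalizer h (hP.le.trans h')
      have h5 := IsPGroup.disjoint_of_ne p 2 p2 _ _ hP.isPGroup s.t.two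
      obtain ⟨x, hx, h6⟩ := (bot_or_exists_ne_one (P ⊓ _)).resolve_left fun h6 => kB (by
        rw [← h4.eq_of_le pk (h6 ▸ bot_le) (zpowers_le.2 ⟨hk, hk'⟩), zpowers_eq_bot] at h6
        exact h6 ▸ B.one_mem)
      exact s.free hx.2.1 hx.2.2 (fun h => h6 (disjoint_def.1 h5 hx.1 h)) e (cm_one.1
        (disjoint_def.1 h5 (cm_mem' hx.1 (hU.le hu).2) (cm_mem hx.2.2 e)))
    have h4 := h3 s le_sup_left ((le_inf KA KB).trans n1)
    exact s.DD h4.1 h4.2 (h3 s.symm le_sup_right ((le_inf KA KB).trans n2)).2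
  · obtain ⟨t, ht, k, hk, rfl⟩ := (mem_sup_left_norm (UB.trans nK)).1 (hU.le_sup_of_normal
      (inf_le_left.trans nK) hV.isPGroup (le_sup_right.trans h2) (hV.le.trans (hP.frattini KB nK).ge) hv)
    rw [sup_comm]
    exact mul_mem_sup ht (s.mem_B (KA hk) (KB hk) (T2.of_mem hV.isPGroup
      ((V.mul_mem_cancel_left (h2 (mem_sup_right ht))).1 hv)) (h1 k hk))

theorem fb (hz : z * z = 1) (hc : cen1 z ≤ nor B) (h : z ∈ cj g B) : cj g (zc B) ≤ B := by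
  obtain ⟨T, hT, e⟩ := s.exists_syl
  have u := s.l.cj g
  have k : ∀ {E}, IsElementaryAbelian 2 E → z ∈ E → Nat.card A ≤ Nat.card E → E ≤ B := fun hE h =>
    s.l.side_le hT e hE (le_trans (fun x hx => mem_cen1.2 (ea_com hE hx h)) hc)
  rw [H52.cj_zc]
  exact (u.invol h hz).elim (fun h => u.tri.zA.trans (k u.tri.eA h (card_cj g A).ge))
    fun h => u.tri.zA'.trans (k u.tri.eA' h (by rw [card_cj, s.t.card_eq]))

theorem exists_cj (hx : x ∈ cj g (zc B)) (hP : IsPGroup 2 P) (h : P ≤ cen1 x) :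
    ∃ g, x ∈ cj g (zc B) ∧ P ≤ nor (cj g B) := by
  obtain ⟨V, hV, h1⟩ := exists_isSyl_le hP h
  obtain ⟨c, hc, h2⟩ := hV.exists_cj_le (isPGroup_cj g s.t.two) (zc_le_cen1 (H52.cj_zc g B ▸ hx))
  rw [cj_cj] at h2
  exact ⟨c * g, cj_cj c g (zc B) ▸ mem_cj_of_comm hx (mem_cen1.1 hc), h1.trans
    ((s.wc.cj_of_mem (mem_top _)).le_normalizer hV.isPGroup h2 le_top)⟩

theorem exists_Z (hx : x * x = 1) (h : a * x * a⁻¹ ∈ B) : ∃ g, x ∈ cj g (zc B) := by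
  obtain ⟨r, h1⟩ : ∃ r, r * (a * x * a⁻¹) * r⁻¹ ∈ zc B := (s.l.invol h (conj_sq hx a)).elim
    (fun h => (s.l.bk.fuse h).imp fun _ => And.right) fun h => (s.r.bk.fuse h).imp fun _ => And.right
  exact ⟨(r * a)⁻¹, mem_cj.2 (by simpa [mul_assoc] using h1)⟩

theorem exists_fix (h1 : φ ∈ nor A) (h2 : φ ∈ nor B) (h3 : φ * φ = 1) (h4 : φ ∉ B) :
    ∃ a ∈ A ⊓ cen1 φ, a ∉ zc B :=
  let ⟨a, ha, h⟩ := s.c.move_a s.l.bk (s.nR_of h1) h2 (s.sg_ne h1 h2 (T2.of_sq h3) h4)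
  ⟨_, ⟨cm_mem h1 ha, mem_cen1.2 (cm_comm s.t.eA h1 (h3 ▸ one_mem _) ha).symm⟩, h⟩

theorem gn_comm (ha : a ∈ A) (h : a ∉ zc B) (ha' : a' ∈ A') (h' : a' ∉ zc B) : Gn B R R' ⁅a, a'⁆ :=
  ⟨s.t.comm a ha a' ha', fun e => (s.t.reg a ha a' ha' ⟨s.t.comm a ha a' ha', e⟩).elim h h', fun e =>
    (s.r.tri.reg a' ha' a ha ⟨s.r.tri.comm a' ha' a ha, s.t.comm_inv ha ha' ▸ e⟩).elim h' h⟩

theorem sq_Z (hb : b ∈ B) : b * b ∈ zc B := by
  obtain ⟨a, ha, a', ha', rfl⟩ := s.l.dec hb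
  have := s.t.comm a ha a' ha'
  rwa [commutatorElement_def, ea_inv s.t.eA ha, ea_inv s.t.eA' ha', mul_assoc] at this

theorem idx_two (N : ∀ g ∈ nor A, g ∈ nor B → T2 g → g ∈ B) (hP : IsPGroup 2 P) (h : P ≤ nor (cj g B))
    (hx : x ∈ P) (hy : y ∈ P) (e : x ∉ cj g B) (e' : y ∉ cj g B) : x * y ∈ cj g B := by
  rw [nor, ← cj_normalizer] at h
  have k : ∀ {x}, x ∈ P → g⁻¹ * x * g ∈ nor A → x ∈ cj g B := fun hx h1 => mem_cj.2
    (N _ h1 (mem_cj.1 (h hx)) (T2.of_mem (isPGroup_cj g⁻¹ hP) (by simpa using conj_mem_cj (g := g⁻¹) hx)))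
  exact k (mul_mem hx hy) (by
    simpa [mul_assoc] using s.sw_mul (mem_cj.1 (h hx)) (mt (k hx) e) (mem_cj.1 (h hy)) (mt (k hy) e'))

theorem cen_or (hT : IsSyl 2 T (nor B)) : (∀ f, Gn B R R' f → cen1 f ≤ nor B) ∨ zc B ⊓ cen R = ⊥ ∧
    ∃ f ∈ zc B, f ≠ 1 ∧ T ≤ cen1 f ∧ ¬ cen1 f ≤ nor B := by
  by_cases hD : zc B ⊓ cen R = ⊥
  swap
  · exact Or.inl fun f hf => s.cen_sp hD hf
  obtain ⟨f, hf, h⟩ := (bot_or_exists_ne_one _).resolve_left (inf_centralizer_ne_bot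
    (H12.ea_isPGroup s.eZ) hT.isPGroup (H52.n_zc hT.le) s.l.Z_ne)
  refine or_iff_not_imp_right.2 fun h1 z hz => ?_
  obtain ⟨k, hk, rfl⟩ := s.trans_z hD hf.1 h hz.z hz.ne
  rw [← cj_cen1]
  exact cj_le_of_le_of_mem (by_contra fun e =>
    h1 ⟨hD, f, hf.1, h, fun t ht => mem_cen1.2 (com hf.2 ht), e⟩) hk.2

theorem nD0 (hg : g ∈ nor A) : g ∈ nor (zc B ⊓ cen R) := by
  rw [← s.l.D_eq]
  exact le_normalizer_inf le_rfl (le_normalizer_centralizer s.l.nA_le) hg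

theorem ex_opp (hg : g ∈ nor A) (h : g ∉ nor B) : ∃ z ∈ cj g (zc B), z ∈ A ∧ z ∉ zc B := by
  by_contra! e
  have h1 : cj g (zc B) ≤ zc B := fun z hz => e z hz (cj_le_of_le s.t.zA hg hz)
  have h2 := (Uno.nA_opp s.l s.c s.lt hg h).1
  rw [cj_eq_self (mem_normalizer_of_cj_le h1), inf_idem] at h2
  exact s.t.one_lt.ne ((relIndex_eq_one.2 h2.le).symm.trans s.t.idxD)

theorem n1 (hg : g ∈ nor A) (h : g ∉ nor B) (ha : a' ∈ A') (e : g⁻¹ * a' * g ∈ nor B) : a' ∈ zc B := by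
  obtain ⟨z, hz, h1, h2⟩ := s.ex_opp hg h
  have h3 : a' ∈ nor (cj g (zc B)) := by
    rw [nor, ← cj_normalizer]; exact mem_cj.2 (Co.nZ e)
  exact (s.t.reg z h1 a' ha ((Uno.nA_opp s.l s.c s.lt hg h).1.le
    ⟨s.t.comm z h1 a' ha, cm_mem' hz h3⟩)).resolve_left h2

/-- `A'` is transitive on the conjugates of `B` in `N(A)` other than `B` -/
theorem tr (hg : g ∈ nor A) (h : g ∉ nor B) (hg' : g' ∈ nor A) (h' : g' ∉ nor B) :
    ∃ a' ∈ A', g'⁻¹ * a' * g ∈ nor B := by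
  obtain ⟨v, hv, h1, h2⟩ := s.ex_opp hg h
  have e := (Uno.nA_opp s.l s.c s.lt hg' h').1
  have h3 : cj g' (zc B) ≤ A := cj_le_of_le s.t.zA hg'
  have n : cj g' (zc B) ≤ nor (zc B) := fun x hx => Co.nZ (le_normalizer (s.t.AB (h3 hx)))
  have h4 : zc B ⊔ cj g' (zc B) = A := eq_of_le_of_card_ge (sup_le s.t.zA h3) (by
    have h5 := H12.card_sup_mul_card_inf n
    rw [inf_comm, sup_comm, e, card_cj] at h5
    have h6 := s.cardZ
    have h7 : 0 < Nat.card ↥(zc B ⊓ cen R) := Nat.card_pos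
    rw [s.t.card_A]
    refine Nat.le_of_mul_le_mul_right (le_of_eq ?_) h7
    rw [h5]; nth_rw 3 [h6]; ring)
  obtain ⟨z, hz, u, hu, e1⟩ := (mem_sup_right_norm n).1 (h4.ge h1)
  obtain ⟨a', ha', d, hd, -, e2⟩ := s.t.sur_mem h1 h2 hz
  refine ⟨a', ha', by_contra fun h5 => h2 ?_⟩
  have k : g'⁻¹ * a' * g ∈ nor A := mul_mem (mul_mem (inv_mem hg') (s.t.nA (s.t.AB' ha'))) hg
  have c := s.t.comm v h1 a' ha'
  have h7 : a' * v * a'⁻¹ = d * u := by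
    have c1 := zcom c (s.t.AB (mul_mem (s.t.zA hd.1) (h3 hu)))
    calc a' * v * a'⁻¹ = v⁻¹ * ⁅v, a'⁆ := by
          rw [commutatorElement_def, ea_inv s.t.eA h1, mul_assoc v, mul_assoc v, ← mul_assoc v v,
            ea_sq s.t.eA h1, one_mul]
      _ = ⁅v, a'⁆ * (d * u * ⁅v, a'⁆) := by
          rw [ea_inv s.t.eA h1]; nth_rw 1 [e1, e2]; simp only [mul_assoc]
      _ = d * u := by rw [c1.eq, ← mul_assoc, ea_sq s.eZ c, one_mul]
  have h8 := (Uno.nA_opp s.l s.c s.lt k h5).1.le (mem_inf.2 ⟨mem_cj.1 (mul_mem (e.ge hd).2 hu), mem_cj.2 (by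
    rw [← h7]; simpa [mul_assoc] using mem_cj.1 hv)⟩)
  have h9 := (conj_mem_of_mem_normalizer (s.nD0 hg') h8).1
  rw [← h7] at h9
  simpa [mul_assoc] using conj_mem_of_mem_normalizer' (Co.nZ (le_normalizer (s.t.AB' ha'))) h9

theorem nB_of_le (h : cj g B ≤ nor A) (ha : a' ∈ A') (h1 : a' ∉ zc B) (e : a' ∈ nor (cj g B)) :
    cj g B = B := by
  obtain ⟨k, hk, e1⟩ := s.wc.exists_cj_eq s.t.nA le_top (mem_top g) h
  rw [e1, nor, ← cj_normalizer] at e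
  exact e1.trans (cj_eq_self (by_contra fun h2 => h1 (s.n1 hk h2 ha (mem_cj.1 e))))

theorem ex_cj (hP : IsPGroup 2 P) : ∃ g, P ≤ nor (cj g B) := by
  obtain ⟨T, hT, e⟩ := s.exists_syl
  obtain ⟨g, -, h⟩ := hT.exists_le_cj hP le_top
  refine ⟨g, h.trans ?_⟩
  rw [nor, ← cj_normalizer]
  exact cj_mono g (e ▸ le_normalizer_jt le_normalizer)

theorem inf_nor {p : ℕ} (hp : p.Prime) (hp' : p ∣ q - 1) (hY : IsSyl p Y (nor A ⊓ nor B)) (hb : b ∈ B)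
    (h : b ∈ nor Y) : b = 1 := by
  haveI := Fact.mk hp
  have h3 : ∀ {R R' A₁ A₂ : Subgroup G} {F F' : Type} [Field F] [Fintype F] [Field F'] [Fintype F']
      (s : TW q B R R' A₁ A₂ F F'), nor A₁ ⊓ nor B = nor A ⊓ nor B → b ∈ zc B ⊓ cen R := fun s e => by
    obtain ⟨p2, k, hk, hk', kB, pk⟩ := s.exists_pel hp hp'
    rw [← e] at hY
    have h4 := hY.inf_of_le_normalizer (inf_le_inf_right _ s.l.bk.RA) (hY.le.trans (le_normalizer_inf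
      (inf_le_left.trans s.l.nA_le) (le_normalizer_of_le inf_le_right)))
    have h5 := IsPGroup.disjoint_of_ne p 2 p2 _ _ hY.isPGroup s.t.two
    obtain ⟨x, hx, h6⟩ := (bot_or_exists_ne_one (Y ⊓ _)).resolve_left fun h6 => kB (by
      rw [← h4.eq_of_le pk (h6 ▸ bot_le) (zpowers_le.2 ⟨hk, hk'⟩), zpowers_eq_bot] at h6
      exact h6 ▸ B.one_mem)
    exact s.free hx.2.1 hx.2.2 (fun h => h6 (disjoint_def.1 h5 hx.1 h)) hb (cm_one.1
      (disjoint_def.1 h5 (cm_mem' hx.1 h) (cm_mem hx.2.2 hb)))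
  exact s.DD (h3 s rfl).1 (h3 s rfl).2 (h3 s.symm (le_antisymm (fun x hx => ⟨s.nA_of' hx.1 hx.2, hx.2⟩)
    fun x hx => ⟨s.nA' hx.1 hx.2, hx.2⟩)).2

theorem fld_b (h1 : φ ∈ nor A) (h2 : φ ∈ nor B) (h3 : φ * φ = 1) (h4 : φ ∉ B) :
    ∃ b ∈ cen1 φ, b ∈ nor A ∧ b ∉ nor B := by
  obtain ⟨a, ha, e⟩ := s.exists_fix h1 h2 h3 h4
  obtain ⟨r, hr, e1⟩ := s.l.bk.fuse ha.1
  have rA := s.l.bk.RA hr
  have h5 : r ∉ nor B := fun h => e (by
    simpa [mul_assoc] using conj_mem_of_mem_normalizer' (Co.nZ h) e1)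
  have h6 : r * φ * r⁻¹ ∈ nor A := mul_mem (mul_mem rA h1) (inv_mem rA)
  have h7 : r * φ * r⁻¹ ∈ nor B := Uno.nB_of_cen s.l s.c s.lt e1 (fun h => e (by
    simpa [mul_assoc] using (conj_mem_of_mem_normalizer' (s.nD0 rA) ⟨e1, h⟩).1)) h6
    ((mem_cen1.1 ha.2).symm.conj r)
  obtain ⟨a', ha', e'⟩ := s.symm.exists_fix (s.nA' h6 h7) h7 (conj_sq h3 r) fun h => h4
    (s.c.mem_B (by simpa [mul_assoc] using conj_mem_of_mem_normalizer' (le_normalizer hr) (s.B_le h)) h2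
      (T2.of_sq h3))
  refine ⟨r⁻¹ * a' * r, mem_cen1.2 ?_, mul_mem (mul_mem (inv_mem rA) (s.t.nA (s.t.AB' ha'.1))) rA,
    fun h => e' (s.n1 rA h5 ha'.1 h)⟩
  simpa [mul_assoc] using (mem_cen1.1 ha'.2).conj r⁻¹

variable (H : ∀ f, Gn B R R' f → cen1 f ≤ nor B)
include H

theorem le_nB (hP : IsPGroup 2 P) (ha : a ∈ A) (h : a ∉ zc B) (ha' : a' ∈ A') (h' : a' ∉ zc B)
    (h1 : a ∈ P) (h2 : a' ∈ P) : P ≤ nor B := by
  obtain ⟨g, hg⟩ := s.ex_cj hP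
  obtain ⟨T, hT, e⟩ := s.exists_syl
  have f := s.gn_comm ha h ha' h'
  have u := s.l.cj g
  have k : ∀ {E}, IsElementaryAbelian 2 E → ⁅a, a'⁆ ∈ E → Nat.card A ≤ Nat.card E → cj g B ≤ nor E →
      cj g B = B := fun hE h3 h4 h5 => by
    rcases Uno.side' s.l hT e hE (le_trans (fun x hx => mem_cen1.2 (ea_com hE hx h3)) (H _ f)) h4 with rfl | rfl
    exacts [s.nB_of_le h5 ha' h' (hg h2), s.symm.nB_of_le h5 ha h (hg h1)]
  rw [← (u.invol (s.comm_cj hP hg h1 h2) (ea_sq s.eZ f.z)).elim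
    (fun h => k u.tri.eA h (card_cj g A).ge u.tri.nA)
    fun h => k u.tri.eA' h (by rw [card_cj, s.t.card_eq]) u.tri.symm.nA]
  exact hg

/-- no involutions of field type -/
theorem no_inv (h1 : φ ∈ nor A) (h2 : φ ∈ nor B) (h3 : φ * φ = 1) : φ ∈ B := by_contra fun h4 => by
  have ch := s.am.cen h3 fun e => h4 (e ▸ B.one_mem)
  have nQ := self_le_normalizer_pCoreOf (p := 2) (cen1 φ)
  have pQ := isPGroup_pCoreOf (p := 2) (cen1 φ)
  obtain ⟨a, ha, e⟩ := s.exists_fix h1 h2 h3 h4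
  obtain ⟨a', ha', e'⟩ := s.symm.exists_fix (s.nA' h1 h2) h2 h3 h4
  have QB : pCoreOf 2 (cen1 φ) ≤ nor B := le_sup_left.trans (s.le_nB H (two_sup pQ
    (s.t.two.to_le (inf_le_left (b := cen1 φ))) (inf_le_right.trans nQ)) ha.1 e ha'.1 e'
    (mem_sup_right ⟨s.t.AB ha.1, ha.2⟩) (mem_sup_right ⟨s.t.AB' ha'.1, ha'.2⟩))
  set Q := pCoreOf 2 (cen1 φ)
  have k1 : ∀ {R R' A A' : Subgroup G} {F F' : Type} [Field F] [Fintype F] [Field F'] [Fintype F']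
      (s : TW q B R R' A A' F F'), φ ∈ nor A → Q ⊓ B ≤ A ∧ (Q ⊓ B ≤ zc B → Q ⊓ B ≤ cen R) := fun s h1 => by
    obtain ⟨b, hb, bA, bB⟩ := s.fld_b h1 h2 h3 h4
    refine ⟨fun u hu => ?_, fun h u hu => ((Uno.nA_opp s.l s.c s.lt bA bB).1.le ⟨h hu, mem_cj.2 (h
      ⟨conj_mem_of_mem_normalizer' (nQ hb) hu.1, s.t.AB (conj_mem_of_mem_normalizer' bA (s.t.zA (h hu)))⟩)⟩).2⟩
    obtain ⟨a, ha, a', ha', rfl⟩ := s.l.dec hu.2
    refine mul_mem ha (s.t.zA (s.n1 bA bB ha' ?_))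
    have := mul_mem (inv_mem (le_normalizer (s.t.AB (conj_mem_of_mem_normalizer' bA ha))))
      (QB (conj_mem_of_mem_normalizer' (nQ hb) hu.1))
    simpa [mul_assoc] using this
  have k2 : Q ⊓ B ≤ zc B := (le_inf (k1 s h1).1 (k1 s.symm (s.nA' h1 h2)).1).trans s.t.inf_eq.le
  have k3 : ∀ u ∈ Q ⊓ B, u = 1 := fun u hu =>
    s.DD (k2 hu) ((k1 s h1).2 k2 hu) ((k1 s.symm (s.nA' h1 h2)).2 k2 hu)
  exact e (k2 ⟨ch.le ⟨ha.2, mem_cen.2 fun u hu => cm_one.1 (k3 _ ⟨cm_mem' hu (nQ ha.2),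
    cm_mem (QB hu) (s.t.AB ha.1)⟩)⟩, s.t.AB ha.1⟩)

theorem no_fld (hg : g ∈ nor A) (hg' : g ∈ nor B) (ht : T2 g) : g ∈ B := by
  obtain ⟨U, pU, UB, U1, hT⟩ := s.exists_compl
  suffices h : ∀ u ∈ U, u ∈ nor A → u = 1 by
    obtain ⟨n, hn, h1⟩ := hT.exists_cj_le ht.isPGroup (zpowers_le.2 hg')
    obtain ⟨b, hb, u, hu, e⟩ := (mem_sup_right_norm UB).1 (h1 (conj_mem_cj (mem_zpowers g)))
    have h2 := s.nA_conj hn hg hg'
    rw [e, (nor A).mul_mem_cancel_left (s.t.nA hb)] at h2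
    rw [h u hu h2, mul_one] at e
    simpa only [mul_assoc, inv_mul_cancel_left, inv_mul_cancel, mul_one] using
      conj_mem_of_mem_normalizer' hn (e ▸ hb : n * g * n⁻¹ ∈ B)
  by_contra h
  obtain ⟨φ, ⟨hφ, h1⟩, h2, h3⟩ := exists_mem_pow_eq_one (pU.to_le (inf_le_left (b := nor A)))
    fun e => h fun u hu hu' => mem_bot.1 (e ▸ mem_inf.2 ⟨hu, hu'⟩)
  exact h2 (U1 φ hφ (s.no_inv H h1 (UB hφ) (by rwa [sq] at h3)))

/-- interchanging involutions are not fused into `B` -/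
theorem not_fused (yB : y ∈ nor B) (h5 : y ∉ nor A) (h3 : y * y = 1) (h : x * y * x⁻¹ ∈ B) : False := by
  have N := fun g => s.no_fld H (g := g)
  have h4 : y ∉ B := fun e => h5 (s.t.nA e)
  obtain ⟨g, hg⟩ := s.exists_Z h3 h
  have pP := s.t.two.to_le (inf_le_left (b := cen1 y))
  obtain ⟨g, hg, h6⟩ := s.exists_cj hg pP inf_le_right
  have k : ∀ w ∈ zc B, Commute y w → w ∈ cj g B → w = 1 := fun w hw e h => by_contra fun e' =>
    h4 (s.fb (ea_sq s.eZ hw) (H w ⟨hw, fun h => e' (s.sw_D_eq yB h5 ⟨hw, h⟩ e),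
      fun h => e' (s.symm.sw_D_eq yB (s.sw_not yB h5) ⟨hw, h⟩ e)⟩) h hg)
  obtain ⟨a, ha, h7⟩ := s.t.exists_not_mem
  have b1 := cm_mem yB (s.t.AB ha)
  have b2 := s.sq_Z b1
  have b3 := mt (s.sw_sq yB h5 ha) h7
  have b4 : y * ⁅y, a⁆ * y⁻¹ = ⁅y, a⁆⁻¹ := by
    simp only [commutatorElement_def, ea_inv s.t.eA ha, inv_eq_of_mul_eq_one_right h3, mul_inv_rev, mul_assoc,
      ← mul_assoc y y, h3, one_mul]
  set b := ⁅y, a⁆
  have b5 : Commute y (b * b) := by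
    rw [Commute, SemiconjBy, ← mul_inv_eq_iff_eq_mul, ← conj_mul, b4, ← mul_inv_rev, ea_inv s.eZ b2]
  have b6 := mt (k _ b2 b5) b3
  have k' : ∀ w ∈ zc B, Commute y w → w ≠ 1 → w = b * b := fun w hw e h => by
    rw [← ea_inv s.eZ b2, ← mul_eq_one_iff_eq_inv]
    exact k _ (mul_mem hw b2) (e.mul_right b5) (s.idx_two N pP h6 ⟨hw.1, mem_cen1.2 e.symm⟩
      ⟨b2.1, mem_cen1.2 b5.symm⟩ (mt (k w hw e) h) b6)
  obtain ⟨z, hz, h8⟩ : ∃ z ∈ zc B, ¬ Commute y z := by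
    by_contra! h8
    have := card_le_two_mul (H := ⊥) (K := zc B) fun u hu v hv e e' => by
      rw [k' u hu (h8 u hu) e, k' v hv (h8 v hv) e', ea_sq s.eZ b2]; exact one_mem _
    rw [inf_bot_eq, card_bot, s.cardZ] at this
    have := s.hq
    have : 0 < Nat.card ↥(zc B ⊓ cen R) := Nat.card_pos
    nlinarith
  have h9 := k' _ (cm_mem (Co.nZ yB) hz) (cm_comm s.eZ (Co.nZ yB) (h3 ▸ one_mem _) hz) (mt cm_one.1 h8)
  have h10 : b * z ∈ B ⊓ cen1 y := ⟨mul_mem b1 hz.1, mem_cen1.2 (Commute.symm (by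
    rw [Commute, SemiconjBy, ← mul_inv_eq_iff_eq_mul, ← conj_mul, b4,
      show y * z * y⁻¹ = ⁅y, z⁆ * z by group, h9]
    group))⟩
  refine b6 ?_
  rw [show b * b = b * z * (b * z) by rw [← sq (b * z), (zcom hz b1).mul_pow, sq z, ea_sq s.eZ hz, sq, mul_one]]
  exact by_contra fun h => h (s.idx_two N pP h6 h10 h10 (fun e => h (mul_mem e e)) fun e => h (mul_mem e e))

theorem mem_of_fused (hw : w ∈ nor B) (h2 : w * w = 1) (h : x * w * x⁻¹ ∈ B) : w ∈ B :=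
  s.no_inv H (by_contra fun e => s.not_fused H hw e h2 h) hw h2

theorem cen_sw (yB : y ∈ nor B) (h5 : y ∉ nor A) (h3 : y * y = 1) : cen1 y ≤ nor B := by
  have ch := s.am.cen h3 fun e => h5 (e ▸ one_mem _)
  have gn : ∀ w ∈ zc B, Commute y w → w ≠ 1 → cen1 w ≤ nor B := fun w hw e e' =>
    H w ⟨hw, fun h => e' (s.sw_D_eq yB h5 ⟨hw, h⟩ e),
      fun h => e' (s.symm.sw_D_eq yB (s.sw_not yB h5) ⟨hw, h⟩ e)⟩
  obtain ⟨f, hf, f1⟩ := (bot_or_exists_ne_one _).resolve_left (inf_centralizer_ne_bot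
    (H12.ea_isPGroup s.eZ) (two_zpowers h3) (zpowers_le.2 (Co.nZ yB)) s.l.Z_ne)
  have f2 := ea_sq s.eZ hf.1
  have f3 := com hf.2 (mem_zpowers y)
  obtain ⟨S, hS, h1⟩ := exists_isSyl_le (two_zpowers f2) (zpowers_le.2 (mem_cen1.2 f3.symm))
  obtain ⟨g, hg⟩ := s.ex_cj hS.isPGroup
  have h2 : f ∈ cj g B := by
    have := hg (h1 (mem_zpowers f))
    rw [nor, ← cj_normalizer] at this
    exact mem_cj.2 (s.mem_of_fused H (x := g) (mem_cj.1 this) (by simpa using conj_sq f2 g⁻¹)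
      (by simpa [mul_assoc] using hf.1.1))
  obtain ⟨v, hv, v1, v2⟩ := exists_mem_pow_eq_one (hS.isPGroup.to_le (inf_le_left.trans inf_le_left))
    (inf_centralizer_ne_bot (Q := S ⊓ cj g B) hS.isPGroup.to_inf_left hS.isPGroup
      (le_normalizer_inf le_normalizer hg) fun e => f1 (mem_bot.1 (e ▸ mem_inf.2 ⟨h1 (mem_zpowers f), h2⟩)))
  have v3 : v ∈ oz 2 (pCoreOf 2 (cen1 y)) := mem_oz.2 ⟨ch.inf_centralizer_le hS.pCoreOf_le
    ⟨hS.le hv.1.1, hv.2⟩, centralizer_anti hS.pCoreOf_le hv.2, v2⟩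
  have nW := le_normalizer_oz (p := 2) (self_le_normalizer_pCoreOf (p := 2) (cen1 y))
  have eW := ea_oz (p := 2) (pCoreOf 2 (cen1 y))
  have Wy : ∀ w ∈ oz 2 (pCoreOf 2 (cen1 y)), Commute y w := fun w hw =>
    (mem_cen1.1 (pCoreOf_le _ (oz_le _ hw))).symm
  set W := oz 2 (pCoreOf 2 (cen1 y))
  have v4 : v ∈ B := s.mem_of_fused H (x := g⁻¹) (gn f hf.1 f3 f1 (mem_cen1.2 (com hv.2
    (h1 (mem_zpowers f))).symm)) (ea_sq eW v3) (by simpa using mem_cj.1 hv.1.2)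
  have WZ : W ⊓ B ≤ zc B := fun w hw => s.sw_Z yB h5 hw.2 (ea_sq eW hw.1) (Wy w hw.1)
  have v5 := gn v (WZ ⟨v3, v4⟩) (Wy v v3) v1
  refine le_trans (fun c hc => mem_normalizer_of_cj_le ?_) ((cen_le_of_fz s.wc WZ).trans
    (sup_le (le_trans (fun c hc => mem_cen1.2 (com hc (mem_inf.2 ⟨v3, v4⟩)).symm) v5) le_rfl))
  rintro _ ⟨w, hw, rfl⟩
  have h6 := conj_mem_of_mem_normalizer (nW hc) hw.1
  exact ⟨h6, s.mem_of_fused H (x := c⁻¹) (v5 (mem_cen1.2 (ea_com eW h6 v3))) (ea_sq eW h6)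
    (by simpa [mul_assoc] using hw.2)⟩

theorem no_swap (hx : x ∈ nor B) : x ∈ nor A := by_contra fun hx' => by
  have N := fun g => s.no_fld H (g := g)
  obtain ⟨p, hp, hp'⟩ := s.exists_prime
  haveI := Fact.mk hp
  obtain ⟨r, hr, rB, -⟩ := s.l.bk.exists_opp
  have rA := s.l.bk.RA hr
  obtain ⟨Y, hY⟩ := exists_isSyl p (nor A ⊓ nor B ⊓ nor (cj r B))
  have hY' : IsSyl p Y (nor A ⊓ nor B) := by
    refine isSyl_of_not_dvd hY inf_le_left ?_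
    have e : nor A ⊓ nor B = nor A ⊓ nor B ⊓ nor (cj r B) ⊔ B := by
      refine le_antisymm (fun m hm => ?_) (sup_le inf_le_left (le_inf s.t.nA le_normalizer))
      obtain ⟨a', ha', e⟩ := s.tr (mul_mem hm.1 rA) (mt ((nor B).mul_mem_cancel_left hm.2).1 rB) rA rB
      have h1 := s.t.AB' ha'
      rw [← Subgroup.mul_mem_cancel_left _ (mem_sup_right h1)]
      refine mem_sup_left (mem_inf.2 ⟨⟨mul_mem (s.t.nA h1) hm.1, mul_mem (le_normalizer h1) hm.2⟩, ?_⟩)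
      rw [nor, ← cj_normalizer, mem_cj]
      simpa [mul_assoc] using e
    nth_rw 2 [e]
    rw [relIndex_sup_of_le_normalizer (inf_le_left.trans inf_le_right)]
    exact fun h => not_dvd_card_of_isPGroup_ne hp (s.exists_pel hp hp').1 s.t.two
      (h.trans (relIndex_dvd_card _ _))
  have C := fun b => s.inf_nor (b := b) hp hp' hY'
  obtain ⟨y, n, hy, hn, rfl⟩ : ∃ y n, y ∈ nor Y ∧ n ∈ nor A ⊓ nor B ∧ x = y * n := by
    obtain ⟨y, hy, n, hn, e⟩ := hY'.frattini_mem (g := x) (mem_normalizer_of_cj_le (by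
      rintro _ ⟨m, hm, rfl⟩
      exact mem_inf.2 ⟨s.nA_conj hx hm.1 hm.2, mul_mem (mul_mem hx hm.2) (inv_mem hx)⟩))
    exact ⟨y, n, hy, hn, e⟩
  rw [(nor B).mul_mem_cancel_right hn.2] at hx
  rw [(nor A).mul_mem_cancel_right hn.1] at hx'
  obtain ⟨k, t, yA⟩ := exists_odd_pow hx' (s.sw_mul hx hx' hx hx')
  have yB := pow_mem hx k
  have yY := pow_mem hy k
  generalize y ^ k = y at *
  have sq : ∀ {y : G}, T2 y → T2 (y * y) := fun ⟨k, h⟩ => ⟨k, by rw [← pow_two, pow_right_comm, h, one_pow]⟩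
  have y2 := C _ (N _ (s.sw_mul yB yA yB yA) (mul_mem yB yB) (sq t)) (mul_mem yY yY)
  obtain ⟨a', ha', e⟩ := s.tr rA rB (inv_mem rA) (mt inv_mem_iff.1 rB)
  have aB := le_normalizer (s.t.AB' ha')
  have e1 : cj (r * a') B = cj r B := by rw [← cj_cj, cj_eq_self aB]
  have e2 : cj (r * a') (cj r B) = B := by rw [cj_cj]; exact cj_eq_self (by simpa using e)
  have wA := mul_mem rA (s.t.nA (s.t.AB' ha'))
  obtain ⟨w, hw, m, hm, e3⟩ := hY.frattini_mem (g := r * a') (by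
    rw [← cj_eq_self_iff, cj_inf, cj_inf, cj_normalizer, cj_normalizer, cj_normalizer, e1, e2,
      cj_eq_self wA, inf_right_comm])
  rw [e3, (nor A).mul_mem_cancel_right hm.1.1] at wA
  rw [e3, ← cj_cj, cj_eq_self hm.1.2] at e1
  rw [e3, ← cj_cj, cj_eq_self hm.2] at e2
  have w2 : w * w ∈ nor B := by rw [← cj_eq_self_iff, ← cj_cj, e1, e2]
  obtain ⟨j, t', wB⟩ := exists_odd_pow (fun h => rB (cj_eq_self_iff.1 (e1.symm.trans (cj_eq_self h)))) w2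
  have w3 := pow_mem w2 j
  rw [(Commute.refl w).mul_pow] at w3
  replace wA := pow_mem wA j
  replace hw := pow_mem hw j
  generalize w ^ j = w at *
  have w4 := C _ (N _ (mul_mem wA wA) w3 (sq t')) (mul_mem hw hw)
  have hB : IsSyl 2 B (nor A) := ⟨s.t.nA, s.t.two, fun P h1 h2 h3 => le_antisymm
    (fun c hc => N c (h3 hc) (s.wc.le_normalizer h1 h2 le_top hc) (T2.of_mem h1 hc)) h2⟩
  obtain ⟨g, -, hg⟩ := hB.exists_cj_le (two_zpowers w4) (zpowers_le.2 wA)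
  obtain ⟨S, hS, h1⟩ := exists_isSyl_le (two_zpowers y2) (zpowers_le.2 yY)
  have h2 : S = zpowers y := by_contra fun h2 => (lt_inf_normalizer hS.isPGroup
    (lt_of_le_of_ne h1 (Ne.symm h2))).not_ge fun c hc => by
      have c1 := s.cen_sw H yB yA y2 ((nor_zpowers y2).le hc.2)
      by_cases c2 : c ∈ nor A
      · exact C c (N c c2 c1 (T2.of_mem hS.isPGroup hc.1)) (hS.le hc.1) ▸ one_mem _
      have c3 := mul_mem hc.1 (h1 (mem_zpowers y))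
      rw [eq_inv_of_mul_eq_one_left (C _ (N _ (s.sw_mul c1 c2 yB yA) (mul_mem c1 yB)
        (T2.of_mem hS.isPGroup c3)) (hS.le c3))]
      exact inv_mem (mem_zpowers y)
  obtain ⟨c, -, h3⟩ := hS.exists_cj_le (two_zpowers w4) (zpowers_le.2 hw)
  rcases eq_or_of_zpowers y2 (h2 ▸ h3 (conj_mem_cj (mem_zpowers w))) with h4 | h4
  · exact wB (by rw [conj_eq_one_iff.1 h4]; exact one_mem _)
  · exact s.not_fused H (x := g * c⁻¹) yB yA y2 (by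
      rw [← h4]; simpa [mul_assoc] using hg (conj_mem_cj (mem_zpowers w)))

omit H in
theorem four (hx : x ∈ nor B) (h : x ∉ nor A) : q = 4 ∧ zc B ⊓ cen R = ⊥ := by
  obtain ⟨T, hT⟩ := exists_isSyl 2 (nor B)
  obtain ⟨hD, f, hf, h1, h2, h3⟩ := (s.cen_or hT).resolve_left fun H => h (s.no_swap H hx)
  exact ⟨s.cen_l3 hD (s.syl_of hT).1 (s.syl_of hT).2 hf h1 h2 h3, hD⟩

omit H in
omit s in
theorem sec4 (s : TW 4 B R R' A A' F F') (hD : zc B ⊓ cen R = ⊥) : SectionalPRankLE 2 4 G := by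
  obtain ⟨S, hT, eJ⟩ := s.exists_syl
  refine H9.Sec.sec_of_sylow hT.toSylowTop (?_ : SectionalPRankLE 2 4 S)
  have hS := hT.isPGroup
  have h1 : B ≤ S := eJ ▸ jt_le S
  have h2 : S ≤ nor B := eJ ▸ le_normalizer_jt le_normalizer
  have u := s.l
  have hn := u.nA_le
  have hA := s.t.eA
  have h16 : Nat.card A = 16 := by rw [s.t.card_A, s.cardZ' hD]
  have hAS := s.t.AB.trans h1
  have hF := s.hF
  let c := s.c
  have cs : ∀ X ≤ S, Nat.card (X.subgroupOf S) = Nat.card X := fun X h =>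
    Nat.card_congr (subgroupOfEquivOfLe h).toEquiv
  by_cases h : ∀ b ∈ A, b ∉ zc B → ∀ g ∈ S, Commute g b → g ∈ A
  · obtain ⟨f, hf, h3, h4⟩ := u.bk.exists_opp
    have h5 := (u.bk.opp (h4 ▸ le_sup_right) h3).1
    have h6 : cj f (zc B) ≤ A := cj_le_of_le s.t.zA (u.bk.RA hf)
    refine H9.Sec.C16.sec (T := A.subgroupOf S) (B := (cj f (zc B)).subgroupOf S)
      ⟨hS, fun a ha b hb => Subtype.ext (ea_com hA ha hb).eq, fun a ha => Subtype.ext (ea_sq hA ha),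
        (cs _ hAS).trans h16, comap_mono h6, ?_, fun b hb e g hg => h b (h6 hb) (fun e' => e ?_) g g.2
          (congrArg Subtype.val (mem_centralizer_singleton_iff.1 hg))⟩
    · rw [cs _ (h6.trans hAS), card_cj, s.cardZ' hD]
    · have : (b : G) ∈ zc B ⊓ cj f (zc B) := ⟨e', hb⟩
      rwa [h5, hD, mem_bot, OneMemClass.coe_eq_one] at this
  push Not at h
  obtain ⟨b, hb, hbZ, φ, hφ, e, hφA⟩ := h
  have nA : ∀ g ∈ S, Commute g b → g ∈ nor A := fun g hg e => Uno.nA_of_comm u (h2 hg) hb hbZ e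
  have hJ : ∀ g ∈ S, Commute g b → c.sg g = 1 → g ∈ A := fun g hg e e' =>
    u.cent hb hbZ (Uno.mem_B_of_sg u c hD (hn (nA g hg e)) (h2 hg) (T2.of_mem hS hg) e') e.symm
  have sq : ∀ g ∈ S, Commute g b → c.sg (g * g) = 1 := fun g hg e => by
    rw [c.sg_mul (hn (nA g hg e)) (h2 hg) (hn (nA g hg e)) (h2 hg), aut_sq_four hF]
  have key : ∀ g ∈ S, Commute g b → g ∉ A → Nat.card ↥(A ⊓ cen1 g) = 4 ∧
      ∃ a ∈ A, a * g * (a * g) = 1 := fun g hg e e' => by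
    refine H57.L3.exists_inv hA h16 (nA g hg e) (hJ _ (mul_mem hg hg) (e.mul_left e) (sq g hg e)) ?_
    have h0 : ∀ (Y : Subgroup G), ∀ x ∈ A ⊓ cen1 g, ⁅g, x⁆ ∈ Y := fun Y x hx => by
      rw [commutatorElement_eq_one_iff_commute.2 (mem_cen1.1 hx.2).symm]; exact one_mem _
    have h5 := c.fix_a u.bk (hn (nA g hg e)) (h2 hg) (mt (hJ g hg e) e') inf_le_left (h0 _)
    have h6 := c.fix_z (hn (nA g hg e)) (h2 hg) (mt (hJ g hg e) e')
      (X := zc B ⊓ (A ⊓ cen1 g)) inf_le_left fun x hx => h0 _ x hx.2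
    rw [hD, relIndex_bot_left] at h6
    rw [hF] at h5 h6
    rw [← H12.card_inf_mul_relIndex (zc B)]
    exact Nat.mul_le_mul ((Nat.pow_le_pow_iff_left two_ne_zero).1 (h6.trans_eq (by norm_num : 4 = 2 ^ 2)))
      ((Nat.pow_le_pow_iff_left two_ne_zero).1 (h5.trans_eq (by norm_num : 4 = 2 ^ 2)))
  obtain ⟨-, a, ha, hs⟩ := key φ hφ e hφA
  have s1 : a * φ ∈ S := mul_mem (hAS ha) hφ
  have s2 : Commute (a * φ) b := (ea_com hA ha hb).mul_left e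
  have s3 : a * φ ∉ A := mt (A.mul_mem_cancel_left ha).1 hφA
  generalize a * φ = s at hs s1 s2 s3
  have h4 := (key s s1 s2 s3).1
  have hz : A ⊓ cen1 s ≤ cen (zpowers s) := inf_le_right.trans (cen1_eq s).le
  have hE := H12.ea_sup (H12.ea_mono hA inf_le_left) (H12.ea_zpowers (by rw [pow_two, hs])) hz
  have hES : A ⊓ cen1 s ⊔ zpowers s ≤ S := sup_le (inf_le_left.trans hAS) (zpowers_le.2 s1)
  refine H9.Sec.SA.sec (A := (A ⊓ cen1 s ⊔ zpowers s).subgroupOf S)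
    ⟨hS, fun a ha => Subtype.ext (ea_sq hE ha), ?_, fun g hg => ?_⟩
  · have h5 := H12.card_sup_mul_card_inf (le_normalizer_of_le_centralizer hz)
    have h6 : Nat.card (zpowers s) = 2 := by
      rw [Nat.card_zpowers, orderOf_eq_prime (x := s) (p := 2) (by rw [pow_two, hs]) fun e => s3 (e ▸ one_mem _)]
    have h7 := two_mul_card_le (inf_lt_right.2 fun h : zpowers s ≤ A ⊓ cen1 s =>
      s3 (h (mem_zpowers s)).1)
    have h8 := Nat.card_pos (α := ↥(A ⊓ cen1 s ⊓ zpowers s))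
    rw [h4, h6, show Nat.card ↥(A ⊓ cen1 s ⊓ zpowers s) = 1 by omega] at h5
    rw [cs _ hES]
    omega
  · have e1 : Commute (g : G) b := congrArg Subtype.val
      (hg ⟨b, hAS hb⟩ (mem_sup_left (⟨hb, mem_cen1.2 s2.symm⟩ : b ∈ A ⊓ cen1 s)))
    have e2 : Commute (g : G) s := congrArg Subtype.val (hg ⟨s, s1⟩ (mem_sup_right (mem_zpowers s)))
    by_cases hgA : (g : G) ∈ A
    · exact mem_sup_left (⟨hgA, mem_cen1.2 e2⟩ : (g : G) ∈ A ⊓ cen1 s)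
    have h5 := hJ _ (mul_mem g.2 s1) (e1.mul_left s2) (c.sg_mul_of_sq (hn (nA g g.2 e1)) (h2 g.2)
      (hn (nA s s1 s2)) (h2 s1) (sq g g.2 e1) (sq s s1 s2) (mt (hJ g g.2 e1) hgA) (mt (hJ s s1 s2) s3))
    exact ((A ⊓ cen1 s ⊔ zpowers s).mul_mem_cancel_right (mem_sup_right (mem_zpowers s))).1
      (mem_sup_left ⟨h5, mem_cen1.2 (e2.mul_left (Commute.refl s))⟩)

omit H in
theorem sec (hx : x ∈ nor B) (h : x ∉ nor A) : SectionalPRankLE 2 4 G := by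
  obtain ⟨rfl, hD⟩ := s.four hx h
  exact s.sec4 hD

end TW

end H96.PU
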