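import Cfsg.Agent.H57.L3C

/-! Two opposite blocks without the assumption `G = O²(G)` (after `H98.CGJ`, `H98.CGTA`). -/

set_option autoImplicit false

namespace H96.PU

open Subgroup Cfsg H98 H96 H96.CG H98.H96.CG
open H52 (zc)
open scoped commutatorElement

universe u

variable {G : Type u} [Group G]

/-- two opposite blocks with coordinates -/
structure TW (q : ℕ) (B R R' A A' : Subgroup G) (F F' : Type) [Field F] [Fintype F] [Field F']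
    [Fintype F'] where
  am : H57.L3.Loc G
  l : Uno q B R A A'
  r : Uno q B R' A' A
  c : Co B R A A' F
  c' : Co B R' A' A F'
  hF : Fintype.card F = q
  hF' : Fintype.card F' = q
  hq : 2 < q

variable [Finite G] {q : ℕ} {B R R' A A' X P Q T E W : Subgroup G} {a a' b d f g h x y z φ : G}

theorem uno_eq (u : Uno q B R A A') (h : H57.L3.Loc G) {q' : ℕ} (u' : Uno q' B R' A A') : R' = R := by
  have hA := H12.ea_isPGroup u.tri.eA
  rcases SB.eq_or_comm (h A hA u.A_ne) (u'.sb A hA u.A_ne u.tri.nA u'.bk.RA).1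
    (u.sb A hA u.A_ne u.tri.nA u.bk.RA).1 with e | e
  · exact e
  · exact (u'.bk.V_not_le ((le_inf u'.bk.V_le ((pCoreOf_le R').trans
      (commutator_eq_bot_iff_le_centralizer.1 e))).trans (u.D_eq.le.trans inf_le_left))).elim

theorem exists_tw (am : H57.L3.Loc G) (l : Uno q B R A A') (r : Uno q B R' A' A) (hq : 2 < q) :
    ∃ (F F' : Type) (_ : Field F) (_ : Fintype F) (_ : Field F') (_ : Fintype F'),
      Nonempty (TW q B R R' A A' F F') := by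
  obtain ⟨F, _, _, h, ⟨c⟩⟩ := jobCo G q B R A A' l.bk hq
  obtain ⟨F', _, _, h', ⟨c'⟩⟩ := jobCo G q B R' A' A r.bk hq
  exact ⟨F, F', _, _, _, _, ⟨⟨am, l, r, c, c', h, h', hq⟩⟩⟩

namespace TW

variable {F F' : Type} [Field F] [Fintype F] [Field F'] [Fintype F'] (s : TW q B R R' A A' F F')

/-- interchange the two blocks -/
def symm : TW q B R' R A' A F' F := ⟨s.am, s.r, s.l, s.c', s.c, s.hF', s.hF, s.hq⟩

include s

omit [Finite G] in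
theorem lt : 2 < Fintype.card F := s.hF ▸ s.hq

theorem t : Tri q B A A' (zc B ⊓ cen R) := s.l.tri

theorem DD (h : d ∈ zc B) (h1 : d ∈ cen R) (h2 : d ∈ cen R') : d = 1 := by_contra fun e => by
  have h3 : R' ≤ nor R := le_trans (fun x hx => mem_cen1.2 (com h2 hx)) (s.l.cen_d ⟨h, h1⟩ e)
  exact s.l.bk.V_not_le ((le_inf s.l.bk.V_le (s.r.bk.le_cenA (s.l.bk.V_le.trans s.t.AB)
    (le_normalizer_pCoreOf h3) (le_normalizer_pCoreOf s.l.bk.nR))).trans s.t.inf_cen.le)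

theorem nA_of (hg : g ∈ R') (hg' : g ∈ nor B) : g ∈ nor A := s.r.bk.nA' (le_normalizer hg) hg'

theorem nD (hg : g ∈ nor A) (hg' : g ∈ nor B) : g ∈ nor (zc B ⊓ cen R) :=
  le_normalizer_inf (H52.n_zc inf_le_right) (le_normalizer_centralizer (inf_le_left.trans s.l.nA_le))
    (mem_inf.2 ⟨hg, hg'⟩)

theorem nA' (hg : g ∈ nor A) (hg' : g ∈ nor B) : g ∈ nor A' := s.t.nA' ⟨hg', hg⟩

/-- if `D ≠ 1` then `Z = D D'` -/
theorem dec (h : zc B ⊓ cen R ≠ ⊥) (hz : z ∈ zc B) : ∃ d ∈ zc B ⊓ cen R, d⁻¹ * z ∈ zc B ⊓ cen R' :=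
  s.c'.irr_z (fun _ hg => s.nD (s.nA_of hg.1 hg.2) hg.2) inf_le_left
    (fun e => h (eq_bot_iff.2 fun _ hd => s.DD hd.1 hd.2 (e hd).2)) hz

theorem cardZ : Nat.card (zc B) = q * Nat.card ↥(zc B ⊓ cen R) := by
  rw [← H12.card_mul_relIndex (inf_le_left : zc B ⊓ cen R ≤ _), s.t.idxD, mul_comm]

theorem D_bot (h : zc B ⊓ cen R = ⊥) : zc B ⊓ cen R' = ⊥ := by
  have h1 := s.cardZ.symm.trans s.symm.cardZ
  rw [h, card_bot] at h1
  exact card_eq_one.1 (Nat.eq_of_mul_eq_mul_left (by have := s.hq; omega) h1).symm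

theorem cardD_le : Nat.card ↥(zc B ⊓ cen R) ≤ q := by
  rw [← s.r.tri.idxD, ← relIndex_bot_left, show ⊥ = zc B ⊓ cen R' ⊓ (zc B ⊓ cen R) from
    (eq_bot_iff.2 fun _ hd => s.DD hd.1.1 hd.2.2 hd.1.2).symm, inf_relIndex_right]
  exact relIndex_le_of_le_right inf_le_left FiniteIndex.index_ne_zero

theorem nR_of (hg : g ∈ nor A) : g ∈ nor R := s.l.nA_le hg

theorem nA_of' (hg : g ∈ nor A') (hg' : g ∈ nor B) : g ∈ nor A := s.symm.nA' hg hg'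

theorem nR' (hg : g ∈ nor A) (hg' : g ∈ nor B) : g ∈ nor R' := s.r.nA_le (s.nA' hg hg')

theorem nD' (hg : g ∈ nor A) (hg' : g ∈ nor B) : g ∈ nor (zc B ⊓ cen R') := s.symm.nD (s.nA' hg hg') hg'

theorem comm_D' (h : zc B ⊓ cen R ≠ ⊥) (hg : g ∈ R) (hg' : g ∈ nor B) (hz : z ∈ zc B) :
    ⁅g, z⁆ ∈ zc B ⊓ cen R' := by
  obtain ⟨d, hd, e⟩ := s.dec h hz
  rw [show z = d⁻¹ * z * d by rw [← (zcom hz (inv_mem hd.1.1)).symm.eq]; group,
    comm_mul_right_of (com hd.2 hg)]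
  exact cm_mem (s.nD' (s.l.bk.RA hg) hg') e

theorem D'_le (h : zc B ⊓ cen R ≠ ⊥) : zc B ⊓ cen R' ≤ ⁅A, A'⁆ := fun d hd => by
  obtain ⟨a, ha, h1⟩ := s.t.exists_not_mem
  obtain ⟨a', ha', h2⟩ := s.r.tri.exists_not_mem
  obtain ⟨l, h0, hl⟩ := exists_ne_zero_one s.lt
  obtain ⟨k, ⟨hk, hk'⟩, w⟩ := s.c.scal_z h0
  have hn : R ⊓ nor B ≤ nor ⁅A, A'⁆ := le_normalizer_commutator (inf_le_left.trans s.l.bk.RA)
    fun x hx => s.nA' (s.l.bk.RA hx.1) hx.2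
  obtain ⟨y, hy, e⟩ := s.c.irr_z (X := ⁅A, A'⁆ ⊓ (zc B ⊓ cen R'))
    (le_normalizer_inf hn fun x hx => s.nD' (s.l.bk.RA hx.1) hx.2) (inf_le_right.trans inf_le_left)
    (fun e => by
      have h3 := e ⟨cm_mem (hn ⟨hk, hk'⟩) (commutator_mem_commutator ha ha'),
        s.comm_D' h hk hk' (s.t.comm a ha a' ha')⟩
      have h4 := w.free (Co.nZ hk') hl (s.t.comm a ha a' ha') h3
      exact (s.t.reg a ha a' ha' h4).elim h1 h2) hd.1
  rw [← inv_mul_eq_one.1 (s.DD e.1 e.2 (mul_mem (inv_mem hy.2.2) hd.2))]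
  exact hy.1

/-- `B' = Z` -/
theorem Z_le : zc B ≤ ⁅A, A'⁆ := fun z hz => by
  by_cases h : zc B ⊓ cen R = ⊥
  · obtain ⟨a, ha, h1⟩ := s.t.exists_not_mem
    obtain ⟨a', ha', d, hd, -, rfl⟩ := s.t.sur_mem ha h1 hz
    rw [h, mem_bot] at hd
    rw [hd, mul_one]
    exact commutator_mem_commutator ha ha'
  obtain ⟨d, hd, e⟩ := s.dec h hz
  have h1 := s.symm.D'_le (fun e => h (s.symm.D_bot e)) hd
  rw [commutator_comm] at h1
  simpa using mul_mem h1 (s.D'_le h e)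

theorem V_eq : pCoreOf 2 R = A := by
  rw [← s.l.bk.V_sup_Z, eq_comm, sup_eq_left]
  exact (s.Z_le.trans s.l.bk.V_inf.ge).trans inf_le_left

theorem nR_eq : nor R = nor A := by rw [← s.l.nV_eq, s.V_eq]

theorem B_le : B ≤ R := (s.l.B_le s.c s.lt).trans (sup_le inf_le_left
  (inf_le_left.trans (s.t.zA.trans (s.V_eq.ge.trans (pCoreOf_le R)))))

theorem sw_A (hy : y ∈ nor B) (h : y ∉ nor A) : cj y A = A' := (s.l.nA_or hy).resolve_left h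

theorem sw_not (hy : y ∈ nor B) (h : y ∉ nor A) : y ∉ nor A' := fun e => h (s.nA_of' e hy)

theorem sw_A' (hy : y ∈ nor B) (h : y ∉ nor A) : cj y A' = A := s.symm.sw_A hy (s.sw_not hy h)

theorem sw_mem (hy : y ∈ nor B) (h : y ∉ nor A) (ha : a ∈ A) : y * a * y⁻¹ ∈ A' :=
  s.sw_A hy h ▸ conj_mem_cj ha

theorem sw_R (hy : y ∈ nor B) (h : y ∉ nor A) : cj y R = R' := by
  have u := s.l.cj y
  rw [cj_eq_self hy, s.sw_A hy h, s.sw_A' hy h] at u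
  exact uno_eq s.r s.am u

theorem sw_D (hy : y ∈ nor B) (h : y ∉ nor A) (hd : d ∈ zc B ⊓ cen R) : y * d * y⁻¹ ∈ zc B ⊓ cen R' :=
  ⟨conj_mem_of_mem_normalizer (Co.nZ hy) hd.1, by
    have := conj_mem_cj (g := y) hd.2
    rwa [cj_centralizer, s.sw_R hy h] at this⟩

theorem sw_D_eq (hy : y ∈ nor B) (h : y ∉ nor A) (hd : d ∈ zc B ⊓ cen R) (e : Commute y d) : d = 1 := by
  have := s.sw_D hy h hd
  rw [e.eq, mul_inv_cancel_right] at this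
  exact s.DD hd.1 hd.2 this.2

theorem sw_mul (hx : x ∈ nor B) (hx' : x ∉ nor A) (hy : y ∈ nor B) (h : y ∉ nor A) : x * y ∈ nor A := by
  rw [← cj_eq_self_iff, ← cj_cj, s.sw_A hy h, s.sw_A' hx hx']

/-- an involution of `B` centralized by a swap is central -/
theorem sw_Z (hy : y ∈ nor B) (h : y ∉ nor A) (hb : b ∈ B) (h2 : b * b = 1) (e : Commute y b) :
    b ∈ zc B := by_contra fun h1 => (s.l.invol hb h2).elim (fun ha => h (s.l.nA_of_comm hy ha h1 e))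
  fun ha => s.sw_not hy h (s.r.nA_of_comm hy ha h1 e)

theorem sg' (hg : g ∈ nor A) (hg' : g ∈ nor B) (ht : T2 g) (e : s.c.sg g = 1) : s.c'.sg g = 1 :=
  s.c'.sg_of_a s.r.bk (s.nR' hg hg') hg' (s.c.triv_b s.l.bk (s.nR_of hg) hg' ht e)

theorem mem_B (hg : g ∈ nor A) (hg' : g ∈ nor B) (ht : T2 g) (e : s.c.sg g = 1) : g ∈ B :=
  s.l.mem_B_of_cen (s.nR_of hg) hg' ht (mem_cen.2 fun z hz => (commutatorElement_eq_one_iff_commute.1
    (s.DD (s.c.triv_z (s.nR_of hg) hg' ht e z hz).1 (s.c.triv_z (s.nR_of hg) hg' ht e z hz).2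
      (s.c'.triv_z (s.nR' hg hg') hg' ht (s.sg' hg hg' ht e) z hz).2)).symm)

theorem sg_ne (hg : g ∈ nor A) (hg' : g ∈ nor B) (ht : T2 g) (e : g ∉ B) : s.c.sg g ≠ 1 :=
  fun h => e (s.mem_B hg hg' ht h)

/-- two elements of field type with squares in `B` -/
theorem fld_mul (hP : IsPGroup 2 P) (h : P ≤ nor B) (hx : x ∈ P) (hy : y ∈ P) (hx' : x ∈ nor A)
    (hy' : y ∈ nor A) (h1 : x * x ∈ B) (h2 : y * y ∈ B) (e : x ∉ B) (e' : y ∉ B) : x * y ∈ B :=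
  s.mem_B (mul_mem hx' hy') (h (mul_mem hx hy)) (T2.of_mem hP (mul_mem hx hy))
    (s.c.sg_mul_of_sq (s.nR_of hx') (h hx) (s.nR_of hy') (h hy) (s.c.sg_B s.l.bk h1)
      (s.c.sg_B s.l.bk h2) (s.sg_ne hx' (h hx) (T2.of_mem hP hx) e) (s.sg_ne hy' (h hy) (T2.of_mem hP hy) e'))

theorem four_le : 4 ≤ q := s.hF ▸ four_le_card s.c.two s.lt

theorem ea_card (hE : IsElementaryAbelian 2 E) (h : E ≤ nor B) (h' : ¬ E ≤ nor A) :
    Nat.card E ≤ 2 * Nat.card (zc B) := by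
  obtain ⟨y, hy, e⟩ := SetLike.not_le_iff_exists.1 h'
  have hP := H12.ea_isPGroup hE
  have h1 : E ⊓ nor A ⊓ B ≤ zc B := fun b hb => s.sw_Z (h hy) e hb.2 (ea_sq hE hb.1.1) (ea_com hE hy hb.1.1)
  have h2 := card_le_two_mul (H := nor A) (K := E) fun x hx y hy e => s.sw_mul (h hx) e (h hy)
  by_cases h3 : E ⊓ nor A ≤ B
  · rw [inf_eq_left.2 h3] at h1
    exact h2.trans (Nat.mul_le_mul_left _ (card_le_of_le h1))
  obtain ⟨x, hx, e'⟩ := SetLike.not_le_iff_exists.1 h3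
  have h4 := card_le_two_mul (H := B) (K := E ⊓ nor A) fun x hx y hy => s.fld_mul hP h hx.1 hy.1 hx.2 hy.2
    (ea_sq hE hx.1 ▸ B.one_mem) (ea_sq hE hy.1 ▸ B.one_mem)
  have h5 := two_mul_card_le (h1.lt_of_ne fun e => e' (s.l.mem_B_of_cen (s.nR_of hx.2) (h hx.1)
    (T2.of_mem hP hx.1) (mem_cen.2 fun z hz => ea_com hE (e.ge hz).1.1 hx.1)))
  omega

theorem jt_eq (hP : IsPGroup 2 P) (h1 : B ≤ P) (h2 : P ≤ nor B) : jt 2 P = B := by
  have h : jt 2 P ≤ B := by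
    rw [jt, H12.thompsonSubgroupOf_eq]
    refine sSup_le fun E hE => ?_
    by_cases e : E ≤ nor A
    · rw [← s.l.jtP (hP.to_le (inf_le_left : P ⊓ nor A ≤ P)) (le_inf h1 s.t.nA)
        (inf_le_right.trans s.l.nA_le)]
      exact H12.le_thompsonSubgroupOf (H12.mem_maxEA_of_le hE (le_inf hE.1 e) inf_le_left)
    have h3 := (hE.2.2 A (s.t.AB.trans h1) s.t.eA).trans (s.ea_card hE.2.1 (hE.1.trans h2) e)
    rw [s.t.card_A] at h3
    have := Nat.le_of_mul_le_mul_right h3 Nat.card_pos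
    have := s.hq
    omega
  rw [← jt_eq_of_le h h1, s.l.jt_B]

theorem syl_of (hT : IsSyl 2 T (nor B)) : IsSyl 2 T ⊤ ∧ jt 2 T = B := by
  have h1 : B ≤ T := hT.le_of_le_normalizer s.t.two le_normalizer hT.le
  have h := s.jt_eq hT.isPGroup h1 hT.le
  refine ⟨isSyl_of_isSyl_normalizer (hT.of_le (le_inf le_top le_normalizer) ?_), h⟩
  rw [← h]
  exact inf_le_right.trans (le_normalizer_jt le_rfl)

theorem exists_syl : ∃ T, IsSyl 2 T ⊤ ∧ jt 2 T = B :=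
  let ⟨T, hT⟩ := exists_isSyl 2 (nor B)
  ⟨T, s.syl_of hT⟩

theorem wc : WC 2 B ⊤ :=
  let ⟨_, hT, e⟩ := s.exists_syl
  e ▸ hT.wc_jt

theorem card_B : Nat.card B = q * Nat.card A := by
  rw [← H12.card_inf_mul_relIndex (cen A) B, s.t.relIndex_B, inf_comm, s.l.cenA, mul_comm]

theorem eZ : IsElementaryAbelian 2 (zc B) := s.t.eZ

theorem charX (hf : f ∈ zc B) (h : f ≠ 1) : CharP 2 (cen1 f) := s.am.cen (ea_sq s.eZ hf) h

theorem core_le (h : B ≤ X) : pCoreOf 2 X ≤ nor B :=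
  s.wc.pCoreOf_le_normalizer le_top (le_normalizer_of_le h)

theorem nA_conj (hx : x ∈ nor B) (hg : g ∈ nor A) (hg' : g ∈ nor B) : x * g * x⁻¹ ∈ nor A := by
  by_cases e : x ∈ nor A
  · exact mul_mem (mul_mem e hg) (inv_mem e)
  · exact s.sw_mul (mul_mem hx hg') (fun h => e ((mul_mem_cancel_right hg).1 h)) (inv_mem hx)
      fun h => e (inv_mem_iff.1 h)

theorem comm_dec (hg : g ∈ nor A) (hg' : g ∈ nor B) (ha : a ∈ A) (ha' : a' ∈ A')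
    (h : ⁅g, a' * a⁆ ∈ zc B) : ⁅g, a⁆ ∈ zc B := by
  have h1 : a' * ⁅g, a⁆ * a'⁻¹ ∈ zc B := s.t.inf_eq.le ⟨conj_mem_of_mem_normalizer
    (s.t.nA (s.t.AB' ha')) (cm_mem hg ha), by
      have := mul_mem (inv_mem (cm_mem (s.nA' hg hg') ha')) (s.t.zA' h)
      rwa [show ⁅g, a'⁆⁻¹ * ⁅g, a' * a⁆ = a' * ⁅g, a⁆ * a'⁻¹ by group] at this⟩
  simpa [mul_assoc] using conj_mem_of_mem_normalizer' (Co.nZ (le_normalizer (s.t.AB' ha'))) h1

theorem sw_not_Z (hy : y ∈ nor B) (ha : a ∉ zc B) : y * a * y⁻¹ ∉ zc B := fun e =>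
  ha (by simpa [mul_assoc] using conj_mem_of_mem_normalizer' (Co.nZ hy) e)

theorem sw_sq (hy : y ∈ nor B) (h : y ∉ nor A) (ha : a ∈ A) (e : ⁅y, a⁆ * ⁅y, a⁆ = 1) : a ∈ zc B := by
  have h1 := s.sw_mem hy h ha
  by_contra h2
  rcases s.l.invol (cm_mem hy (s.t.AB ha)) e with h3 | h3
  · exact s.sw_not_Z hy h2 (s.t.inf_eq.le ⟨by simpa [commutatorElement_def] using mul_mem h3 ha, h1⟩)
  · exact h2 (s.t.inf_eq.le ⟨ha, by simpa [commutatorElement_def, mul_assoc] using mul_mem (inv_mem h3) h1⟩)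

theorem mem_A_of (ha : a ∈ A) (h : a ∉ zc B) (hx : x ∈ nor B) (ht : T2 x) (e : Commute x a)
    (e' : ∀ a' ∈ A', Commute x ⁅a, a'⁆) : x ∈ A := by
  have h1 := s.l.nA_of_comm hx ha h e
  refine s.l.cent ha h (s.mem_B h1 hx ht (s.c.sg_of_z (s.nR_of h1) hx fun z hz => ?_)) e.symm
  obtain ⟨a', ha', d, hd, -, rfl⟩ := s.t.sur_mem ha h hz
  rw [(zcom hd.1 (s.t.comm a ha a' ha').1).eq, comm_mul_right_of (e' a' ha')]
  exact cm_mem (s.nD h1 hx) hd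

theorem le_nB_of_W (hf : Gn B R R' f) (hW : cen1 f ≤ nor W) (h1 : W ≤ A) (h2 : ¬ W ≤ zc B) :
    cen1 f ≤ nor B := by
  obtain ⟨P, hP, hB⟩ := exists_isSyl_le s.t.two (zc_le_cen1 hf.z)
  obtain ⟨a, ha, h⟩ := SetLike.not_le_iff_exists.1 h2
  have h3 := le_nor_of_cen (s.charX hf.z hf.ne) hP hW (le_antisymm (fun x hx => s.mem_A_of (h1 ha) h
    (s.wc.le_normalizer hP.isPGroup hB le_top hx.1) (T2.of_mem hP.isPGroup hx.1) (com hx.2 ha).symm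
    fun a' ha' => (com hx.2 (cm_mem' ha (hW (zc_le_cen1 hf.z (s.t.AB' ha'))))).symm)
    (le_inf (s.t.AB.trans hB) ((H12.ea_le_centralizer s.t.eA).trans (centralizer_anti h1))))
    (H12.ea_le_centralizer s.t.eA)
  exact fun g hg => s.l.nB_of_cen s.c s.lt hf.z hf.l (h3 hg) (mem_cen1.1 hg)

theorem le_nB_of_ea (hf : Gn B R R' f) (hW : cen1 f ≤ nor W) (hE : IsElementaryAbelian 2 W)
    (h1 : W ≤ B) (h2 : ¬ W ≤ zc B) : cen1 f ≤ nor B :=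
  (s.l.ea_or hE h1).elim (s.le_nB_of_W hf hW · h2) (s.symm.le_nB_of_W hf.symm hW · h2)

theorem alpha (hf : Gn B R R' f) (h : f ∈ cj g (zc B)) (hg : g ∉ nor B) (hd : d ∈ zc B ⊓ cen R)
    (h' : d ∈ cj g (zc B)) : d = 1 := by_contra fun e => by
  obtain ⟨c, hc, h1⟩ := wc_fratt s.wc (zc_le_cen1 hd.1) (zc_le_cen1 (H52.cj_zc g B ▸ h'))
  have h2 := s.l.nA_opp s.c s.lt (s.nR_eq.le (s.l.cen_d hd e hc))
    fun h3 => hg (by simpa using mul_mem h3 h1)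
  refine hf.l (h2.1.le ⟨hf.z, ?_⟩).2
  rwa [← cj_eq_self (Co.nZ h1), cj_cj, mul_inv_cancel_left]

theorem sw_Z_le (hQ : B ≤ nor Q) (hy : y ∈ Q) (hy' : y ∈ nor B) (h : y ∉ nor A) : zc B ≤ Q :=
  s.Z_le.trans (commutator_le.2 fun a ha a' ha' => by
    have h1 := cm_mem (hQ (s.t.AB' ha')) (cm_mem' hy (hQ (s.t.AB ha)))
    have h2 := s.sw_mem hy' h ha
    rwa [commutatorElement_def y, comm_left_mul_of (ea_com s.t.eA' ha' h2) (zcom (s.r.tri.comm _ ha' _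
      (inv_mem ha)) (s.t.AB' h2)), ea_inv s.t.eA ha, s.t.comm_inv ha ha'] at h1)

theorem exists_D (h : zc B ⊓ cen R ≠ ⊥) (m : F') : ∃ d ∈ zc B ⊓ cen R, s.c'.z.ψ d = m := by
  obtain ⟨z, hz, rfl⟩ := s.c'.z.surj m
  obtain ⟨d, hd, e⟩ := s.dec h hz
  exact ⟨d, hd, (s.c'.z.eq_iff hd.1 hz).2 e⟩

/-- (i) for `D ≠ 1` -/
theorem cen_sp (hD : zc B ⊓ cen R ≠ ⊥) (hf : Gn B R R' f) : cen1 f ≤ nor B := by
  have BX := zc_le_cen1 hf.z
  have nQ := self_le_normalizer_pCoreOf (p := 2) (cen1 f)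
  have QB := s.core_le BX
  have pQ := isPGroup_pCoreOf (p := 2) (cen1 f)
  have ch := (s.charX hf.z hf.ne).le
  set Q := pCoreOf 2 (cen1 f)
  have fg : ∀ {g}, g ∈ cen1 f → f ∈ cj g (zc B) := fun hg => mem_cj_of_comm hf.z (mem_cen1.1 hg)
  by_contra h0
  obtain ⟨g, hg, hg'⟩ := SetLike.not_le_iff_exists.1 h0
  by_cases hQ : Q ≤ nor A
  · obtain ⟨d, hd, e⟩ := (bot_or_exists_ne_one _).resolve_left (inf_centralizer_ne_bot
      (H12.ea_isPGroup (ea_mono s.eZ inf_le_left)) pQ (fun x hx => s.nD (hQ hx) (QB hx)) hD)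
    have h1 : d ∈ oz 2 Q := mem_oz.2 ⟨ch ⟨BX hd.1.1.1, hd.2⟩, hd.2, by rw [sq, ea_sq s.eZ hd.1.1]⟩
    have nW := le_normalizer_oz (p := 2) nQ
    refine h0 (s.le_nB_of_ea hf nW (ea_oz Q) (fun x hx => by_contra fun h => ?_) fun h =>
      e (s.alpha hf (fg hg) hg' hd.1 (mem_cj.2 (h (conj_mem_of_mem_normalizer' (nW hg) h1)))))
    obtain ⟨h2, h3, -⟩ := mem_oz.1 hx
    obtain ⟨a, ha, h4⟩ := s.c.move_a s.l.bk (s.nR_of (hQ h2)) (QB h2)
      (s.sg_ne (hQ h2) (QB h2) (T2.of_mem pQ h2) h)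
    have h5 := cm_mem' h2 (nQ (BX (s.t.AB ha)))
    exact h (s.t.AB (s.mem_A_of (cm_mem (hQ h2) ha) h4 (QB h2) (T2.of_mem pQ h2) (com h3 h5).symm
      fun a' ha' => (com h3 (cm_mem' h5 (nQ (BX (s.t.AB' ha'))))).symm))
  obtain ⟨y, hy, hy'⟩ := SetLike.not_le_iff_exists.1 hQ
  have ZQ := s.sw_Z_le (BX.trans nQ) hy (QB hy) hy'
  have gQ : ∀ {g}, g ∈ cen1 f → cj g (zc B) ≤ Q := fun hg => cj_le_of_le ZQ (nQ hg)
  have Qg : ∀ {g}, g ∈ cen1 f → Q ≤ nor (cj g (zc B)) := fun hg => nor_cj (H52.n_zc QB) (nQ hg)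
  have h1 : ∀ {g x}, g ∈ cen1 f → g ∉ nor B → x ∈ cj g (zc B) → x ∈ nor A → x ∈ B := by
    intro g x hg hg' hx h
    have h2 := QB (gQ hg hx)
    refine s.l.mem_B_of_cen (s.nR_of h) h2 (T2.of_mem pQ (gQ hg hx)) (mem_cen.2 fun z hz => ?_)
    obtain ⟨d, hd, e⟩ := s.dec hD hz
    have h3 := cm_one.1 (s.alpha hf (fg hg) hg' (cm_mem (s.nD h h2) hd) (cm_mem' hx (Qg hg (ZQ hd.1))))
    have h4 := cm_one.1 (s.symm.alpha hf.symm (fg hg) hg' (cm_mem (s.nD' h h2) e)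
      (cm_mem' hx (Qg hg (ZQ e.1))))
    simpa using (h3.mul_right h4).symm
  have h2 : ∀ x ∈ cj g (zc B), x ∈ B := fun x hx => h1 hg hg' hx (by_contra fun h => by
    have h3 : ∀ d ∈ zc B ⊓ cen R, g⁻¹ * d * g ∈ nor A → d = 1 := fun d hd e => by
      have := zcom (mem_cj.1 hx) (h1 (inv_mem hg) (fun e => hg' (inv_mem_iff.1 e))
        (mem_cj.2 (by simpa [mul_assoc] using hd.1)) e)
      exact s.sw_D_eq (QB (gQ hg hx)) h hd (by simpa [mul_assoc] using (this.conj g).symm)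
    obtain ⟨l, h4, h5⟩ := exists_ne_zero_one s.symm.lt
    obtain ⟨d, hd, e⟩ := s.exists_D hD 1
    obtain ⟨d', hd', e'⟩ := s.exists_D hD l
    have k : ∀ {d}, d ∈ zc B → g⁻¹ * d * g ∈ nor B := fun hd =>
      QB (conj_mem_of_mem_normalizer' (nQ hg) (ZQ hd))
    have h6 := congrArg s.c'.z.ψ (h3 _ (mul_mem hd hd') (by
      simpa [mul_assoc] using s.sw_mul (k hd.1) (fun h => by simp [h3 d hd h, Sec.one] at e) (k hd'.1)
        fun h => h4 (by rw [← e', h3 d' hd' h, Sec.one])))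
    rw [s.c'.z.mul _ hd.1 _ hd'.1, e, e', Sec.one] at h6
    exact h5 (by linear_combination h6 - s.c'.two))
  have h3 : cj g (zc B) ≤ zc B := fun x hx => by_contra fun h => by
    have h4 := ea_com (ea_cj s.eZ g) hx (conj_mem_of_mem_normalizer (Qg hg hy) hx)
    rcases s.l.invol (h2 x hx) (ea_sq (ea_cj s.eZ g) hx) with e | e
    · exact h (s.t.mem_Z e (s.sw_mem (QB hy) hy' e) (s.sw_not_Z (QB hy) h) h4)
    · exact h (s.r.tri.mem_Z e (s.symm.sw_mem (QB hy) (s.sw_not (QB hy) hy') e) (s.sw_not_Z (QB hy) h) h4)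
  exact hD (eq_bot_iff.2 fun d hd => s.alpha hf (fg hg) hg' hd
    ((cj_eq_self (mem_normalizer_of_cj_le h3)).ge hd.1))

theorem free (hh : h ∈ R) (hh' : h ∈ nor B) (e : h ∉ B) (hb : b ∈ B) (h1 : Commute h b) :
    b ∈ zc B ⊓ cen R := by
  obtain ⟨l, h0, w, h2⟩ := s.c.lin h hh hh'
  exact s.l.free s.c h0 (mt h2 e) hh hh' w hb (cm_one.2 h1 ▸ one_mem _)

theorem exists_pel {p : ℕ} (hp : p.Prime) (h : p ∣ q - 1) :
    p ≠ 2 ∧ ∃ k ∈ R, k ∈ nor B ∧ k ∉ B ∧ IsPGroup p (zpowers k) := by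
  classical
  haveI := Fact.mk hp
  obtain ⟨l, hl⟩ := exists_prime_orderOf_dvd_card (G := Fˣ) p (by rwa [Fintype.card_units, s.hF])
  have h2 : p ≠ 2 := fun e => by
    have h1 : l = 1 := Units.ext (f2_sq_inj s.c.two (by
      rw [← Units.val_pow_eq_pow_val, ← e, ← hl, pow_orderOf_eq_one]; simp))
    rw [h1, orderOf_one] at hl
    exact hp.one_lt.ne hl
  obtain ⟨k, ⟨hk, hk'⟩, w⟩ := s.c.scal_z l.ne_zero
  have h3 := w.pow (Co.nZ hk') (orderOf k)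
  rw [pow_orderOf_eq_one] at h3
  have h4 : p ∣ orderOf k := hl ▸ orderOf_dvd_of_pow_eq_one (Units.ext (h3.uniq (SL.one _)).2)
  have h5 := orderOf_pow_orderOf_div (orderOf_pos k).ne' h4
  refine ⟨h2, _, pow_mem hk (orderOf k / p), pow_mem hk' _, fun e => ?_,
    isPGroup_zpowers (k := 1) (by rw [pow_one]; exact orderOf_dvd_iff_pow_eq_one.1 h5.dvd)⟩
  exact not_dvd_card_of_isPGroup_ne hp h2 s.t.two (h5 ▸ B.orderOf_dvd_natCard e)

theorem exists_prime : ∃ p : ℕ, p.Prime ∧ p ∣ q - 1 :=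
  Nat.exists_prime_and_dvd (by have := s.hq; omega)

/-- `N(Z) ≤ N(B)` for `D = 1` -/
theorem nZ_le (hD : zc B ⊓ cen R = ⊥) : nor (zc B) ≤ nor B := by
  have BX : nor B ≤ nor (zc B) := H52.n_zc le_rfl
  have nQ := self_le_normalizer_pCoreOf (p := 2) (nor (zc B))
  have QB := s.core_le (le_normalizer.trans BX)
  have pQ := isPGroup_pCoreOf (p := 2) (nor (zc B))
  have pZ := H12.ea_isPGroup s.eZ
  have ZQ := le_pCoreOf pZ le_normalizer le_rfl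
  have ch := fun {N} h1 => le_core_of_chain (N := N) (s.am _ pZ s.l.Z_ne) h1 le_rfl
    (le_normalizer.trans BX)
  set Q := pCoreOf 2 (nor (zc B))
  suffices h : B ≤ Q from s.wc.le_normalizer_of pQ h le_top nQ
  have BB : ⁅B, B⁆ ≤ zc B := s.l.comm_B.le.trans (commutator_le.2 s.t.comm)
  have nQ' : nor A ⊓ nor B ≤ nor (Q ⊓ nor A) :=
    le_normalizer_inf (inf_le_right.trans (BX.trans nQ)) (le_normalizer_of_le inf_le_left)
  have RA : R ⊓ nor B ≤ nor A ⊓ nor B := inf_le_inf_right _ s.l.bk.RA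
  have h0 : ∀ {x}, x ∈ Q → x ∈ nor A → x ∈ B := fun hx h => s.mem_B h (QB hx) (T2.of_mem pQ hx)
    (s.c.sg_of_norm (pQ.to_le inf_le_left) (inf_le_right.trans s.l.nA_le) (inf_le_left.trans QB)
      (RA.trans nQ') ⟨hx, h⟩)
  have QQ := commutator_le_left' (le_normalizer.trans (BX.trans nQ))
  by_cases hQ : Q ≤ nor A
  · exact ch nQ QQ ((commutator_mono (fun x hx => h0 hx (hQ hx)) le_rfl).trans BB) (H52.le_cent_zc B)
  obtain ⟨y, hy, hy'⟩ := SetLike.not_le_iff_exists.1 hQ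
  by_cases h1 : Q ⊓ A ≤ zc B
  swap
  · have h2 : A ≤ Q := fun a ha => by
      obtain ⟨x, hx, e⟩ := s.c.irr_a (le_normalizer_inf (inf_le_right.trans (BX.trans nQ))
        (inf_le_left.trans s.l.bk.RA)) inf_le_right h1 ha
      simpa using mul_mem hx.1 (ZQ e)
    exact s.l.gen.ge.trans (sup_le h2 (s.sw_A (QB hy) hy' ▸ cj_le_of_le_of_mem h2 hy))
  obtain ⟨p, hp, hp'⟩ := s.exists_prime
  obtain ⟨p2, k, hk, hk', kB, pk⟩ := s.exists_pel hp hp'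
  haveI := Fact.mk hp
  have kn : zpowers k ≤ R ⊓ nor B := zpowers_le.2 ⟨hk, hk'⟩
  obtain ⟨n, hn, h2⟩ := exists_mul_mem_centralizer pk (not_dvd_card_of_isPGroup_ne hp p2
    (pQ.to_le (inf_le_left : Q ⊓ nor A ≤ Q))) (kn.trans (RA.trans nQ')) (y := y) fun a ha =>
      ⟨cm_mem (nQ (BX (kn ha).2)) hy, by
        simpa [commutatorElement_def, mul_assoc] using mul_mem (RA (kn ha)).1
          (s.nA_conj (QB hy) (inv_mem (RA (kn ha)).1) (inv_mem (kn ha).2))⟩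
  have tQ := mul_mem hn.1 hy
  have tA : n * y ∉ nor A := fun e => hy' (((nor A).mul_mem_cancel_left hn.2).1 e)
  set t := n * y
  have t2 : t * t = 1 := mem_bot.1 (hD ▸ s.free hk hk' kB (h0 (mul_mem tQ tQ)
    (s.sw_mul (QB tQ) tA (QB tQ) tA)) (com (mul_mem h2 h2) (mem_zpowers k)))
  have QZ : ∀ z ∈ zc B, z ∈ cen Q := fun z hz => by
    obtain ⟨w, hw, e⟩ := s.c.irr_z (X := zc B ⊓ cen Q) (inf_le_right.trans (le_normalizer_inf BX
      (le_normalizer_centralizer (BX.trans nQ)))) inf_le_left (fun e => inf_centralizer_ne_bot pZ pQ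
        (pCoreOf_le _) s.l.Z_ne (eq_bot_iff.2 (hD ▸ e))) hz
    rw [hD, mem_bot, inv_mul_eq_one] at e
    exact e ▸ hw.2
  have h3 : ∀ x ∈ Q, x ∉ nor A → x * x = 1 := fun x hx h => by
    have h4 := mul_mem hx tQ
    obtain ⟨a, ha, a', ha', e⟩ := s.l.dec (h0 h4 (s.sw_mul (QB hx) h (QB tQ) tA))
    have h5 := s.sw_mem (QB tQ) tA ha
    have h6 : t * a * t⁻¹ * a' ∈ Q := by
      have := mul_mem (cm_mem' tQ (nQ (BX (le_normalizer (s.t.AB ha))))) h4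
      rwa [e, commutatorElement_def, mul_assoc, inv_mul_cancel_left] at this
    have h7 : t * a * t⁻¹ * a' ∈ zc B := by_contra fun h => s.sw_not_Z (QB tQ) h (h1
      ⟨conj_mem_of_mem_normalizer (le_normalizer tQ) h6,
        s.symm.sw_mem (QB tQ) (s.sw_not (QB tQ) tA) (mul_mem h5 ha')⟩)
    have c1 := zcom h7 (s.t.AB ha)
    have c2 := com (QZ _ h7) tQ
    have h8 := ea_sq s.eZ h7
    have h9 : x = a * t * a⁻¹ * (t⁻¹ * (t * a * t⁻¹ * a') * t⁻¹) := by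
      rw [ea_inv s.t.eA ha, eq_mul_inv_of_mul_eq e, inv_eq_of_mul_eq_one_right t2]
      simp only [mul_assoc, ← mul_assoc t t, t2, one_mul, ← mul_assoc a a, ea_sq s.t.eA ha]
    generalize t * a * t⁻¹ * a' = w at *
    rw [c2.inv_left.eq, mul_assoc w, ← mul_inv_rev, t2, inv_one, mul_one] at h9
    rw [h9, ← sq, ((c1.mul_left c2).mul_left c1.inv_left).mul_pow, sq w, h8, conj_pow, sq, t2]
    group
  refine ch (N := closure {x | x ∈ Q ∧ x * x ≠ 1} ⊔ zc B) (le_normalizer_sup (fun g hg =>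
    mem_normalizer_of_cj_le ?_) le_rfl) (fun b hb => ?_) ((commutator_mono (sup_le ((closure_le _).2
      fun x hx => h0 hx.1 (by_contra fun h => hx.2 (h3 x hx.1 h))) inf_le_left) le_rfl).trans BB)
      (H52.le_cent_zc B)
  · rw [cj, MonoidHom.map_closure]
    refine closure_mono ?_
    rintro _ ⟨x, hx, rfl⟩
    exact ⟨conj_mem_of_mem_normalizer (nQ hg) hx.1, fun e => hx.2 (by simpa using e)⟩
  have h4 := QQ hb
  have h5 := commutator_le_right' QB hb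
  by_cases e : b * b = 1
  · exact mem_sup_right ((s.l.invol h5 e).elim (fun h => h1 ⟨h4, h⟩) fun h => by_contra fun h' =>
      s.sw_not_Z (QB tQ) h' (h1 ⟨conj_mem_of_mem_normalizer (le_normalizer tQ) h4,
        s.symm.sw_mem (QB tQ) (s.sw_not (QB tQ) tA) h⟩))
  · exact mem_sup_left (subset_closure ⟨h4, e⟩)

theorem sw_R_mem (hy : y ∈ nor B) (h : y ∉ nor A) (hg : g ∈ R) : y * g * y⁻¹ ∈ R' :=
  s.sw_R hy h ▸ conj_mem_cj hg

/-- for `D = 1` all of `N(B)` is semilinear on `Z` -/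
theorem semi_z (hD : zc B ⊓ cen R = ⊥) (hg : g ∈ nor B) : ∃ σ c, SL s.c.z g σ c := by
  by_cases h : g ∈ nor A
  · exact ⟨_, _, s.c.sl_z (s.nR_of h) hg⟩
  have hn : ∀ {g}, g ∈ nor B → g ∈ nn (zc B) (zc B ⊓ cen R) := fun hg =>
    ⟨Co.nZ hg, hD ▸ le_normalizer_bot ⊤ (mem_top _)⟩
  obtain ⟨σ, c, h0, e⟩ := exists_semi (s.c.z.α g).toAddEquiv fun l hl => by
    obtain ⟨k, ⟨hk, hk'⟩, w⟩ := s.c.scal_z hl
    have h1 := s.sw_R_mem hg h hk
    have h2 := mul_mem (mul_mem hg hk') (inv_mem hg)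
    have w' := s.c.sl_z (s.nR_of (s.nA_of h1 h2)) h2
    rw [s.l.ss s.c s.r s.c' h1 h2] at w'
    refine ⟨s.c.ca (g * k * g⁻¹) * s.c.cb (g * k * g⁻¹), fun t => ?_⟩
    obtain ⟨x, hx, rfl⟩ := s.c.z.surj t
    have h3 := w.eq x hx
    have h4 := w'.eq _ (conj_mem_of_mem_normalizer (Co.nZ hg) hx)
    rw [RingAut.one_apply] at h3 h4
    change s.c.z.α g • (l * s.c.z.ψ x) = _ * s.c.z.α g • s.c.z.ψ x
    rw [← h3, s.c.z.α_ψ (hn hg) (conj_mem_of_mem_normalizer (Co.nZ hk') hx), s.c.z.α_ψ (hn hg) hx, ← h4]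
    congr 1
    group
  exact ⟨σ, c, h0, fun x hx => (s.c.z.α_ψ (hn hg) hx).symm.trans (e _)⟩

theorem cen_iff (hD : zc B ⊓ cen R = ⊥) : g ∈ cen (zc B) ↔ ∀ z ∈ zc B, ⁅g, z⁆ ∈ zc B ⊓ cen R := by
  simp only [hD, mem_bot, cm_one, mem_cen, Commute.symm_iff]

theorem sl_ne (hD : zc B ⊓ cen R = ⊥) (hx : x ∈ nor B) (ht : T2 x) (h : x ∉ cen (zc B)) {σ : F ≃+* F}
    {c : F} (w : SL s.c.z x σ c) : σ ≠ 1 := fun e =>
  h ((s.cen_iff hD).2 ((e ▸ w).triv s.c.two (Co.nZ hx) ht))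

theorem mv_mul (hD : zc B ⊓ cen R = ⊥) (hP : IsPGroup 2 P) (h : P ≤ nor B) (hx : x ∈ P) (hy : y ∈ P)
    (h1 : x * x ∈ cen (zc B)) (h2 : y * y ∈ cen (zc B)) (e : x ∉ cen (zc B)) (e' : y ∉ cen (zc B)) :
    x * y ∈ cen (zc B) := by
  obtain ⟨σ, c, w⟩ := s.semi_z hD (h hx)
  obtain ⟨τ, c', w'⟩ := s.semi_z hD (h hy)
  have k : ∀ {x σ c}, x ∈ P → SL s.c.z x σ c → x * x ∈ cen (zc B) → σ * σ = 1 := fun hx w h1 =>
    (((w.mul w (Co.nZ (h hx))).triv_iff (Co.nZ (h (mul_mem hx hx)))).1 ((s.cen_iff hD).1 h1)).1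
  by_contra h3
  refine s.sl_ne hD (h (mul_mem hx hy)) (T2.of_mem hP (mul_mem hx hy)) h3 (w.mul w' (Co.nZ (h hy))) ?_
  rw [aut_eq_of_sq (k hx w h1) (k hy w' h2) (s.sl_ne hD (h hx) (T2.of_mem hP hx) e w)
    (s.sl_ne hD (h hy) (T2.of_mem hP hy) e' w'), k hy w' h2]

theorem sq_cen (hD : zc B ⊓ cen R = ⊥) (hq : q = 4) (hP : IsPGroup 2 P) (h : P ≤ nor B) (hx : x ∈ P) :
    x * x ∈ cen (zc B) := by_contra fun e => by
  obtain ⟨σ, c, w⟩ := s.semi_z hD (h hx)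
  exact s.sl_ne hD (h (mul_mem hx hx)) (T2.of_mem hP (mul_mem hx hx)) e (w.mul w (Co.nZ (h hx)))
    (aut_sq_four (s.hF.trans hq) σ)

theorem fix_le (hD : zc B ⊓ cen R = ⊥) (hx : x ∈ nor B) (ht : T2 x) (h : x ∉ cen (zc B)) :
    Nat.card ↥(zc B ⊓ cen1 x) ^ 2 ≤ q := by
  obtain ⟨σ, c, w⟩ := s.semi_z hD hx
  have := w.fix_le (Co.nZ hx) (s.sl_ne hD hx ht h w) (inf_le_left (b := cen1 x))
    fun z hz => cm_one.2 (mem_cen1.1 hz.2).symm ▸ one_mem _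
  rwa [hD, relIndex_bot_left, s.hF] at this

theorem cardZ' (hD : zc B ⊓ cen R = ⊥) : Nat.card (zc B) = q := by rw [s.cardZ, hD, card_bot, mul_one]

theorem gn_of (hD : zc B ⊓ cen R = ⊥) (hf : f ∈ zc B) (h : f ≠ 1) : Gn B R R' f :=
  ⟨hf, fun e => h (mem_bot.1 (hD ▸ mem_inf.2 ⟨hf, e⟩)), fun e => h (mem_bot.1 (s.D_bot hD ▸ mem_inf.2 ⟨hf, e⟩))⟩

theorem trans_z (hD : zc B ⊓ cen R = ⊥) (hf : f ∈ zc B) (h : f ≠ 1) (hz : z ∈ zc B) (h' : z ≠ 1) :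
    ∃ k ∈ R ⊓ nor B, k * f * k⁻¹ = z := by
  have h1 := fun {f} (hf : f ∈ zc B) (h : f ≠ 1) => mt (s.c.z.ker f hf).1 fun e => (s.gn_of hD hf h).l e.2
  obtain ⟨k, hk, w⟩ := s.c.scal_z (div_ne_zero (h1 hz h') (h1 hf h))
  have h2 := (s.c.z.eq_iff (conj_mem_of_mem_normalizer (Co.nZ hk.2) hf) hz).1 (by
    rw [w.eq f hf, RingAut.one_apply, div_mul_cancel₀ _ (h1 hf h)])
  rw [hD, mem_bot, inv_mul_eq_one] at h2
  exact ⟨k, hk, h2⟩

theorem Z_le_core (hD : zc B ⊓ cen R = ⊥) (hf : f ∈ zc B) (h : f ≠ 1) : zc B ≤ pCoreOf 2 (cen1 f) := by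
  have BX := zc_le_cen1 hf
  have nQ := self_le_normalizer_pCoreOf (p := 2) (cen1 f)
  have QB := s.core_le BX
  have pQ := isPGroup_pCoreOf (p := 2) (cen1 f)
  have ch := fun {A} => (s.charX hf h).le_pCoreOf (A := A)
  set Q := pCoreOf 2 (cen1 f)
  by_cases hQ : Q ≤ nor A
  swap
  · obtain ⟨y, hy, hy'⟩ := SetLike.not_le_iff_exists.1 hQ
    exact s.sw_Z_le (BX.trans nQ) hy (QB hy) hy'
  by_cases h1 : Q ≤ B
  · exact ch (inf_le_left.trans BX) (inf_le_right.trans (centralizer_anti h1))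
  obtain ⟨x, hx, e⟩ := SetLike.not_le_iff_exists.1 h1
  obtain ⟨a, ha, h2⟩ := s.c.move_a s.l.bk (s.nR_of (hQ hx)) (QB hx)
    (s.sg_ne (hQ hx) (QB hx) (T2.of_mem pQ hx) e)
  intro z hz
  obtain ⟨a', ha', d, hd, -, rfl⟩ := s.t.sur_mem (cm_mem (hQ hx) ha) h2 hz
  rw [hD, mem_bot] at hd
  rw [hd, mul_one]
  exact cm_mem' (cm_mem' hx (nQ (BX (s.t.AB ha)))) (nQ (BX (s.t.AB' ha')))

/-- (i) for `D = 1` up to the configuration of `J₃` -/
theorem cen_l3 (hD : zc B ⊓ cen R = ⊥) (hT : IsSyl 2 T ⊤) (e : jt 2 T = B) (hf : f ∈ zc B) (h : f ≠ 1)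
    (fT : T ≤ cen1 f) (h0 : ¬ cen1 f ≤ nor B) :
    q = 4 := by
  have BX := zc_le_cen1 hf
  have nQ := self_le_normalizer_pCoreOf (p := 2) (cen1 f)
  have QB := s.core_le BX
  have pQ := isPGroup_pCoreOf (p := 2) (cen1 f)
  have ZQ := s.Z_le_core hD hf h
  set Q := pCoreOf 2 (cen1 f) with hQ
  have gQ : ∀ {g}, g ∈ cen1 f → cj g (zc B) ≤ Q := fun hg => cj_le_of_le ZQ (nQ hg)
  have h1 : ¬ ∀ g ∈ cen1 f, cj g (zc B) ≤ cen (zc B) := fun h1 => by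
    have hE : IsElementaryAbelian 2 (ncl (cen1 f) (zc B)) := H12.ea_iSup (fun g => ea_cj s.eZ g)
      fun g k => by
        rw [← cj_centralizer, le_cj_iff, cj_cj]
        exact h1 _ (mul_mem (inv_mem k.2) g.2)
    have nW := le_normalizer_ncl (cen1 f) (zc B)
    have WQ := ncl_le ZQ nQ
    refine h0 (by_contra fun h2 => h2 (s.le_nB_of_ea (s.gn_of hD hf h) nW hE (fun x hx => ?_) fun h3 =>
      h2 (le_trans (le_antisymm h3 (le_ncl _ _) ▸ nW) (s.nZ_le hD))))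
    refine s.l.mem_B_of_cen (s.nR_of (by_contra fun h3 => s.t.not_le fun a ha => s.sw_sq (QB (WQ hx)) h3 ha
      (ea_sq hE (cm_mem' hx (nW (BX (s.t.AB ha))))))) (QB (WQ hx)) (T2.of_mem pQ (WQ hx))
      (mem_cen.2 fun z hz => ea_com hE (le_ncl _ _ hz) hx)
  push Not at h1
  obtain ⟨g, hg, h1⟩ := h1
  obtain ⟨x, hx, hx'⟩ := SetLike.not_le_iff_exists.1 h1
  have mv : ∀ {g x y}, g ∈ cen1 f → x ∈ cj g (zc B) → y ∈ cj g (zc B) → x ∉ cen (zc B) →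
      y ∉ cen (zc B) → x * y ∈ cen (zc B) := fun hg hx hy => s.mv_mul hD pQ QB (gQ hg hx) (gQ hg hy)
    (ea_sq (ea_cj s.eZ _) hx ▸ one_mem _) (ea_sq (ea_cj s.eZ _) hy ▸ one_mem _)
  have xQ := gQ hg hx
  have hq : q = 4 := by
    have h2 := card_le_two_mul (H := cen (zc B)) (K := cj g⁻¹ (zc B)) fun x hx y hy => mv (inv_mem hg) hx hy
    have h3 := card_le_of_le (show cj g (cj g⁻¹ (zc B) ⊓ cen (zc B)) ≤ zc B ⊓ cen1 x by
      rw [cj_inf, cj_cj_inv, cj_centralizer]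
      exact inf_le_inf_left _ fun y hy => mem_cen1.2 (com hy hx).symm)
    have h4 := s.fix_le hD (QB xQ) (T2.of_mem pQ xQ) hx'
    rw [card_cj, s.cardZ' hD] at h2
    rw [card_cj] at h3
    have := s.four_le
    nlinarith
  exact hq

end TW

end H96.PU
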