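import Cfsg.Agent.H96.U2CenSpec
import Cfsg.Agent.H77.DpuHH
import Cfsg.Agent.H9.CenOL
import Cfsg.Agent.H64.CenTR0
import Cfsg.Agent.H13.U2CenTR
import Cfsg.Agent.H41.CenHY
import Cfsg.Agent.H61.CenQ4a
import Cfsg.Agent.H24.DPWQ4
import Cfsg.Agent.H26.DPWTRL
import Cfsg.Agent.H18.DPWTVg
import Cfsg.Agent.H88.DPWTRg
import Cfsg.Agent.H89.DPWHQ
import Cfsg.Agent.H65.CenKB
import Cfsg.Agent.H55.CenP1
import Cfsg.Agent.H83.DPWPair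
import Cfsg.Agent.H77.DpwZ
import Cfsg.Agent.H30.CenSQ
import Cfsg.Agent.H6.DpwAB
import Cfsg.Agent.H47.CenVx
import Cfsg.Agent.H33.CenWalk

/-! # S3275, chapter U2F: the central case, assembled -/

set_option autoImplicit false

namespace H96.Cen

universe u

theorem ol : OL.{u} := H9.CenOL.jobOL

theorem tr : TR.{u} := H13.U2CenTR.jobTR ol H64.CenTR0.jobTR0

theorem hy : HY.{u} := H41.CenHY.jobHY

theorem q4 : Q4.{u} := H24.DPW.jobQ4 (H61.CenQ4a.jobQ4a ol)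

theorem sq : SQ.{u} := H30.Cen.jobSQ

theorem cen : CEN.{u} :=
  cen_of H77.DpuHH.jobHH H9.CenOL.jobOL H64.CenTR0.jobTR0 H13.U2CenTR.jobTR H41.CenHY.jobHY
    H61.CenQ4a.jobQ4a H24.DPW.jobQ4 H26.DPW.jobTRL H18.Cen.jobTVg H88.DPWTRg.jobTRg
    H89.DPWHQ.jobHQg H65.CenKB.jobKB H65.CenKB.jobFX H55.CenP1.jobP1 H83.DPW.jobPair
    H77.DpwZ.jobZ H30.Cen.jobSQ H6.DpwAB.jobAB H47.CenVx.jobVx H33.CenWalk.jobWalk

end H96.Cen
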