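import Cfsg.Agent.H27.U2F0
import Cfsg.Agent.H25.U2IB0
import Cfsg.Agent.H9.U2IYY
import Cfsg.Agent.H58.U2IVV
import Cfsg.Agent.H77.DpuHH
import Cfsg.Agent.H88.DPUNV
import Cfsg.Agent.H62.DPUTLa
import Cfsg.Agent.H4.DpuTL
import Cfsg.Agent.H3.U2IB1
import Cfsg.Agent.H80.U2IB4
import Cfsg.Agent.H13.U2IB5a
import Cfsg.Agent.H69.U2IB5b
import Cfsg.Agent.H89.U2GA
import Cfsg.Agent.H33.U2IGB

/-! # S3275, chapter U2I assembled -/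

set_option autoImplicit false

namespace H96.U2I

universe u

theorem u2i : H48.DP2.U2I.{u} :=
  u2i_of H27.U2F0.jobF0 H77.DpuHH.jobCX H25.U2IB0.jobB0 H9.U2IYY.jobYY H58.U2IVV.jobVV
    H77.DpuHH.jobHH H88.DPUNV.jobNV H62.DPU.jobTLa H4.DpuTL.jobTL H3.U2IB1.jobB1 H80.U2IB4.jobB4
    H13.U2IB5a.jobB5a H89.U2.jobGA H33.U2IGB.jobGB H69.U2IB.jobB5b

theorem u2f_of_II (h : H48.DP2.U2II.{u}) : H48.DP2.U2F.{u} :=
  H77.DpuHH.jobU2F H77.DpuHH.jobHome u2i h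

end H96.U2I
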