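/- U5 tower (row S5258), slot A2AS: the automorphisms of `Q₂` and of `S`. -/
import Cfsg.Agent.H90.U5Kit

set_option autoImplicit false
set_option linter.unusedSectionVars false
set_option linter.unusedSimpArgs false

open Subgroup H90.U5
open H90.RF (cm Au Pr Cg)

universe v

namespace H96.U5A2

variable {K : Type*} [Field K] {T : BF K} {β θ : Co T → Co T} {s m u w : Co T}

theorem cm_d2 (hs : s.a = 0) (hm : m.a = 0) : (cm s m).d = s.c * T.σ m.b - m.c * T.σ s.b := by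
  simp [cm_d, hs, hm]

theorem zlem (hm : m.a = 0) (hs : s.a = 0) (he : (cm s m).e = 0) (hd : (cm s m).d = 0)
    (hg : (cm s m).g ≠ 0) : m.b = 0 := by
  rw [cm_e] at he
  rw [cm_d2 hs hm] at hd
  rw [cm_g2 hs hm] at hg
  have hd' := congrArg T.σ hd
  simp only [map_sub, map_mul, T.sq, map_zero] at hd'
  by_contra hb
  refine hg (mul_left_cancel₀ (mul_ne_zero hb ((map_ne_zero T.σ).2 hb)) ?_)
  linear_combination (m.c * T.σ m.b) * hd' - (m.b * T.σ m.c) * hd + m.c * T.σ m.c * he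

theorem elem (hm : m.a = 0) (hs : s.a = 0) (he : (cm s m).e ≠ 0) (hd : (cm s m).d = 0)
    (hg : (cm s m).g = 0) : m.c = 0 := by
  rw [cm_e] at he
  rw [cm_d2 hs hm] at hd
  rw [cm_g2 hs hm] at hg
  have hd' := congrArg T.σ hd
  simp only [map_sub, map_mul, T.sq, map_zero] at hd'
  by_contra hb
  refine he (mul_left_cancel₀ (mul_ne_zero hb ((map_ne_zero T.σ).2 hb)) ?_)
  linear_combination (-(m.c * T.σ m.b)) * hd' + (m.b * T.σ m.c) * hd + m.b * T.σ m.b * hg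

theorem xcQ (t : K) : xc T t ∈ sQ2 T := rfl
theorem xbQ (t : K) : xb T t ∈ sQ2 T := rfl

theorem scal {M M' : Co T → Co T} (hM : Pr M (sQ2 T)) (hM' : Pr M' (sQ2 T))
    (k : ∀ u ∈ sQ2 T, ∀ w ∈ sQ2 T, cm (M u) (M' w) = cm u w) :
    ∃ μ, ∀ u ∈ sQ2 T, (M u).c = μ * u.c ∧ (M u).b = μ * u.b := by
  have ε := T.ε_ne
  have h1 : (M' (xc T 1)).b = 0 := by
    have := k _ (xcQ T.ω) _ (xcQ 1)
    refine zlem (hM' _ (xcQ 1)) (hM _ (xcQ T.ω)) ?_ ?_ ?_ <;> rw [this]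
    · simp [cm_e, xc]
    · simp [cm_d, xc]
    · rw [cm_g2 rfl rfl]; simpa [xc, sub_eq_zero] using T.ne
  have h2 : (M' (xb T 1)).c = 0 := by
    have := k _ (xbQ T.ω) _ (xbQ 1)
    refine elem (hM' _ (xbQ 1)) (hM _ (xbQ T.ω)) ?_ ?_ ?_ <;> rw [this]
    · simpa [cm_e, xb, BF.ε] using ε
    · simp [cm_d, xb]
    · rw [cm_g2 rfl rfl]; simp [xb]
  have h3 : ∀ u ∈ sQ2 T, (M u).c * T.σ (M' (xb T 1)).b = u.c := fun u hu => by
    have := congrArg Co.d (k u hu _ (xbQ 1))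
    rw [cm_d2 (hM u hu) (hM' _ (xbQ 1)), cm_d2 hu rfl, h2] at this
    simpa [xb] using this
  have h4 : ∀ u ∈ sQ2 T, (M u).b * T.σ (M' (xc T 1)).c = u.b := fun u hu => by
    have := congrArg Co.d (k u hu _ (xcQ 1))
    rw [cm_d2 (hM u hu) (hM' _ (xcQ 1)), cm_d2 hu rfl, h1] at this
    have := congrArg T.σ this
    rw [show (xc T 1).b = 0 from rfl, show (xc T 1).c = 1 from rfl] at this
    simp [T.sq] at this
    rw [mul_comm, this]
  generalize hp : (M' (xb T 1)).b = p at h3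
  generalize hq : (M' (xc T 1)).c = q at h4
  have p0 : T.σ p ≠ 0 := fun e => by simpa [e, xc] using h3 _ (xcQ 1)
  have h5 : T.σ q = T.σ p := by
    have := (T.lin_zero (x := T.σ p - T.σ q) (y := T.σ p * (q / p - 1)) fun t => by
      have k1 := congrArg Co.g (k _ (xcQ t) _ (xcQ 1))
      rw [cm_g2 (hM _ (xcQ t)) (hM' _ (xcQ 1)), cm_g2 rfl rfl, hq] at k1
      have k2 := h3 _ (xcQ t)
      have k3 := congrArg T.σ k2
      have p1 : p ≠ 0 := (map_ne_zero _).1 p0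
      simp only [xc, map_mul, T.sq, map_one] at k1 k2 k3
      field_simp
      linear_combination (p * T.σ p) * k1 + p * T.σ q * k2 - T.σ p * q * k3).1
    exact (sub_eq_zero.1 this).symm
  refine ⟨(T.σ p)⁻¹, fun u hu => ⟨?_, ?_⟩⟩
  · rw [← h3 u hu]; field_simp
  · rw [← h4 u hu, h5]; field_simp

theorem memV (hu : u ∈ sQ2 T) (h : ∀ s ∈ sQ2 T, cm s u ∈ (⊥ : Subgroup (Co T))) : u ∈ sV T := by
  have h1 := congrArg Co.d (mem_bot.1 (h _ (xcQ 1)))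
  have h2 := congrArg Co.d (mem_bot.1 (h _ (xbQ 1)))
  rw [cm_d2 rfl hu] at h1 h2
  exact ⟨hu, by simpa [xc] using h1, by simpa [xb] using h2⟩

theorem prB {X : Subgroup (Co T)} (h : Au X β) : Pr β ⊥ := fun c hc => by
  rw [mem_bot.1 hc, h.one]; exact one_mem _

variable [Finite K]

theorem prV (h : Au (sQ2 T) β) : Pr β (sV T) := fun u hu =>
  memV (h.mem u hu.1) (h.cm_mem' le_rfl h.mem (prB h) hu.1 fun _ hs => cm_V hs hu)

theorem modV (h : Au (sQ2 T) β) (hu : u ∈ sQ2 T) (hw : w ∈ sQ2 T) (h1 : w.c = u.c)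
    (h2 : w.b = u.b) : (β w).c = (β u).c ∧ (β w).b = (β u).b := by
  have := prV h _ ((Q2_mod hu hw).2 ⟨h1, h2⟩)
  rw [h.mul _ (inv_mem hu) w hw, h.inv hu] at this
  exact (Q2_mod (h.mem u hu) (h.mem w hw)).1 this

theorem cm_sc {l : K} (hl : l ≠ 0) (hu : u ∈ sQ2 T) (hw : w ∈ sQ2 T) :
    cm (w2 T (l * u.c) (l * u.b)) (w2 T ((T.σ l)⁻¹ * w.c) ((T.σ l)⁻¹ * w.b)) = cm u w := by
  have := (map_ne_zero T.σ).2 hl
  have h1 : ∀ c b, (w2 T c b).a = 0 := w2_mem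
  ext
  · simp
  · simp
  · rw [(cm_Q2 (w2_mem _ _) (w2_mem _ _)).2.2, (cm_Q2 hu hw).2.2]
  · simp only [cm_e, w2_b, map_mul, map_inv₀, T.sq]; field_simp
  · simp only [cm_d2 (h1 _ _) (h1 _ _), cm_d2 hu hw, w2_b, w2_c, map_mul, map_inv₀, T.sq]; field_simp
  · simp only [cm_g2 (h1 _ _) (h1 _ _), cm_g2 hu hw, w2_c, map_mul, map_inv₀, T.sq]; field_simp

theorem semi (h : Au (sQ2 T) β) (l : K) : ∃ μ, ∀ u ∈ sQ2 T, ∀ w ∈ sQ2 T, w.c = l * u.c →
    w.b = l * u.b → (β w).c = μ * (β u).c ∧ (β w).b = μ * (β u).b := by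
  by_cases hl : l = 0
  · refine ⟨0, fun u _ w hw h1 h2 => ?_⟩
    have := prV h w ⟨hw, by simpa [hl] using h2, by simpa [hl] using h1⟩
    simp [this.2.1, this.2.2]
  obtain ⟨γ, hγ, k1, k2⟩ := h.exists_inv
  obtain ⟨μ, hμ⟩ := scal (M := fun v => β (w2 T (l * (γ v).c) (l * (γ v).b)))
    (M' := fun v => β (w2 T ((T.σ l)⁻¹ * (γ v).c) ((T.σ l)⁻¹ * (γ v).b)))
    (fun _ _ => h.mem _ (w2_mem _ _)) (fun _ _ => h.mem _ (w2_mem _ _)) fun u hu w hw => by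
      rw [← h.cm (w2_mem _ _) (w2_mem _ _), cm_sc hl (hγ.mem u hu) (hγ.mem w hw),
        h.cm (hγ.mem u hu) (hγ.mem w hw), k1 u hu, k1 w hw]
  refine ⟨μ, fun u hu w hw h1 h2 => ?_⟩
  have k := hμ _ (h.mem u hu)
  simp only [k2 u hu] at k
  obtain ⟨k3, k4⟩ := modV h (w2_mem (l * u.c) (l * u.b)) hw (by simpa using h1) (by simpa using h2)
  exact ⟨k3.trans k.1, k4.trans k.2⟩

theorem a2 : A2 T := fun β h => by
  choose μ hμ using semi h
  obtain ⟨u0, h0, e0⟩ := h.sur _ (xcQ 1)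
  have f : ∀ l, μ l = (β (w2 T (l * u0.c) (l * u0.b))).c := fun l => by
    rw [(hμ l u0 h0 _ (w2_mem _ _) (w2_c _ _) (w2_b _ _)).1, e0, xc, mul_one]
  have f1 : μ 1 = 1 := by
    have := (hμ 1 u0 h0 u0 h0 (one_mul _).symm (one_mul _).symm).1
    rw [e0, xc, mul_one] at this
    exact this.symm
  have a0 : ∀ c b, (w2 T c b).a = 0 := w2_mem
  have b0 : ∀ u ∈ sQ2 T, (β u).a = 0 := h.mem
  obtain ⟨φ, hφ⟩ := exists_semi μ (fun x y => by
    rw [f, f, f, (modV h (mul_mem (w2_mem (x * u0.c) (x * u0.b)) (w2_mem (y * u0.c) (y * u0.b)))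
      (w2_mem _ _) (by simp [a0, add_mul]) (by simp [add_mul])).1, h.mul _ (w2_mem _ _) _ (w2_mem _ _),
      Co.mul_c, b0 _ (w2_mem _ _), zero_mul, add_zero]) (by rw [f1]; exact one_ne_zero) fun x y => by
    rw [f1, mul_one, f (x * y), f y]
    exact (hμ x _ (w2_mem _ _) _ (w2_mem _ _) (by simp [mul_assoc]) (by simp [mul_assoc])).1
  simp only [f1, one_mul] at hφ
  refine ⟨φ, (β (xc T 1)).c, (β (xb T 1)).c, (β (xc T 1)).b, (β (xb T 1)).b, fun u hu => ?_⟩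
  obtain ⟨k1, k2⟩ := modV h (w2_mem u.c u.b) hu (by simp) (by simp)
  obtain ⟨k3, k4⟩ := hμ u.c _ (xcQ 1) _ (xcQ u.c) (by simp [xc]) (by simp [xc])
  obtain ⟨k5, k6⟩ := hμ u.b _ (xbQ 1) _ (xbQ u.b) (by simp [xb]) (by simp [xb])
  rw [k1, k2, w2, h.mul _ (xcQ _) _ (xbQ _), Co.mul_c, Co.mul_b, b0 _ (xcQ _), k3, k4, k5, k6, hφ, hφ]
  constructor <;> ring

theorem jobA2 : JobA2.{v} := fun _ _ _ _ _ _ _ => a2

/-! ### The automorphisms of `S` -/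

omit [Finite K] in
theorem memZ3 (h : ∀ s ∈ (⊤ : Subgroup (Co T)), cm s u ∈ sZ2 T) : u ∈ sZ3 T := by
  have h1 := (h (xa T 1) trivial).2.2.1
  have h2 := (h (xb T 1) trivial).2.2.1
  exact ⟨by simpa [cm_c, xb] using h2, by simpa [cm_c, xa] using h1⟩

omit [Finite K] in
theorem memZ2 (h : ∀ s ∈ (⊤ : Subgroup (Co T)), cm s u ∈ sZ T) : u ∈ sZ2 T := by
  obtain ⟨k1, k2⟩ := memZ3 fun s hs => Z_le (h s hs)
  have h1 := (h (xa T 1) trivial).2.2.2.2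
  have h2 := (h (xb T 1) trivial).2.2.2.2
  exact ⟨k1, k2, by simpa [cm_d, xb, k1, k2] using h2, by simpa [cm_d, xa, k1, k2] using h1⟩

omit [Finite K] in
theorem memZ (h : ∀ s ∈ (⊤ : Subgroup (Co T)), cm s u ∈ (⊥ : Subgroup (Co T))) : u ∈ sZ T := by
  have k := memZ2 fun s hs => bot_le (a := sZ T) (h s hs)
  refine ⟨k.1, k.2.1, k.2.2.1, k.2.2.2, neg_eq_zero.1 (T.lin_zero (x := T.σ u.d) fun t => ?_).2⟩
  have := congrArg Co.g (mem_bot.1 (h (xa T t) trivial))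
  rw [cm_gZ _ k] at this
  simp only [xa, Co.one_g] at this
  linear_combination this

omit [Finite K] in
theorem memQ2 (h : ∀ m ∈ sZ2 T, cm u m ∈ (⊥ : Subgroup (Co T))) : u ∈ sQ2 T := by
  refine (T.lin_zero (x := -T.σ u.a) fun t => ?_).2
  have k : xd T t ∈ sZ2 T := ⟨rfl, rfl, rfl, rfl⟩
  have := congrArg Co.g (mem_bot.1 (h _ k))
  rw [cm_gZ _ k] at this
  simp only [xd, Co.one_g] at this
  linear_combination this

section

variable (h : Au ⊤ θ)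
include h

theorem tZ : Pr θ (sZ T) := fun _ hu =>
  memZ (h.cm_mem' le_rfl h.mem (prB h) trivial fun s _ => cm_one s hu)
theorem tZ2 : Pr θ (sZ2 T) := fun _ hu =>
  memZ2 (h.cm_mem' le_rfl h.mem (tZ h) trivial fun s _ => cm_Z s hu)
theorem tZ3 : Pr θ (sZ3 T) := fun _ hu =>
  memZ3 (h.cm_mem' le_rfl h.mem (tZ2 h) trivial fun s _ => cm_Z2 s hu)
theorem tQ2 : Pr θ (sQ2 T) := fun _ hu =>
  memQ2 (h.cm_mem le_top (tZ2 h) (prB h) trivial fun _ hm => cm_V hu (Z2_le_V hm))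
theorem tV : Pr θ (sV T) := prV (h.restrict le_top (tQ2 h))

theorem tz0 : ∀ i, Pr θ (z0 T i)
  | 0 => prB h
  | 1 => tZ h
  | 2 => tZ2 h
  | 3 => tV h
  | 4 => tZ3 h
  | 5 => tQ2 h
  | _ + 6 => h.mem

theorem md {X : Subgroup (Co T)} (p : Pr θ X) (k : u⁻¹ * w ∈ X) : (θ u)⁻¹ * θ w ∈ X := by
  rw [← h.inv trivial, ← h.mul _ trivial _ trivial]; exact p _ k

theorem tQ1 {x : K} {φ : RingAut K} (hx : x ≠ 0) (ha : ∀ u, (θ u).a = x * φ u.a) : Pr θ (sQ1 T) := by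
  obtain ⟨t0, h0⟩ := φ.surjective T.ω
  have xR : ∀ t, xa T t ∈ sQ1 T := fun _ => ⟨rfl, rfl⟩
  have r1 : ∀ w ∈ sR T, (θ w).b = φ w.a * (θ (xa T 1)).b := fun w hw => by
    have := (tZ2 h _ (cm_R (xR 1).1 hw)).2.2.1
    rw [h.cm trivial trivial, cm_c, ha, ha] at this
    refine mul_left_cancel₀ hx ?_
    simp only [xa, map_one] at this ⊢
    linear_combination this
  have r2 : (θ (xa T 1)).b = 0 := by
    have := (tZ2 h _ (cm_R (xR 1).1 (xR t0).1)).2.2.2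
    rw [h.cm trivial trivial, cm_e, r1 _ (xR t0).1, show (xa T t0).a = t0 from rfl, h0, map_mul] at this
    refine T.nm_zero (mul_right_cancel₀ T.ε_ne ?_)
    rw [BF.ε]
    linear_combination -this
  have r3 : ∀ w ∈ sR T, (θ w).b = 0 := fun w hw => by rw [r1 w hw, r2, mul_zero]
  have r4 : ∀ w ∈ sQ1 T, (θ w).e = φ w.a * (θ (xa T 1)).e := fun w hw => by
    have := (tZ h _ (cm_Q1 (xR 1) hw)).2.2.2.2
    rw [h.cm trivial trivial, cm_d, ha, ha, r2, r3 w hw.1] at this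
    refine mul_left_cancel₀ hx ?_
    simp only [xa, map_one, map_zero] at this ⊢
    linear_combination this
  have r5 : (θ (xa T 1)).e = 0 := by
    refine (T.lin_zero (y := T.σ (θ (xa T 1)).e) fun t => ?_).1
    obtain ⟨t, rfl⟩ := φ.surjective t
    have := R_tr (r3 _ (xR t).1)
    rw [r4 _ (xR t), show (xa T t).a = t from rfl, map_mul] at this
    linear_combination this
  exact fun w hw => ⟨r3 w hw.1, by rw [r4 w hw, r5, mul_zero]⟩

end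

theorem as_of (a2 : A2 T) : AS T := fun θ h => by
  obtain ⟨φ, m, n, r, s, k⟩ := a2 θ (h.restrict le_top (tQ2 h))
  have cZ : ∀ t, xc T t ∈ sZ3 T := fun _ => ⟨rfl, rfl⟩
  obtain rfl : r = 0 := by
    have := (k _ (xcQ 1)).2
    rw [(tZ3 h _ (cZ 1)).2] at this
    simpa [xc] using this.symm
  have kc : ∀ t, (θ (xc T t)).c = m * φ t := fun t => by simpa [xc] using (k _ (xcQ t)).1
  have kb : ∀ t, (θ (xb T t)).b = s * φ t := fun t => by simpa [xb] using (k _ (xbQ t)).2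
  have m0 : m ≠ 0 := fun e => one_ne_zero (h.mem_of le_top (tV h) trivial
    ⟨(tZ3 h _ (cZ 1)).1, (tZ3 h _ (cZ 1)).2, by rw [kc, e, zero_mul]⟩).2.2
  have s0 : s ≠ 0 := fun e => one_ne_zero (h.mem_of le_top (tZ3 h) trivial
    ⟨tQ2 h _ (xbQ 1), by rw [kb, e, zero_mul]⟩).2
  have ha : ∀ u, (θ u).a = m / s * φ u.a := fun u => by
    have := (k _ (cm_a u (xb T 1))).1
    rw [h.cm trivial trivial, cm_c, cm_c, kb, show (θ (xb T 1)).a = 0 from tQ2 h _ (xbQ 1)] at this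
    simp only [xb, cm_b, map_zero, map_one, mul_one, zero_mul, sub_zero, mul_zero, add_zero] at this
    field_simp
    exact this
  have s1 := (map_ne_zero T.σ).2 s0
  refine ⟨tz0 h, tQ1 h (div_ne_zero m0 s0) ha,
    ⟨(Units.mk0 _ (div_ne_zero m0 s0), Units.mk0 s s0), φ⟩, fun i hi u hu => ?_⟩
  interval_cases i
  · obtain ⟨t, ht⟩ := T.exists_sub (Z_tr hu)
    have e : u = cm (xc T 1) (xc T t) := eq_of_Z hu
      ⟨cm_a _ _, cm_b _ _, by simp [cm_c, xc], by simp [cm_e, xc], by simp [cm_d, xc]⟩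
      (by rw [cm_g2 rfl rfl, ht]; simp [xc])
    refine mem_bot.2 (inv_mul_eq_one.2 (eq_of_Z (pr_sd_z0 _ 1 u hu) (tZ h u hu) ?_))
    conv_rhs => rw [e, h.cm trivial trivial, cm_g2 (tQ2 h _ (xcQ _)) (tQ2 h _ (xcQ _)), kc, kc]
    simp only [sd, dg, fa, ht, Units.val_mk0, map_sub, map_mul, map_div₀, map_one, T.comm]
    field_simp
  · have e := md h (tZ h) (u := u) (w := cm (xc T u.d) (xb T 1))
      (by simp [mem_sZ, cm_c, cm_e, cm_d, xc, xb, hu.1, hu.2.1, hu.2.2.1, hu.2.2.2])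
    obtain ⟨k1, k2, k3, k4⟩ := tZ2 h u hu
    have e' := e.2.2.2.2
    rw [h.cm trivial trivial, Co.mul_d, cm_d2 (tQ2 h _ (xcQ _)) (tQ2 h _ (xbQ _)), kc, kb,
      (tZ3 h _ (cZ _)).2] at e'
    show _ ∈ sZ T
    simp [mem_sZ, sd, dg, fa, hu.1, hu.2.1, hu.2.2.1, hu.2.2.2, k1, k2, k3, k4] at e' ⊢
    field_simp
    linear_combination -e'
  · obtain ⟨t, ht⟩ := T.exists_sub (R_tr hu.2.1)
    have e := md h (tZ2 h) (u := u) (w := cm (xb T t) (xb T 1))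
      (by simp [mem_sZ2, cm_c, cm_e, xb, hu.1, hu.2.1, hu.2.2, ht, T.sq])
    obtain ⟨k1, k2, k3⟩ := tV h u hu
    have e' := e.2.2.2
    rw [h.cm trivial trivial, Co.mul_e, cm_e, kb, kb, Co.inv_e, Co.σe] at e'
    show _ ∈ sZ2 T
    simp [mem_sZ2, sd, dg, fa, hu.1, hu.2.1, hu.2.2, k1, k2, k3, ht, T.comm, T.sq] at e' ⊢
    linear_combination -e'
  · obtain ⟨k1, k2⟩ := tZ3 h u hu
    have e := (k u hu.1).1
    show _ ∈ sV T
    simp [mem_sV, sd, dg, fa, hu.1, hu.2, k1, k2, e]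
    field_simp
    simp
  · have k1 : (θ u).a = 0 := tQ2 h u hu
    have h1 : u.a = 0 := hu
    show _ ∈ sZ3 T
    simp [mem_sZ3, sd, dg, fa, h1, k1, (k u hu).2]
  · show _ ∈ sQ2 T
    simp [mem_sQ2, sd, dg, fa, ha]

theorem jobAS : JobAS.{v} := fun _ _ _ _ _ _ _ => as_of

end H96.U5A2
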